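import Cfsg.Agent.Lib.SuzUnique.Frame

/-!
The admissible actions of the four-group on the coordinates.
-/

set_option autoImplicit false
set_option maxRecDepth 100000
set_option maxHeartbeats 4000000

namespace CfsgLib.SuzUnique

open CfsgLib.SuzType CfsgLib.SuzThree

/-- all vectors -/
def all64 (f : V6 → Bool) : Bool := (List.finRange 64).all f

/-- conjugation by the rotation -/
def rotC (M : Lin) : Lin := comp (comp L0 M) (comp L0 L0)

/-- the nine actions from three representatives -/
def nine (reps : List Lin) : List Lin := reps ++ reps.map rotC ++ reps.map fun M => rotC (rotC M)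

/-- the final test on a candidate -/
def candOK (N : List Lin) (M : Lin) : Bool :=
  !(eqL (comp M M) L1) || eqL (comp M L0) (comp L0 M) || !(eqL (comp M (rotC M)) (rotC (rotC M))) || N.any (eqL M)

/-- every isometry fixing two vectors and satisfying the product rule is listed -/
def nineOK (va vb : V6) (N : List Lin) : Bool :=
  all64 fun c0 => qf c0 || c0 == 0 || all64 fun c1 => qf c1 || !(bf c0 c1) ||
    all64 fun c2 => qf c2 || c2 == 0 || bf c0 c2 || bf c1 c2 || all64 fun c3 => qf c3 || !(bf c2 c3) || bf c0 c3 || bf c1 c3 ||
      !(app ⟨c0, c1, c2, c3, 0, 0⟩ va == va) || !(app ⟨c0, c1, c2, c3, 0, 0⟩ vb == vb) ||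
        all64 fun c4 => !(qf c4) || bf c0 c4 || bf c1 c4 || bf c2 c4 || bf c3 c4 ||
          all64 fun c5 => !(qf c5) || !(bf c4 c5) || bf c0 c5 || bf c1 c5 || bf c2 c5 || bf c3 c5 ||
            candOK N ⟨c0, c1, c2, c3, c4, c5⟩

/-- the span of two vectors -/
def inSpan (va vb w : V6) : Bool := w == 0 || w == va || w == vb || w == xr va vb

/-- orthogonality to two vectors -/
def perp (va vb w : V6) : Bool := !(bf w va) && !(bf w vb)

/-- the facts used about a pair of vectors and an action -/
def fourOK (va vb : V6) (T : Lin) (reps : List Lin) : Bool :=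
  nineOK va vb (nine reps) &&
  (!(va == 0) && !(vb == 0) && !(va == vb) && !(qf va) && !(qf vb) && !(bf va vb) && decide (va.1 < 16) && decide (vb.1 < 16)) &&
  (nine reps).all (fun M => eqL (comp M T) (comp T M) && (app M va == va) && (app M vb == vb)) &&
  eqL (comp T L0) (comp L0 T) && eqL (comp T T) L1 &&
  (all64 fun w => !(perp va vb w) || ((app T w == w) && (qf w || inSpan va vb w) && (!(app L0 w == w) || inSpan va vb w))) &&
  (nine reps).all fun M => all64 fun w => !(perp va vb w) ||
    ((!(app M w == app L0 w) || inSpan va vb w) && (!(app M w == w) || inSpan va vb w ||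
      all64 fun w' => !(perp va vb w') || !(app M w' == w') || inSpan va vb w' || inSpan va vb (xr w w')))

/-- first representative -/
def F1 : Lin := ⟨27, 2, 30, 8, 16, 42⟩
/-- second representative for the first pair -/
def F2 : Lin := ⟨1, 23, 4, 29, 16, 37⟩
/-- third representative for the first pair -/
def F3 : Lin := ⟨30, 29, 27, 23, 16, 47⟩
/-- second representative for the second pair -/
def G2 : Lin := ⟨19, 2, 4, 8, 16, 34⟩
/-- third representative for the second pair -/
def G3 : Lin := ⟨1, 2, 28, 8, 16, 40⟩
/-- action of the third generator of the second elementary group -/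
def T2 : Lin := ⟨9, 2, 6, 8, 16, 32⟩

theorem four_one : fourOK 15 10 SW23 [F1, F2, F3] = true := by decide +kernel

theorem four_two : fourOK 2 8 T2 [F1, G2, G3] = true := by decide +kernel

end CfsgLib.SuzUnique
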