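import Cfsg.Agent.Lib.SuzThree.Lin

/-!
The conjugates of the rotation of order three.
-/

set_option autoImplicit false
set_option maxRecDepth 100000

namespace CfsgLib.SuzUnique

open CfsgLib.SuzType

/-- each conjugate with a word moving the rotation to it -/
def rotTab : List (Lin × List ℕ) :=
  [(⟨1, 2, 4, 8, 32, 48⟩, []),
    (⟨59, 2, 62, 8, 42, 48⟩, [3]),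
    (⟨1, 59, 61, 8, 41, 48⟩, [0, 3]),
    (⟨1, 55, 4, 61, 37, 48⟩, [1, 3]),
    (⟨27, 2, 30, 8, 42, 58⟩, [4, 3]),
    (⟨1, 2, 4, 60, 36, 48⟩, [0, 0, 3]),
    (⟨55, 2, 4, 62, 38, 48⟩, [1, 0, 3]),
    (⟨1, 43, 45, 8, 57, 25⟩, [3, 0, 3]),
    (⟨1, 27, 29, 8, 41, 57⟩, [4, 0, 3]),
    (⟨1, 2, 60, 8, 40, 48⟩, [0, 1, 3]),
    (⟨62, 61, 59, 55, 47, 48⟩, [3, 1, 3]),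
    (⟨1, 23, 4, 29, 37, 53⟩, [4, 1, 3]),
    (⟨43, 2, 46, 8, 32, 58⟩, [3, 4, 3]),
    (⟨1, 51, 4, 8, 33, 48⟩, [2, 0, 0, 3]),
    (⟨1, 2, 4, 44, 52, 20⟩, [3, 0, 0, 3]),
    (⟨1, 2, 4, 28, 36, 52⟩, [4, 0, 0, 3]),
    (⟨39, 2, 4, 46, 54, 22⟩, [3, 1, 0, 3]),
    (⟨23, 2, 4, 30, 38, 54⟩, [4, 1, 0, 3]),
    (⟨1, 59, 61, 8, 48, 25⟩, [4, 3, 0, 3]),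
    (⟨43, 1, 45, 8, 57, 32⟩, [3, 4, 0, 3]),
    (⟨1, 43, 45, 8, 32, 57⟩, [4, 4, 0, 3]),
    (⟨51, 2, 4, 8, 34, 48⟩, [2, 0, 1, 3]),
    (⟨1, 2, 28, 8, 40, 56⟩, [4, 0, 1, 3]),
    (⟨30, 29, 27, 23, 47, 63⟩, [4, 3, 1, 3]),
    (⟨62, 23, 59, 29, 47, 53⟩, [3, 4, 1, 3]),
    (⟨1, 39, 4, 45, 32, 53⟩, [4, 4, 1, 3]),
    (⟨1, 35, 4, 8, 49, 17⟩, [3, 2, 0, 0, 3]),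
    (⟨1, 19, 4, 8, 33, 49⟩, [4, 2, 0, 0, 3]),
    (⟨43, 2, 46, 8, 58, 26⟩, [0, 3, 0, 0, 3]),
    (⟨1, 2, 44, 8, 56, 24⟩, [1, 3, 0, 0, 3]),
    (⟨1, 2, 4, 60, 48, 20⟩, [4, 3, 0, 0, 3]),
    (⟨43, 2, 46, 6, 52, 32⟩, [3, 4, 0, 0, 3]),
    (⟨1, 2, 4, 44, 32, 52⟩, [4, 4, 0, 0, 3]),
    (⟨1, 39, 4, 45, 53, 21⟩, [0, 3, 1, 0, 3]),
    (⟨55, 2, 4, 62, 48, 22⟩, [4, 3, 1, 0, 3]),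
    (⟨39, 2, 46, 4, 54, 32⟩, [3, 4, 1, 0, 3]),
    (⟨39, 2, 4, 46, 32, 54⟩, [4, 4, 1, 0, 3]),
    (⟨2, 43, 46, 8, 58, 32⟩, [3, 4, 3, 0, 3]),
    (⟨1, 27, 29, 8, 57, 16⟩, [4, 4, 3, 0, 3]),
    (⟨1, 43, 45, 5, 52, 32⟩, [0, 3, 4, 0, 3]),
    (⟨2, 39, 4, 46, 54, 32⟩, [1, 3, 4, 0, 3]),
    (⟨59, 1, 61, 8, 41, 25⟩, [4, 3, 4, 0, 3]),
    (⟨2, 59, 62, 8, 42, 26⟩, [3, 4, 4, 0, 3]),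
    (⟨19, 2, 4, 8, 34, 50⟩, [4, 2, 0, 1, 3]),
    (⟨51, 2, 46, 8, 34, 56⟩, [3, 4, 0, 1, 3]),
    (⟨1, 2, 44, 8, 32, 56⟩, [4, 4, 0, 1, 3]),
    (⟨43, 29, 46, 23, 37, 63⟩, [3, 4, 3, 1, 3]),
    (⟨46, 45, 43, 39, 32, 63⟩, [4, 4, 3, 1, 3]),
    (⟨1, 51, 45, 8, 33, 56⟩, [0, 3, 4, 1, 3]),
    (⟨27, 61, 30, 55, 47, 58⟩, [1, 3, 4, 1, 3]),
    (⟨30, 39, 27, 45, 42, 63⟩, [4, 3, 4, 1, 3]),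
    (⟨59, 45, 62, 39, 42, 53⟩, [3, 4, 4, 1, 3]),
    (⟨35, 2, 4, 8, 50, 18⟩, [0, 3, 2, 0, 0, 3]),
    (⟨1, 51, 4, 8, 48, 17⟩, [4, 3, 2, 0, 0, 3]),
    (⟨43, 9, 46, 8, 49, 32⟩, [3, 4, 2, 0, 0, 3]),
    (⟨1, 35, 4, 8, 32, 49⟩, [4, 4, 2, 0, 0, 3]),
    (⟨1, 2, 4, 8, 48, 16⟩, [3, 0, 3, 0, 0, 3]),
    (⟨59, 2, 62, 8, 48, 26⟩, [4, 0, 3, 0, 0, 3]),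
    (⟨1, 2, 60, 8, 48, 24⟩, [4, 1, 3, 0, 0, 3]),
    (⟨15, 2, 10, 44, 58, 32⟩, [3, 4, 3, 0, 0, 3])]
  ++ [(⟨1, 2, 4, 28, 52, 16⟩, [4, 4, 3, 0, 0, 3]),
    (⟨1, 39, 9, 45, 56, 32⟩, [1, 3, 4, 0, 0, 3]),
    (⟨59, 2, 62, 6, 36, 20⟩, [4, 3, 4, 0, 0, 3]),
    (⟨15, 2, 10, 60, 42, 26⟩, [3, 4, 4, 0, 0, 3]),
    (⟨46, 45, 43, 39, 63, 31⟩, [3, 0, 3, 1, 0, 3]),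
    (⟨1, 55, 4, 61, 48, 21⟩, [4, 0, 3, 1, 0, 3]),
    (⟨43, 2, 8, 46, 58, 32⟩, [3, 4, 3, 1, 0, 3]),
    (⟨23, 2, 4, 30, 54, 16⟩, [4, 4, 3, 1, 0, 3]),
    (⟨1, 39, 45, 4, 53, 32⟩, [0, 3, 4, 1, 0, 3]),
    (⟨1, 43, 8, 45, 57, 32⟩, [1, 3, 4, 1, 0, 3]),
    (⟨55, 2, 62, 4, 38, 22⟩, [4, 3, 4, 1, 0, 3]),
    (⟨59, 2, 8, 62, 42, 26⟩, [3, 4, 4, 1, 0, 3]),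
    (⟨1, 15, 9, 44, 57, 32⟩, [0, 3, 4, 3, 0, 3]),
    (⟨39, 1, 4, 45, 53, 32⟩, [1, 3, 4, 3, 0, 3]),
    (⟨39, 2, 10, 46, 56, 32⟩, [1, 0, 3, 4, 0, 3]),
    (⟨39, 5, 4, 46, 49, 32⟩, [2, 0, 3, 4, 0, 3]),
    (⟨1, 59, 61, 5, 36, 20⟩, [3, 0, 3, 4, 0, 3]),
    (⟨1, 15, 44, 5, 53, 32⟩, [0, 1, 3, 4, 0, 3]),
    (⟨55, 45, 43, 62, 38, 57⟩, [3, 1, 3, 4, 0, 3]),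
    (⟨2, 55, 4, 62, 38, 22⟩, [4, 1, 3, 4, 0, 3]),
    (⟨27, 1, 29, 8, 16, 57⟩, [4, 4, 3, 4, 0, 3]),
    (⟨1, 15, 9, 60, 41, 25⟩, [0, 3, 4, 4, 0, 3]),
    (⟨55, 1, 4, 61, 37, 21⟩, [1, 3, 4, 4, 0, 3]),
    (⟨2, 27, 30, 8, 16, 58⟩, [4, 3, 4, 4, 0, 3]),
    (⟨43, 2, 60, 8, 40, 50⟩, [3, 4, 2, 0, 1, 3]),
    (⟨35, 2, 4, 8, 32, 50⟩, [4, 4, 2, 0, 1, 3]),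
    (⟨23, 61, 59, 30, 47, 54⟩, [0, 3, 4, 0, 1, 3]),
    (⟨1, 51, 4, 45, 33, 52⟩, [1, 3, 4, 0, 1, 3]),
    (⟨19, 2, 62, 8, 42, 50⟩, [4, 3, 4, 0, 1, 3]),
    (⟨59, 2, 28, 8, 42, 56⟩, [3, 4, 4, 0, 1, 3]),
    (⟨1, 43, 60, 8, 40, 49⟩, [0, 3, 4, 3, 1, 3]),
    (⟨23, 2, 4, 44, 34, 54⟩, [0, 0, 3, 4, 1, 3]),
    (⟨51, 2, 4, 46, 34, 52⟩, [1, 0, 3, 4, 1, 3]),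
    (⟨39, 2, 4, 60, 36, 50⟩, [2, 0, 3, 4, 1, 3]),
    (⟨1, 35, 61, 8, 49, 25⟩, [3, 0, 3, 4, 1, 3]),
    (⟨1, 19, 61, 8, 41, 49⟩, [4, 0, 3, 4, 1, 3]),
    (⟨1, 27, 44, 8, 33, 57⟩, [0, 1, 3, 4, 1, 3]),
    (⟨46, 55, 43, 61, 37, 58⟩, [3, 1, 3, 4, 1, 3]),
    (⟨1, 59, 28, 8, 41, 56⟩, [0, 3, 4, 4, 1, 3]),
    (⟨51, 2, 4, 8, 48, 18⟩, [4, 0, 3, 2, 0, 0, 3]),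
    (⟨10, 35, 15, 8, 58, 32⟩, [3, 4, 3, 2, 0, 0, 3]),
    (⟨1, 19, 4, 8, 49, 16⟩, [4, 4, 3, 2, 0, 0, 3]),
    (⟨10, 43, 45, 8, 50, 32⟩, [0, 3, 4, 2, 0, 0, 3]),
    (⟨6, 39, 4, 45, 50, 32⟩, [1, 3, 4, 2, 0, 0, 3]),
    (⟨59, 9, 62, 8, 33, 17⟩, [4, 3, 4, 2, 0, 0, 3]),
    (⟨10, 51, 15, 8, 42, 26⟩, [3, 4, 4, 2, 0, 0, 3]),
    (⟨27, 2, 30, 8, 58, 16⟩, [3, 4, 0, 3, 0, 0, 3]),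
    (⟨43, 2, 28, 8, 58, 18⟩, [3, 4, 1, 3, 0, 0, 3]),
    (⟨1, 2, 28, 8, 56, 16⟩, [4, 4, 1, 3, 0, 0, 3]),
    (⟨15, 2, 44, 6, 54, 32⟩, [0, 1, 3, 4, 0, 0, 3]),
    (⟨35, 45, 43, 39, 50, 32⟩, [3, 1, 3, 4, 0, 0, 3]),
    (⟨1, 55, 9, 61, 40, 24⟩, [4, 1, 3, 4, 0, 0, 3]),
    (⟨27, 2, 30, 6, 16, 52⟩, [4, 4, 3, 4, 0, 0, 3]),
    (⟨1, 15, 60, 5, 37, 21⟩, [1, 3, 4, 4, 0, 0, 3]),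
    (⟨15, 2, 10, 28, 16, 58⟩, [4, 3, 4, 4, 0, 0, 3]),
    (⟨62, 61, 59, 55, 48, 31⟩, [4, 3, 0, 3, 1, 0, 3]),
    (⟨43, 61, 46, 55, 58, 31⟩, [3, 4, 0, 3, 1, 0, 3]),
    (⟨1, 23, 4, 29, 53, 16⟩, [4, 4, 0, 3, 1, 0, 3]),
    (⟨1, 2, 8, 44, 56, 32⟩, [0, 0, 3, 4, 1, 0, 3]),
    (⟨23, 45, 43, 30, 63, 25⟩, [3, 0, 3, 4, 1, 0, 3])]
  ++ [(⟨1, 55, 61, 4, 37, 21⟩, [4, 0, 3, 4, 1, 0, 3]),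
    (⟨1, 2, 44, 4, 52, 32⟩, [0, 1, 3, 4, 1, 0, 3]),
    (⟨46, 59, 61, 39, 41, 54⟩, [3, 1, 3, 4, 1, 0, 3]),
    (⟨1, 59, 8, 61, 41, 25⟩, [4, 1, 3, 4, 1, 0, 3]),
    (⟨23, 2, 30, 4, 16, 54⟩, [4, 4, 3, 4, 1, 0, 3]),
    (⟨27, 2, 8, 30, 16, 58⟩, [4, 3, 4, 4, 1, 0, 3]),
    (⟨6, 35, 4, 15, 54, 32⟩, [2, 0, 3, 4, 3, 0, 3]),
    (⟨46, 27, 29, 39, 63, 22⟩, [3, 1, 3, 4, 3, 0, 3]),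
    (⟨35, 2, 4, 62, 50, 22⟩, [3, 1, 0, 3, 4, 0, 3]),
    (⟨55, 2, 10, 62, 40, 24⟩, [4, 1, 0, 3, 4, 0, 3]),
    (⟨55, 5, 4, 62, 33, 17⟩, [3, 2, 0, 3, 4, 0, 3]),
    (⟨1, 27, 29, 5, 16, 52⟩, [4, 3, 0, 3, 4, 0, 3]),
    (⟨35, 5, 4, 15, 53, 32⟩, [2, 0, 1, 3, 4, 0, 3]),
    (⟨46, 15, 9, 5, 63, 32⟩, [3, 0, 1, 3, 4, 0, 3]),
    (⟨1, 55, 4, 28, 37, 52⟩, [0, 3, 1, 3, 4, 0, 3]),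
    (⟨39, 61, 59, 46, 54, 31⟩, [3, 4, 1, 3, 4, 0, 3]),
    (⟨2, 23, 4, 30, 16, 54⟩, [4, 4, 1, 3, 4, 0, 3]),
    (⟨15, 2, 60, 6, 38, 22⟩, [1, 0, 3, 4, 4, 0, 3]),
    (⟨6, 51, 4, 15, 38, 22⟩, [2, 0, 3, 4, 4, 0, 3]),
    (⟨1, 15, 9, 28, 16, 57⟩, [4, 0, 3, 4, 4, 0, 3]),
    (⟨62, 27, 29, 55, 47, 57⟩, [3, 1, 3, 4, 4, 0, 3]),
    (⟨23, 1, 4, 29, 16, 53⟩, [4, 1, 3, 4, 4, 0, 3]),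
    (⟨30, 43, 45, 23, 38, 63⟩, [0, 3, 4, 2, 0, 1, 3]),
    (⟨1, 39, 4, 60, 36, 49⟩, [1, 3, 4, 2, 0, 1, 3]),
    (⟨1, 23, 4, 44, 33, 53⟩, [0, 0, 3, 4, 0, 1, 3]),
    (⟨39, 29, 27, 46, 41, 63⟩, [4, 0, 3, 4, 0, 1, 3]),
    (⟨27, 2, 44, 8, 34, 58⟩, [0, 1, 3, 4, 0, 1, 3]),
    (⟨46, 35, 43, 39, 49, 32⟩, [3, 1, 3, 4, 0, 1, 3]),
    (⟨1, 19, 4, 61, 37, 49⟩, [4, 1, 3, 4, 0, 1, 3]),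
    (⟨35, 2, 30, 8, 40, 58⟩, [4, 4, 3, 4, 0, 1, 3]),
    (⟨19, 2, 4, 62, 38, 50⟩, [0, 0, 3, 4, 3, 1, 3]),
    (⟨10, 59, 61, 8, 34, 18⟩, [3, 0, 3, 4, 3, 1, 3]),
    (⟨1, 35, 29, 8, 40, 57⟩, [2, 0, 0, 3, 4, 1, 3]),
    (⟨1, 2, 8, 60, 40, 24⟩, [3, 0, 0, 3, 4, 1, 3]),
    (⟨55, 2, 4, 44, 52, 22⟩, [3, 2, 0, 3, 4, 1, 3]),
    (⟨55, 2, 4, 28, 38, 52⟩, [4, 2, 0, 3, 4, 1, 3]),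
    (⟨23, 2, 4, 60, 50, 20⟩, [0, 3, 0, 3, 4, 1, 3]),
    (⟨1, 51, 29, 8, 56, 17⟩, [4, 3, 0, 3, 4, 1, 3]),
    (⟨35, 9, 15, 8, 57, 32⟩, [3, 4, 0, 3, 4, 1, 3]),
    (⟨35, 2, 4, 30, 36, 54⟩, [2, 0, 1, 3, 4, 1, 3]),
    (⟨35, 1, 4, 8, 49, 32⟩, [3, 0, 1, 3, 4, 1, 3]),
    (⟨1, 43, 28, 8, 57, 17⟩, [3, 0, 3, 4, 4, 1, 3]),
    (⟨19, 2, 46, 8, 58, 24⟩, [3, 4, 0, 3, 2, 0, 0, 3]),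
    (⟨19, 2, 4, 8, 50, 16⟩, [4, 4, 0, 3, 2, 0, 0, 3]),
    (⟨10, 9, 15, 39, 63, 32⟩, [0, 0, 3, 4, 2, 0, 0, 3]),
    (⟨1, 59, 44, 8, 56, 25⟩, [3, 0, 3, 4, 2, 0, 0, 3]),
    (⟨6, 5, 43, 15, 63, 32⟩, [0, 1, 3, 4, 2, 0, 0, 3]),
    (⟨46, 45, 44, 39, 56, 32⟩, [3, 1, 3, 4, 2, 0, 0, 3]),
    (⟨6, 55, 4, 61, 34, 18⟩, [4, 1, 3, 4, 2, 0, 0, 3]),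
    (⟨27, 9, 30, 8, 16, 49⟩, [4, 4, 3, 4, 2, 0, 0, 3]),
    (⟨51, 9, 15, 8, 41, 25⟩, [0, 3, 4, 4, 2, 0, 0, 3]),
    (⟨51, 5, 4, 15, 37, 21⟩, [1, 3, 4, 4, 2, 0, 0, 3]),
    (⟨10, 19, 15, 8, 16, 58⟩, [4, 3, 4, 4, 2, 0, 0, 3]),
    (⟨62, 43, 45, 55, 57, 31⟩, [0, 3, 4, 1, 3, 0, 0, 3]),
    (⟨1, 39, 4, 28, 53, 17⟩, [1, 3, 4, 1, 3, 0, 0, 3]),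
    (⟨59, 2, 44, 8, 56, 26⟩, [4, 3, 4, 1, 3, 0, 0, 3]),
    (⟨35, 2, 62, 8, 50, 26⟩, [3, 4, 4, 1, 3, 0, 0, 3]),
    (⟨15, 45, 10, 6, 63, 32⟩, [0, 3, 1, 3, 4, 0, 0, 3]),
    (⟨51, 61, 59, 55, 34, 18⟩, [4, 3, 1, 3, 4, 0, 0, 3]),
    (⟨1, 23, 9, 29, 16, 56⟩, [4, 4, 1, 3, 4, 0, 0, 3])]
  ++ [(⟨62, 15, 9, 5, 47, 31⟩, [3, 1, 3, 4, 4, 0, 0, 3]),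
    (⟨1, 15, 28, 5, 16, 53⟩, [4, 1, 3, 4, 4, 0, 0, 3]),
    (⟨30, 55, 27, 61, 58, 21⟩, [3, 4, 3, 0, 3, 1, 0, 3]),
    (⟨30, 29, 27, 23, 63, 16⟩, [4, 4, 3, 0, 3, 1, 0, 3]),
    (⟨62, 39, 59, 45, 53, 31⟩, [1, 3, 4, 0, 3, 1, 0, 3]),
    (⟨59, 29, 62, 23, 53, 26⟩, [4, 3, 4, 0, 3, 1, 0, 3]),
    (⟨46, 23, 43, 29, 63, 26⟩, [3, 4, 4, 0, 3, 1, 0, 3]),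
    (⟨2, 35, 4, 8, 50, 32⟩, [2, 0, 0, 3, 4, 1, 0, 3]),
    (⟨1, 23, 4, 60, 49, 20⟩, [0, 3, 0, 3, 4, 1, 0, 3]),
    (⟨1, 23, 29, 4, 16, 53⟩, [4, 4, 0, 3, 4, 1, 0, 3]),
    (⟨1, 2, 60, 4, 36, 20⟩, [4, 0, 1, 3, 4, 1, 0, 3]),
    (⟨1, 35, 4, 29, 36, 53⟩, [0, 3, 1, 3, 4, 1, 0, 3]),
    (⟨1, 27, 8, 29, 16, 57⟩, [4, 4, 1, 3, 4, 1, 0, 3]),
    (⟨1, 35, 4, 61, 49, 21⟩, [0, 3, 1, 3, 4, 3, 0, 3]),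
    (⟨27, 45, 30, 39, 63, 21⟩, [0, 3, 1, 0, 3, 4, 0, 3]),
    (⟨51, 2, 4, 30, 52, 18⟩, [4, 3, 1, 0, 3, 4, 0, 3]),
    (⟨23, 2, 10, 30, 16, 56⟩, [4, 4, 1, 0, 3, 4, 0, 3]),
    (⟨23, 5, 4, 30, 16, 49⟩, [4, 3, 2, 0, 3, 4, 0, 3]),
    (⟨15, 1, 9, 5, 16, 32⟩, [3, 4, 3, 0, 3, 4, 0, 3]),
    (⟨15, 61, 10, 6, 47, 31⟩, [3, 0, 3, 1, 3, 4, 0, 3]),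
    (⟨55, 29, 27, 62, 57, 22⟩, [4, 3, 4, 1, 3, 4, 0, 3]),
    (⟨39, 2, 4, 28, 54, 18⟩, [3, 1, 0, 3, 4, 4, 0, 3]),
    (⟨15, 2, 28, 6, 16, 54⟩, [4, 1, 0, 3, 4, 4, 0, 3]),
    (⟨6, 19, 4, 15, 16, 54⟩, [4, 2, 0, 3, 4, 4, 0, 3]),
    (⟨2, 15, 10, 6, 16, 32⟩, [3, 4, 0, 3, 4, 4, 0, 3]),
    (⟨30, 59, 61, 23, 54, 25⟩, [3, 0, 3, 4, 2, 0, 1, 3]),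
    (⟨46, 45, 43, 44, 52, 32⟩, [3, 1, 3, 4, 2, 0, 1, 3]),
    (⟨62, 51, 59, 55, 33, 17⟩, [4, 3, 1, 3, 4, 0, 1, 3]),
    (⟨10, 9, 15, 55, 47, 31⟩, [3, 4, 1, 3, 4, 0, 1, 3]),
    (⟨19, 2, 4, 46, 54, 20⟩, [3, 0, 0, 3, 4, 3, 1, 3]),
    (⟨10, 27, 29, 8, 16, 50⟩, [4, 3, 0, 3, 4, 3, 1, 3]),
    (⟨2, 51, 4, 8, 34, 18⟩, [3, 2, 0, 0, 3, 4, 1, 3]),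
    (⟨1, 2, 8, 28, 16, 56⟩, [4, 3, 0, 0, 3, 4, 1, 3]),
    (⟨1, 27, 60, 8, 49, 24⟩, [1, 0, 3, 0, 3, 4, 1, 3]),
    (⟨1, 19, 45, 8, 57, 24⟩, [4, 4, 3, 0, 3, 4, 1, 3]),
    (⟨51, 1, 4, 8, 33, 17⟩, [4, 3, 0, 1, 3, 4, 1, 3]),
    (⟨1, 19, 4, 45, 53, 20⟩, [1, 3, 4, 0, 3, 2, 0, 0, 3]),
    (⟨6, 5, 59, 15, 47, 31⟩, [4, 0, 1, 3, 4, 2, 0, 0, 3]),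
    (⟨62, 61, 60, 55, 40, 24⟩, [4, 3, 1, 3, 4, 2, 0, 0, 3]),
    (⟨6, 23, 4, 29, 16, 50⟩, [4, 4, 1, 3, 4, 2, 0, 0, 3]),
    (⟨62, 61, 59, 60, 36, 20⟩, [0, 0, 3, 4, 4, 2, 0, 0, 3]),
    (⟨19, 9, 15, 8, 16, 57⟩, [4, 0, 3, 4, 4, 2, 0, 0, 3]),
    (⟨19, 5, 4, 15, 16, 53⟩, [4, 1, 3, 4, 4, 2, 0, 0, 3]),
    (⟨1, 51, 4, 29, 52, 17⟩, [0, 0, 3, 4, 1, 3, 0, 0, 3]),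
    (⟨51, 2, 30, 8, 56, 18⟩, [0, 1, 3, 4, 1, 3, 0, 0, 3]),
    (⟨1, 55, 4, 44, 52, 21⟩, [4, 1, 3, 4, 1, 3, 0, 0, 3]),
    (⟨27, 2, 60, 8, 50, 24⟩, [4, 4, 3, 4, 1, 3, 0, 0, 3]),
    (⟨19, 29, 27, 23, 16, 50⟩, [4, 4, 3, 1, 3, 4, 0, 0, 3]),
    (⟨30, 15, 9, 5, 16, 63⟩, [4, 3, 1, 3, 4, 4, 0, 0, 3]),
    (⟨1, 2, 28, 4, 16, 52⟩, [4, 4, 0, 1, 3, 4, 1, 0, 3]),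
    (⟨6, 5, 15, 4, 16, 32⟩, [3, 4, 3, 2, 0, 3, 4, 0, 3]),
    (⟨15, 29, 10, 6, 16, 63⟩, [4, 3, 0, 3, 1, 3, 4, 0, 3]),
    (⟨10, 9, 8, 15, 16, 32⟩, [3, 4, 2, 0, 3, 4, 4, 0, 3]),
    (⟨30, 19, 27, 23, 16, 49⟩, [4, 4, 3, 1, 3, 4, 0, 1, 3]),
    (⟨10, 9, 15, 23, 16, 63⟩, [4, 3, 4, 1, 3, 4, 0, 1, 3]),
    (⟨19, 1, 4, 8, 16, 49⟩, [3, 4, 3, 0, 3, 4, 3, 1, 3]),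
    (⟨2, 19, 4, 8, 16, 50⟩, [4, 3, 2, 0, 0, 3, 4, 1, 3]),
    (⟨6, 5, 27, 15, 16, 63⟩, [4, 4, 0, 1, 3, 4, 2, 0, 0, 3]),
    (⟨30, 29, 28, 23, 16, 56⟩, [4, 4, 3, 1, 3, 4, 2, 0, 0, 3]),
    (⟨30, 29, 27, 28, 16, 52⟩, [4, 0, 0, 3, 4, 4, 2, 0, 0, 3])]

end CfsgLib.SuzUnique
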