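import Cfsg.Agent.Lib.SuzUnique.Frame
import Cfsg.Agent.Lib.SuzUnique.FourData
import Cfsg.Agent.Lib.SuzUnique.RotData
import Cfsg.Agent.Lib.SuzThree.Move

/-!
The centraliser of the involution is generated by the centraliser of the element of order three
and one involution of the four-group.
-/

set_option autoImplicit false
set_option maxRecDepth 100000
set_option maxHeartbeats 2000000

namespace CfsgLib.SuzUnique

open CfsgLib.SuzType CfsgLib.SuzThree CfsgLib.Extraspecial

/-- the actions of the available elements -/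
def zAct : ℕ → Lin
  | 0 => L2 | 1 => MA | 2 => SW23 | 3 => F1 | 4 => L0 | _ => L1

/-- the action of a word in them -/
def zLin : List ℕ → Lin
  | [] => L1
  | l :: w => comp (zAct l) (zLin w)

theorem rotTab_ok : rotTab.all (fun x => eqL (comp x.1 (zLin x.2)) (comp (zLin x.2) L0)) = true := by
  unfold rotTab
  decide +kernel

theorem rotTab_complete : ((List.finRange 64).all fun a => !(qf a) || (List.finRange 64).all fun b =>
    !(qf b) || !(bf a b) || rotTab.any fun x => eqL (rotL a b) x.1) = true := by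
  unfold rotTab
  decide +kernel

theorem q_split : ((List.finRange 64).all fun w : V6 =>
    Nat.blt w.1 16 || Nat.blt (xr w 27).1 16 || Nat.blt (xr w 43).1 16 || Nat.blt (xr (xr w 27) 43).1 16) = true ∧
    app F1 1 = 27 ∧ app L0 27 = 43 ∧ Good F1 ∧ qf 16 = true ∧ qf 32 = true ∧ bf 16 32 = true := by
  decide +kernel

variable {G : Type*} [Group G] [Finite G] {z y i p a s d : G} {Q : Subgroup G} {v : G → V6}

theorem cent_z_le (S : SF z Q v y i p a s d) {K : Subgroup G} (hK : ∀ c, Commute c y → c ∈ K) {e : G} (he : e ∈ K)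
    (hez : Commute e z) (heA : Act Q v e F1) : ∀ c, c * z = z * c → c ∈ K := by
  have H := S.yd.co
  have D := S.yd
  have hyK : y ∈ K := hK y (Commute.refl y)
  obtain ⟨hspl, hF, hL0, hFg, hq16, hq32, hb⟩ := q_split
  -- the extraspecial group
  obtain ⟨q1, hq1, hq1v⟩ := H.surj 1
  have hq1K : q1 ∈ K := hK q1 ((D.commute_iff hq1).mpr (by rw [hq1v]; decide)).symm
  set q27 := e * q1 * e⁻¹ with h27
  have h27Q : q27 ∈ Q := H.conj_mem hez.eq hq1
  have h27v : v q27 = 27 := by rw [h27, heA q1 hq1, hq1v, hF]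
  have h27K : q27 ∈ K := mul_mem (mul_mem he hq1K) (inv_mem he)
  set q43 := y * q27 * y⁻¹ with h43
  have h43Q : q43 ∈ Q := H.conj_mem D.yz h27Q
  have h43v : v q43 = 43 := by rw [h43, D.act q27 h27Q, h27v, hL0]
  have h43K : q43 ∈ K := mul_mem (mul_mem hyK h27K) (inv_mem hyK)
  have hlow : ∀ q ∈ Q, (v q).1 < 16 → q ∈ K := fun q hq h => hK q ((D.commute_iff hq).mpr h).symm
  have hQ : ∀ q ∈ Q, q ∈ K := by
    intro q hq
    simp only [List.all_eq_true, List.mem_finRange, forall_const, Bool.or_eq_true, Nat.blt_eq] at hspl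
    rcases hspl (v q) with ((h | h) | h) | h
    · exact hlow q hq h
    · have := hlow (q * q27) (mul_mem hq h27Q) (by rwa [H.mul _ hq _ h27Q, h27v])
      simpa using mul_mem this (inv_mem h27K)
    · have := hlow (q * q43) (mul_mem hq h43Q) (by rwa [H.mul _ hq _ h43Q, h43v])
      simpa using mul_mem this (inv_mem h43K)
    · have := hlow (q * q27 * q43) (mul_mem (mul_mem hq h27Q) h43Q)
        (by rwa [H.mul _ (mul_mem hq h27Q) _ h43Q, H.mul _ hq _ h27Q, h27v, h43v])
      simpa using mul_mem (mul_mem this (inv_mem h43K)) (inv_mem h27K)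
  -- lifts of the words
  have lift : ∀ w : List ℕ, ∃ k ∈ K, k * z = z * k ∧ Act Q v k (zLin w) := by
    intro w
    induction w with
    | nil => exact ⟨1, one_mem K, by simp, act_inner H (one_mem Q)⟩
    | cons l w ih =>
      obtain ⟨k, hk, hkz, hkA⟩ := ih
      obtain ⟨k', hk', hkz', hkA'⟩ : ∃ k ∈ K, k * z = z * k ∧ Act Q v k (zAct l) := by
        match l with
        | 0 => exact ⟨p, hK p (mem_Cz.mp S.pC).2, (mem_Cz.mp S.pC).1, S.pA⟩
        | 1 => exact ⟨a, hK a (mem_Cz.mp S.aC).2, (mem_Cz.mp S.aC).1, S.aA⟩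
        | 2 => exact ⟨s, hK s (mem_Cz.mp S.sC).2, (mem_Cz.mp S.sC).1, S.sA⟩
        | 3 => exact ⟨e, he, hez.eq, heA⟩
        | 4 => exact ⟨y, hyK, D.yz, D.act⟩
        | n + 5 => exact ⟨1, one_mem K, by simp, act_inner H (one_mem Q)⟩
      exact ⟨k' * k, mul_mem hk' hk, ((show Commute k' z from hkz').mul_left hkz).eq, act_mul H hkz hkA' hkA⟩
  intro c hc
  obtain ⟨L, hLg, hL⟩ := act_exists H hc
  have tab := rotTab_complete
  simp only [List.all_eq_true, List.mem_finRange, forall_const, Bool.or_eq_true, Bool.not_eq_true',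
    List.any_eq_true] at tab
  obtain ⟨x, hx, hxR⟩ : ∃ x ∈ rotTab, eqL (rotL (app L 16) (app L 32)) x.1 = true := by
    rcases tab (app L 16) with h | h
    · rw [hLg.1, hq16] at h; exact absurd h (by decide)
    rcases h (app L 32) with (h | h) | h
    · rw [hLg.1, hq32] at h; exact absurd h (by decide)
    · rw [Iso.bf_eq hLg.1, hb] at h; exact absurd h (by decide)
    · exact h
  have hxc := rotTab_ok
  simp only [List.all_eq_true] at hxc
  have hKK := rel_eq (hxc x hx)
  have hLL : comp L L0 = comp x.1 L := lin_ext fun w => by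
    rw [app_comp, app_comp, ← rel_eq hxR, app_rot, L0_rot, ← rot_map hLg.1]
  obtain ⟨k, hk, hkz, hkA⟩ := lift x.2
  have hkc : k⁻¹ * c * z = z * (k⁻¹ * c) := ((show Commute k z from hkz).inv_left.mul_left hc).eq
  obtain ⟨M, hMg, hM⟩ := act_exists H hkc
  have hkM : comp (zLin x.2) M = L := act_unique H (act_mul H hkc hkA hM) (by rw [mul_inv_cancel_left]; exact hL)
  obtain ⟨Kl, hKlg, hKl⟩ := act_exists H hkz
  obtain rfl : Kl = zLin x.2 := act_unique H hKl hkA
  have hMc : comp M L0 = comp L0 M := lin_ext fun w => by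
    refine iso_inj hKlg.1 ?_
    have e1 := congrArg (fun A => app A w) hLL
    rw [← hkM] at e1
    simp only [app_comp] at e1
    have e2 := congrArg (fun A => app A (app M w)) hKK
    simp only [app_comp] at e2
    rw [app_comp, app_comp, e1, e2]
  obtain ⟨c0, hc0z, hc0y, hc0A⟩ := D.exists_cent hMg hMc
  have hq : c0⁻¹ * (k⁻¹ * c) ∈ Q := by
    have hc0i : c0⁻¹ * z = z * c0⁻¹ := (show Commute c0 z from hc0z).inv_left.eq
    obtain ⟨N, -, hN⟩ := act_exists H hc0i
    have e1 : comp N M = L1 := act_unique H (act_mul H hc0z hN hc0A) (by rw [inv_mul_cancel]; exact act_inner H (one_mem Q))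
    exact act_mem H ((show Commute c0⁻¹ z from hc0i).mul_left hkc).eq (e1 ▸ act_mul H hkc hN hM)
  have := mul_mem hk (mul_mem (hK c0 hc0y) (hQ _ hq))
  simpa [mul_assoc] using this

end CfsgLib.SuzUnique
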