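import Cfsg.Agent.Lib.SuzUnique.EndWords

/-!
Kernel check of one case.
-/

set_option autoImplicit false
set_option maxRecDepth 100000
set_option maxHeartbeats 4000000
set_option Elab.async false

namespace CfsgLib.SuzUnique

theorem base_AB : endBase caseAB endAB = true := by decide +kernel

theorem conj0_AB : endConjAt caseAB endAB 0 = true := by decide +kernel

theorem conj1_AB : endConjAt caseAB endAB 1 = true := by decide +kernel

theorem conj2_AB : endConjAt caseAB endAB 2 = true := by decide +kernel

theorem conj3_AB : endConjAt caseAB endAB 3 = true := by decide +kernel

theorem dist_AB : endDist caseAB endAB = true := by decide +kernel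

theorem ord_AB : endOrd caseAB endAB = true := by decide +kernel

theorem g_AB : endG caseAB endAB = true := by decide +kernel

theorem act_AB : actOK caseAB = true := by decide +kernel

/-- the checks hold -/
theorem end_ok_AB : EndOK caseAB endAB where
  base := base_AB
  conj k hk := by
    interval_cases k
    exacts [conj0_AB, conj1_AB, conj2_AB, conj3_AB]
  dist := dist_AB
  ord := ord_AB
  gfive := g_AB
  act := act_AB

end CfsgLib.SuzUnique
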