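import Cfsg.Agent.Lib.SuzUnique.EndWords

/-!
Kernel check of one case.
-/

set_option autoImplicit false
set_option maxRecDepth 100000
set_option maxHeartbeats 4000000
set_option Elab.async false

namespace CfsgLib.SuzUnique

theorem base_BA : endBase caseBA endBA = true := by decide +kernel

theorem conj0_BA : endConjAt caseBA endBA 0 = true := by decide +kernel

theorem conj1_BA : endConjAt caseBA endBA 1 = true := by decide +kernel

theorem conj2_BA : endConjAt caseBA endBA 2 = true := by decide +kernel

theorem conj3_BA : endConjAt caseBA endBA 3 = true := by decide +kernel

theorem dist_BA : endDist caseBA endBA = true := by decide +kernel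

theorem ord_BA : endOrd caseBA endBA = true := by decide +kernel

theorem g_BA : endG caseBA endBA = true := by decide +kernel

theorem act_BA : actOK caseBA = true := by decide +kernel

/-- the checks hold -/
theorem end_ok_BA : EndOK caseBA endBA where
  base := base_BA
  conj k hk := by
    interval_cases k
    exacts [conj0_BA, conj1_BA, conj2_BA, conj3_BA]
  dist := dist_BA
  ord := ord_BA
  gfive := g_BA
  act := act_BA

end CfsgLib.SuzUnique
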