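import Cfsg.Agent.Lib.SuzUnique.EndWords

/-!
Kernel check of one case.
-/

set_option autoImplicit false
set_option maxRecDepth 100000
set_option maxHeartbeats 4000000
set_option Elab.async false

namespace CfsgLib.SuzUnique

theorem base_BB : endBase caseBB endBB = true := by decide +kernel

theorem conj0_BB : endConjAt caseBB endBB 0 = true := by decide +kernel

theorem conj1_BB : endConjAt caseBB endBB 1 = true := by decide +kernel

theorem conj2_BB : endConjAt caseBB endBB 2 = true := by decide +kernel

theorem conj3_BB : endConjAt caseBB endBB 3 = true := by decide +kernel

theorem dist_BB : endDist caseBB endBB = true := by decide +kernel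

theorem ord_BB : endOrd caseBB endBB = true := by decide +kernel

theorem g_BB : endG caseBB endBB = true := by decide +kernel

theorem act_BB : actOK caseBB = true := by decide +kernel

/-- the checks hold -/
theorem end_ok_BB : EndOK caseBB endBB where
  base := base_BB
  conj k hk := by
    interval_cases k
    exacts [conj0_BB, conj1_BB, conj2_BB, conj3_BB]
  dist := dist_BB
  ord := ord_BB
  gfive := g_BB
  act := act_BB

end CfsgLib.SuzUnique
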