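import Cfsg.Agent.Lib.SuzUnique.EndOKAA
import Cfsg.Agent.Lib.SuzUnique.EndOKAB
import Cfsg.Agent.Lib.SuzUnique.EndOKBA
import Cfsg.Agent.Lib.SuzUnique.EndOKBB

/-!
The checks hold in every case.
-/

set_option autoImplicit false

namespace CfsgLib.SuzUnique

theorem end_ok {C : UCase} (h : C ∈ ([caseAA, caseAB, caseBA, caseBB] : List UCase)) : ∃ E, EndOK C E := by
  simp only [List.mem_cons, List.not_mem_nil, or_false] at h
  rcases h with rfl | rfl | rfl | rfl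
  exacts [⟨_, end_ok_AA⟩, ⟨_, end_ok_AB⟩, ⟨_, end_ok_BA⟩, ⟨_, end_ok_BB⟩]

end CfsgLib.SuzUnique
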