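import Cfsg.Agent.Lib.SuzUnique.EndT
import Cfsg.Agent.Lib.SuzUnique.EndOK
import Cfsg.Agent.Lib.SuzUnique.CentZ

/-!
A group with such a centraliser is the sporadic group.
-/

set_option autoImplicit false
set_option maxHeartbeats 1000000
set_option linter.style.haveILetI false

namespace CfsgLib.SuzUnique

open CfsgLib.SuzType CfsgLib.SuzThree CfsgLib.Extraspecial CfsgLib.Extraspecial.Pair CfsgLib.CosetEnum
open CfsgLib.UFourType (gen9 triv9 inv9 xWords)
open Cfsg.Spor (Suz)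

variable {G : Type*} [Group G] [Finite G] {z y i p a s d : G} {Q : Subgroup G} {v : G → V6}

local notation "W" => prodW (gen9 i p a s d)

namespace SF

/-- The presentation gives the whole group. -/
theorem exists_bij (S : SF z Q v y i p a s d) {F : Type} [Field F] [Fintype F] (hF : Fintype.card F = 9) :
    ∃ φ : Suz →* G, Function.Bijective φ := by
  obtain ⟨e, C, b, d', g, x, GGd⟩ := S.exists_gg hF
  obtain ⟨E, hE⟩ := end_ok GGd.case_mem
  have X : EC z Q v y i p a s d e C b d' g x E := ⟨GGd, hE⟩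
  have R := GGd.six
  have H := S.co
  obtain ⟨φ, hinj, hφ⟩ := exists_suzHom R S.y3 GGd.p_ne H.st.ne_one
  refine ⟨φ, hinj, ?_⟩
  set M := φ.range with hM
  have gen : ∀ k, suzGen z b (W wb1) d' e (W wa2) g k ∈ M := fun k => ⟨_, hφ k⟩
  have hzM : z ∈ M := gen .a
  have hbM : b ∈ M := gen .b
  have hcM : W wb1 ∈ M := gen .c
  have hdM : d' ∈ M := gen .d
  have heM : e ∈ M := gen .e
  have hfM : W wa2 ∈ M := gen .f
  have hgM : g ∈ M := gen .g
  have hxM : x ∈ M := by rw [R.xeq]; exact mul_mem (mul_mem hdM hcM) hdM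
  have hzc : Cg y i p a s d [0, 0] z := by have := S.cg_self [0, 0]; rwa [S.z_word] at this
  -- the centraliser of the element of order three
  have six : ∀ u ∈ C.six, ∃ k ∈ M, Cg y i p a s d u k := by
    intro u hu
    simp only [UCase.six, List.mem_cons, List.not_mem_nil, or_false] at hu
    rcases hu with rfl | rfl | rfl | rfl | rfl | rfl
    exacts [⟨z, hzM, hzc⟩, ⟨b, hbM, GGd.cb⟩, ⟨_, hcM, S.cg_self _⟩, ⟨_, hfM, S.cg_self _⟩, ⟨g, hgM, GGd.cg⟩,
      ⟨x, hxM, GGd.cx⟩]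
  have ok := GGd.vd.ok
  simp only [caseOK, Bool.and_eq_true] at ok
  obtain ⟨⟨-, hx0⟩, hx1⟩ := ok
  have hy : ∀ c, Commute c y → c ∈ M := by
    refine (S.cent_le hF ?_ ?_).1
    · obtain ⟨k, hk, h⟩ := S.cg_flat six C.x0
      exact ⟨k, hk, S.cg_eqv h hx0⟩
    · obtain ⟨k, hk, h⟩ := S.cg_flat six C.x1
      exact ⟨k, hk, S.cg_eqv h hx1⟩
  obtain ⟨hez, he2, he1, -, hen, ge, ue, Fe, hOe⟩ := X.e_facts
  have hz : ∀ c, c * z = z * c → c ∈ M := cent_z_le S hy heM hez GGd.vd.act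
  have hce : ∀ c, Commute c e → c ∈ M := fun c hc => X.cent_e_le F hF hy hz hc
  -- the conjugate inside the extraspecial group
  have ha0 : (b * W wb1 * (z * b * (z * b))) * z * (b * W wb1 * (z * b * (z * b)))⁻¹ = W wb1 := by
    have binv : b⁻¹ = b := inv_eq_of_mul_eq_one_right R.bb
    have zinv : z⁻¹ = z := H.st.inv_z
    have cinv : (W wb1)⁻¹ = W wb1 := inv_eq_of_mul_eq_one_right R.cc
    have h5 : (z * b * (z * b)) * z * (z * b * (z * b))⁻¹ = b := by
      rw [mul_inv_rev, mul_inv_rev, binv, zinv]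
      calc z * b * (z * b) * z * (b * z * (b * z)) = (z * b) ^ 5 * b⁻¹ := by simp [pow_succ, mul_assoc]
        _ = b := by rw [R.ab, one_mul, binv]
    rw [show ∀ u : G, b * W wb1 * u * z * (b * W wb1 * u)⁻¹ = b * W wb1 * (u * z * u⁻¹) * (b * W wb1)⁻¹ from
      fun u => by group, h5, mul_inv_rev, binv, cinv]
    calc b * W wb1 * b * (W wb1 * b) = (b * W wb1) ^ 3 * (W wb1)⁻¹ := by simp [pow_succ, mul_assoc]
      _ = W wb1 := by rw [R.bc, one_mul, cinv]
  have hcQ : W wb1 ∈ Q := S.eD1.bQ.1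
  have hcz : W wb1 ≠ z := fun h => by
    have := S.vecs.2.1
    rw [h, H.v_z] at this
    exact absurd this (by decide)
  have hh0 : b * W wb1 * (z * b * (z * b)) ∈ M :=
    mul_mem (mul_mem hbM hcM) (mul_mem (mul_mem hzM hbM) (mul_mem hzM hbM))
  -- every conjugate of the first involution
  have hall : ∀ t, IsConj t z → t ∈ M := by
    intro t ht
    obtain ⟨c, hct⟩ := isConj_iff.mp ht.symm
    have t2 : t * t = 1 := by rw [← hct, show c * z * c⁻¹ * (c * z * c⁻¹) = c * (z * z) * c⁻¹ by group, H.st.zz]; group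
    have t1 : t ≠ 1 := fun h => H.st.ne_one (conj_eq_one_iff.mp (hct.trans h))
    have ot := Invol.orderOf_two_of_mul_self t2 t1
    have oe := Invol.orderOf_two_of_mul_self he2 he1
    obtain ⟨w, hw, hwt, hwe⟩ := Invol.exists_common_commuting_invol ot oe
      (Invol.even_of_not_isConj ot oe fun h => hen (h.symm.trans ht))
    have hwM : w ∈ M := hce w hwe
    have w2 := Invol.mul_self_of_orderOf_two hw
    have back : ∀ {h u : G}, h ∈ M → h * u * h⁻¹ = w → (∀ c, Commute c u → c ∈ M) → t ∈ M := by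
      intro h u hh hu hcu
      have := (hwt.symm.map (MulAut.conj h⁻¹))
      rw [MulAut.conj_apply, MulAut.conj_apply, inv_inv, ← hu, show h⁻¹ * (h * u * h⁻¹) * h = u by group] at this
      rw [show t = h * (h⁻¹ * t * h) * h⁻¹ by group]
      exact mul_mem (mul_mem hh (hcu _ this)) (inv_mem hh)
    by_cases hwc : IsConj w z
    · obtain ⟨h, hh, e'⟩ := fuse_z H hz hh0 ha0 hcQ hcz hwM hwc
      exact back hh e' fun c hc => hz c hc.eq
    · obtain ⟨h, hh, e'⟩ := fuse_other H hz he2 hez Fe hOe ha0 hcQ hcz hwM w2 (Invol.ne_one_of_orderOf_two hw) hwc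
      exact back hh e' hce
  intro u
  have hu := hall (u * z * u⁻¹) (isConj_iff.mpr ⟨u, rfl⟩ : IsConj z (u * z * u⁻¹)).symm
  obtain ⟨h, hh, e'⟩ := fuse_z H hz hh0 ha0 hcQ hcz hu (isConj_iff.mpr ⟨u, rfl⟩ : IsConj z (u * z * u⁻¹)).symm
  have hm : h⁻¹ * u ∈ M := hz _ (by
    calc h⁻¹ * u * z = h⁻¹ * (u * z * u⁻¹) * u := by group
      _ = h⁻¹ * (h * z * h⁻¹) * u := by rw [e']
      _ = _ := by group)
  have := mul_mem hh hm
  rwa [mul_inv_cancel_left] at this

end SF

/-- a lift of order three of an action of order three -/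
theorem lift_three {G : Type*} [Group G] [Finite G] {z : G} {Q : Subgroup G} {v : G → V6} (H : Co z Q v) {c : G}
    {L : Lin} (hc : c * z = z * c) (hL : Act Q v c L) (h3 : comp L (comp L L) = L1) :
    c ^ 4 * z = z * c ^ 4 ∧ c ^ 4 * c ^ 4 * c ^ 4 = 1 ∧ Act Q v (c ^ 4) L := by
  have hc2 : c * c * z = z * (c * c) := ((show Commute c z from hc).mul_left hc).eq
  have hc3 : c * (c * c) * z = z * (c * (c * c)) := ((show Commute c z from hc).mul_left hc2).eq
  have hq : c * (c * c) ∈ Q := act_mem H hc3 (h3 ▸ act_mul H hc2 hL (act_mul H hc hL hL))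
  refine ⟨((show Commute c z from hc).pow_left 4).eq, ?_, fun a ha => ?_⟩
  · have h := pow_four H hq
    rw [← pow_add, ← pow_add]
    simpa only [← pow_two, ← pow_succ', ← pow_succ, ← pow_add, ← pow_mul, Nat.reduceAdd, Nat.reduceMul] using h
  · rw [show c ^ 4 * a * (c ^ 4)⁻¹ = c * (c * c) * (c * a * c⁻¹) * (c * (c * c))⁻¹ by
      simp only [pow_succ, pow_zero, one_mul]; group, H.v_inner hq (H.conj_mem hc ha), hL a ha]

/-- The group is isomorphic to the sporadic group. -/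
theorem isoSuz {G : Type*} [Group G] [Finite G] {z : G} {Q : Subgroup G} {v : G → V6} (H : Co z Q v) :
    Cfsg.Spor.IsoSuz G := by
  obtain ⟨c, hc, hcv⟩ := H.real L0 ⟨by decide +kernel, Or.inr (Or.inr (Or.inl six_nfix.1))⟩
  obtain ⟨hyz, hy3, hA⟩ := lift_three H hc hcv (eqL_iff.mp (by decide +kernel))
  haveI : Fact (Nat.Prime 3) := ⟨Nat.prime_three⟩
  haveI : Fintype (GaloisField 3 2) := Fintype.ofFinite _
  have hF : Fintype.card (GaloisField 3 2) = 9 := by
    rw [← Nat.card_eq_fintype_card, GaloisField.card 3 2 (by norm_num)]; norm_num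
  obtain ⟨v', i, p, a, s, d, S⟩ := exists_sf (⟨H, hy3, hyz, hA⟩ : YD z Q v (c ^ 4)) hF
  obtain ⟨φ, hφ⟩ := S.exists_bij hF
  exact ⟨(MulEquiv.ofBijective φ hφ).symm⟩

end CfsgLib.SuzUnique
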