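/-!
The four possible positions of the generators of the centraliser of the four-group.
-/

set_option autoImplicit false

namespace CfsgLib.SuzUnique

/-- words in the available elements -/
structure UCase where
  g1 : List Nat
  g2 : List Nat
  bw : List Nat
  gw : List Nat
  hw : List Nat
  hb : List Nat
  hf : List Nat
  hg : List Nat
  xs : List (List Nat)
  x0 : List Nat
  x1 : List Nat

/-- data of a case -/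
def caseAA : UCase where
  g1 := [3, 6, 3, 7, 0]
  g2 := [6, 3, 8, 2]
  bw := [6, 7, 8, 7, 6]
  gw := [7, 0, 5]
  hw := [3, 4]
  hb := [1, 8, 2, 6, 5, 8]
  hf := [7, 0, 5]
  hg := [3]
  xs := [[2], [6], [6, 2]]
  x0 := [4, 1, 0, 5, 1, 0, 2, 3, 1, 5, 0, 1, 4, 2, 1, 0]
  x1 := [0, 5, 1, 0, 4, 1, 5, 2, 1, 3, 4, 1, 5, 0, 1, 3, 4, 2]

/-- data of a case -/
def caseAB : UCase where
  g1 := [3, 6, 3, 7, 0]
  g2 := [6, 3, 8, 0, 3, 4]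
  bw := [5, 1, 5, 8, 7, 7]
  gw := [5, 0, 7]
  hw := [3, 0]
  hb := [8, 7, 0, 4, 5, 6]
  hf := [7, 0, 5]
  hg := [1, 3]
  xs := [[], [6, 2]]
  x0 := [1, 3, 5, 1, 4, 3, 1, 4, 2, 1, 5, 0]
  x1 := [2, 3, 1, 0, 2, 1, 4, 3, 5, 1, 4, 2, 0, 1, 5, 3, 2, 1, 0]

/-- data of a case -/
def caseBA : UCase where
  g1 := [3, 6, 3, 7, 4]
  g2 := [6, 3, 8, 2]
  bw := [3, 5, 6, 3, 5, 6]
  gw := [5, 0, 7]
  hw := [3, 0]
  hb := [4, 5, 2, 5, 6, 7]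
  hf := [7, 0, 5]
  hg := [1, 3]
  xs := [[], [6, 2]]
  x0 := [4, 3, 1, 5, 1, 0, 1, 3, 0, 1, 2, 0, 1, 4, 0, 1]
  x1 := [5, 1, 0, 4, 1, 5, 2, 1, 3, 4, 1, 5, 0, 1, 4]

/-- data of a case -/
def caseBB : UCase where
  g1 := [3, 6, 3, 7, 4]
  g2 := [6, 3, 8, 0, 3, 4]
  bw := [4, 5, 6, 6, 7, 7]
  gw := [5, 0, 7]
  hw := [3, 0]
  hb := [1, 5, 6, 3, 6, 7]
  hf := [7, 0, 5]
  hg := [1, 3]
  xs := [[], [6, 2]]
  x0 := [4, 1, 0, 5, 1, 0, 2, 3, 1, 5, 0, 1, 4, 2, 1, 0]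
  x1 := [2, 3, 1, 0, 2, 1, 4, 3, 5, 1, 4, 2, 0, 1, 5, 3, 2, 1, 0]

end CfsgLib.SuzUnique
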