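import Cfsg.Agent.Lib.SuzUnique.Exist
import Cfsg.Agent.Lib.SuzUnique.CaseData

/-!
The words of the generators in each of the four cases, with their relations.
-/

set_option autoImplicit false
set_option maxRecDepth 100000

namespace CfsgLib.SuzUnique

open CfsgLib.SuzType CfsgLib.SuzThree
open CfsgLib.UFourType (triv9 inv9 xWords)

namespace UCase

variable (C : UCase)

/-- the available elements -/
def gens : List (List ℕ) :=
  [[0, 0], wb1, wt1, wa2, wt2, C.g1, C.g2, inv9 C.g1, inv9 C.g2]

/-- a word in the available elements -/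
def flat (ix : List ℕ) : List ℕ := (ix.map fun j => C.gens.getD j []).flatten

/-- the word of the second generator -/
def wB : List ℕ := C.flat C.bw

/-- the word of the last generator -/
def wG : List ℕ := C.flat C.gw

/-- the conjugate of the third generator by the inverting involution -/
def wX : List ℕ := (C.xs.map fun u => u ++ [0] ++ inv9 u).flatten

/-- the six generators of the centraliser -/
def six : List (List ℕ) := [[0, 0], C.wB, wb1, wa2, C.wG, C.wX]

/-- a word in the six generators -/
def wSix (ix : List ℕ) : List ℕ := (ix.map fun j => C.six.getD j []).flatten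

/-- the image of the four-group involution under the moving element -/
def hM : Lin := comp (comp (linW C.hw) F1) (linW (inv9 C.hw))

/-- the action of the inverting involution -/
def dM : Lin := comp (comp F1 C.hM) F1

end UCase

/-- repetition of a word -/
def rep (n : ℕ) (u : List ℕ) : List ℕ := (List.replicate n u).flatten

/-- the relations inside the centraliser of the four-group -/
def uRels (C : UCase) : List (List ℕ) :=
  [rep 2 C.wB, rep 2 C.wG, rep 5 ([0, 0] ++ C.wB), rep 3 (C.wB ++ wb1), rep 3 (C.wB ++ wa2),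
    [0, 0] ++ rep 2 (wa2 ++ C.wG), rep 3 (C.wG ++ C.wB), rep 2 (wb1 ++ wa2), rep 2 (wb1 ++ C.wG),
    rep 2 ([0, 0] ++ C.wG), rep 5 ([0, 0] ++ C.wB ++ wb1 ++ wa2), rep 5 (C.wB ++ wa2 ++ C.wG),
    C.wSix [0, 2, 1, 0, 2, 1, 0, 2, 1, 2, 0, 1, 2, 0, 1]]

/-- the checks on a case -/
noncomputable def caseOK (C : UCase) : Bool :=
  (uRels C).all triv9 && (C.gens.all fun u => u.all fun l => Nat.blt l 9) &&
    !(triv9 (rep 2 ([0, 0] ++ C.wB))) &&
    low C.hw &&
    eqv (inv9 C.hw ++ C.wB ++ C.hw) (C.flat C.hb) && eqv (inv9 C.hw ++ wa2 ++ C.hw) (C.flat C.hf) &&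
    eqv (inv9 C.hw ++ C.wG ++ C.hw) (C.flat C.hg) &&
    (C.xs.all fun u => low u) && low C.wX && eqL (linW C.wX) L1 &&
    (C.xs.foldr (fun u w => xr (app (linW u) 3) w) 0 == app C.dM 10) &&
    !(triv9 (rep 3 (C.wB ++ C.wX ++ [0, 0]))) && exact1 ([0, 0] ++ rep 2 (wb1 ++ C.wX)) &&
    triv9 (rep 5 (C.wB ++ wb1 ++ C.wX)) &&
    eqL (comp C.dM L0) (comp (comp L0 L0) C.dM) && eqL (comp (comp C.dM F1) (comp (comp C.dM F1) (comp C.dM F1))) L1 &&
    eqv (C.wSix C.x0) (xWords.getD 0 []) && eqv (C.wSix C.x1) (xWords.getD 1 [])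

theorem case_ok_AA : caseOK caseAA = true := by decide +kernel

theorem case_ok_AB : caseOK caseAB = true := by decide +kernel

theorem case_ok_BA : caseOK caseBA = true := by decide +kernel

theorem case_ok_BB : caseOK caseBB = true := by decide +kernel

end CfsgLib.SuzUnique
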