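import Cfsg.Agent.Lib.SuzUnique.Frame

/-!
Words in the lifts: relations modulo the element of order three and exact relations.
-/

set_option autoImplicit false
set_option maxRecDepth 100000

namespace CfsgLib.SuzUnique

open CfsgLib.SuzType CfsgLib.SuzThree CfsgLib.Extraspecial CfsgLib.CosetEnum
open CfsgLib.UFourType (gen9 triv9 inv9)

/-- letters of the centraliser of the involution -/
def low (u : List ℕ) : Bool := u.all fun l => Nat.blt l 7

/-- a relation holding exactly -/
noncomputable def exact1 (u : List ℕ) : Bool := low u && triv9 u && eqL (linW u) L1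

/-- two words are equal modulo the element of order three -/
noncomputable def eqv (u u' : List ℕ) : Bool := u.all (fun l => Nat.blt l 9) && u'.all (fun l => Nat.blt l 9) &&
  triv9 (inv9 u ++ u')

theorem inv9_lt {u : List ℕ} (hu : ∀ l ∈ u, l < 9) : ∀ l ∈ inv9 u, l < 9 := by
  intro l hl
  simp only [inv9, List.mem_reverse, List.mem_map] at hl
  obtain ⟨m, hm, rfl⟩ := hl
  have := hu m hm
  interval_cases m <;> simp

theorem inv9_low {u : List ℕ} (hu : ∀ l ∈ u, l < 7) : ∀ l ∈ inv9 u, l < 7 := by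
  intro l hl
  simp only [inv9, List.mem_reverse, List.mem_map] at hl
  obtain ⟨m, hm, rfl⟩ := hl
  have := hu m hm
  interval_cases m <;> simp

theorem comp_L1 (A : Lin) : comp A L1 = A := lin_ext fun x => by rw [app_comp, app_L1]

theorem L1_comp (A : Lin) : comp L1 A = A := lin_ext fun x => by rw [app_comp, app_L1]

theorem comp_assoc (A B C : Lin) : comp (comp A B) C = comp A (comp B C) :=
  lin_ext fun x => by simp only [app_comp]

variable {G : Type*} [Group G] [Finite G] {z y i p a s d : G} {Q : Subgroup G} {v : G → V6}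

namespace SF

variable (S : SF z Q v y i p a s d)
include S

theorem co : Co z Q v := S.yd.co

theorem y3 : y * y * y = 1 := S.yd.cube

theorem zy : Commute z y := S.yd.yz.symm

theorem iC : i ∈ Cz z y := S.yd.Qy_le S.iQ

theorem gen_comm (l : ℕ) : Commute (gen9 i p a s d l) y := by
  match l with
  | 0 => exact (mem_Cz.mp S.iC).2
  | 1 => exact (mem_Cz.mp S.iC).2.inv_left
  | 2 => exact (mem_Cz.mp S.pC).2
  | 3 => exact (mem_Cz.mp S.pC).2.inv_left
  | 4 => exact (mem_Cz.mp S.aC).2
  | 5 => exact (mem_Cz.mp S.aC).2.inv_left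
  | 6 => exact (mem_Cz.mp S.sC).2
  | 7 => exact S.dy
  | 8 => exact S.dy.inv_left
  | n + 9 => exact Commute.one_left y

theorem w_comm (u : List ℕ) : Commute (prodW (gen9 i p a s d) u) y := by
  induction u with
  | nil => exact Commute.one_left y
  | cons l u ih => rw [prodW_cons]; exact (S.gen_comm l).mul_left ih

theorem gen_low {l : ℕ} (hl : l < 7) :
    gen9 i p a s d l ∈ Cz z y ∧ Act Q v (gen9 i p a s d l) (linG l) := by
  have H := S.co
  have pz := (mem_Cz.mp S.pC).1
  have hp2 : p⁻¹ = p * p := (eq_inv_of_mul_eq_one_left S.p3).symm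
  have ha2 : a⁻¹ = z * a := by
    refine inv_eq_of_mul_eq_one_right ?_
    rw [← mul_assoc, (mem_Cz.mp S.aC).1, mul_assoc, S.aa, H.st.zz]
  interval_cases l
  · exact ⟨S.iC, act_inner H S.iQ.1⟩
  · exact ⟨inv_mem S.iC, act_inner H (inv_mem S.iQ.1)⟩
  · exact ⟨S.pC, S.pA⟩
  · refine ⟨inv_mem S.pC, ?_⟩
    show Act Q v p⁻¹ (comp L2 L2)
    rw [hp2]; exact act_mul H pz S.pA S.pA
  · exact ⟨S.aC, S.aA⟩
  · refine ⟨inv_mem S.aC, ?_⟩
    show Act Q v a⁻¹ MA
    rw [ha2, ← L1_comp MA]
    exact act_mul H (mem_Cz.mp S.aC).1 (act_inner H H.z_mem) S.aA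
  · exact ⟨S.sC, S.sA⟩

theorem w_low {u : List ℕ} (hu : ∀ l ∈ u, l < 7) :
    prodW (gen9 i p a s d) u ∈ Cz z y ∧ Act Q v (prodW (gen9 i p a s d) u) (linW u) := by
  induction u with
  | nil => exact ⟨one_mem _, act_inner S.co (one_mem Q)⟩
  | cons l u ih =>
    obtain ⟨h1, h2⟩ := ih fun m hm => hu m (List.mem_cons_of_mem _ hm)
    obtain ⟨g1, g2⟩ := S.gen_low (hu l List.mem_cons_self)
    rw [prodW_cons]
    exact ⟨mul_mem g1 h1, act_mul S.co (mem_Cz.mp h1).1 g2 h2⟩

theorem low_z {u : List ℕ} (h : low u = true) :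
    prodW (gen9 i p a s d) u * z = z * prodW (gen9 i p a s d) u := by
  simp only [low, List.all_eq_true, Nat.blt_eq] at h
  exact (mem_Cz.mp (S.w_low h).1).1

theorem low_act {u : List ℕ} (h : low u = true) : Act Q v (prodW (gen9 i p a s d) u) (linW u) := by
  simp only [low, List.all_eq_true, Nat.blt_eq] at h
  exact (S.w_low h).2

theorem low_mem {u : List ℕ} (h : low u = true) (hL : eqL (linW u) L1 = true) :
    prodW (gen9 i p a s d) u ∈ Qy Q y :=
  ⟨act_mem S.co (S.low_z h) (rel_eq hL ▸ S.low_act h),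
    Subgroup.mem_centralizer_singleton_iff.mpr (S.w_comm u).eq⟩

theorem pow_act {n : G} (hn : n ∈ Subgroup.zpowers y) (h : Act Q v n L1) : n = 1 := by
  rcases pow_cases S.y3 hn with rfl | rfl | rfl
  · rfl
  · exact absurd (act_unique S.co S.yd.act h) L0_ne
  · exfalso
    have := act_unique S.co (act_mul S.co S.yd.yz S.yd.act S.yd.act) h
    exact absurd (congrArg (fun L => app L 16) this) (by decide +kernel)

theorem exact_spec {u : List ℕ} (h : exact1 u = true) : prodW (gen9 i p a s d) u = 1 := by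
  simp only [exact1, Bool.and_eq_true] at h
  obtain ⟨⟨h1, h2⟩, h3⟩ := h
  exact S.pow_act (S.eval u h2) (rel_eq h3 ▸ S.low_act h1)

theorem w_inv {u : List ℕ} (hu : ∀ l ∈ u, l < 9) :
    prodW (gen9 i p a s d) (inv9 u) = (prodW (gen9 i p a s d) u)⁻¹ :=
  CfsgLib.UFourType.inv9_spec S.ss hu

theorem eqv_spec {u u' : List ℕ} (h : eqv u u' = true) :
    (prodW (gen9 i p a s d) u)⁻¹ * prodW (gen9 i p a s d) u' ∈ Subgroup.zpowers y := by
  simp only [eqv, Bool.and_eq_true, List.all_eq_true, Nat.blt_eq] at h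
  have := S.eval _ h.2
  rwa [prodW_append, S.w_inv h.1.1] at this

theorem z_word : prodW (gen9 i p a s d) [0, 0] = z := by simp [prodW, gen9, S.ii]

end SF

end CfsgLib.SuzUnique
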