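import Cfsg.Agent.Lib.SuzUnique.FourData
import Cfsg.Agent.Lib.SuzUnique.Words

/-!
The isometries commuting with the action of the involution and preserving its fixed low vectors.
-/

set_option autoImplicit false
set_option maxRecDepth 100000
set_option maxHeartbeats 4000000

namespace CfsgLib.SuzUnique

open CfsgLib.SuzType CfsgLib.SuzThree

/-- the fixed low vectors -/
def inSv (w : V6) : Bool := w == 0 || w == 2 || w == 5 || w == 7 || w == 8 || w == 10 || w == 13 || w == 15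

/-- the fixed vectors of the first representative -/
def fixF (w : V6) : Bool := app F1 w == w

/-- the thirty-two isometries -/
def c2List : List Lin := [
    ⟨1, 2, 4, 8, 16, 32⟩,
    ⟨1, 15, 9, 5, 16, 48⟩,
    ⟨4, 8, 1, 2, 16, 32⟩,
    ⟨4, 15, 6, 5, 16, 48⟩,
    ⟨6, 5, 4, 15, 16, 48⟩,
    ⟨6, 8, 9, 2, 16, 32⟩,
    ⟨9, 2, 6, 8, 16, 32⟩,
    ⟨9, 5, 1, 15, 16, 48⟩,
    ⟨19, 2, 28, 8, 16, 42⟩,
    ⟨19, 5, 27, 15, 16, 58⟩,
    ⟨27, 2, 30, 8, 16, 42⟩,
    ⟨27, 15, 19, 5, 16, 58⟩,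
    ⟨28, 5, 30, 15, 16, 58⟩,
    ⟨28, 8, 19, 2, 16, 42⟩,
    ⟨30, 8, 27, 2, 16, 42⟩,
    ⟨30, 15, 28, 5, 16, 58⟩,
    ⟨35, 2, 44, 8, 26, 32⟩,
    ⟨35, 5, 43, 15, 26, 58⟩,
    ⟨43, 2, 46, 8, 26, 32⟩,
    ⟨43, 15, 35, 5, 26, 58⟩,
    ⟨44, 5, 46, 15, 26, 58⟩,
    ⟨44, 8, 35, 2, 26, 32⟩,
    ⟨46, 8, 43, 2, 26, 32⟩,
    ⟨46, 15, 44, 5, 26, 58⟩,
    ⟨51, 2, 60, 8, 26, 42⟩,
    ⟨51, 5, 59, 15, 26, 48⟩,
    ⟨59, 2, 62, 8, 26, 42⟩,
    ⟨59, 15, 51, 5, 26, 48⟩,
    ⟨60, 5, 62, 15, 26, 48⟩,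
    ⟨60, 8, 51, 2, 26, 42⟩,
    ⟨62, 8, 59, 2, 26, 42⟩,
    ⟨62, 15, 60, 5, 26, 48⟩]

/-- a candidate is listed or is not admissible -/
def c2Cand (L : Lin) : Bool :=
  c2List.any (eqL L) || !(eqL (comp L F1) (comp F1 L)) ||
    !(nfix L == 1 || nfix L == 4 || nfix L == 16 || nfix L == 64)

/-- the search -/
def c2OK : Bool :=
  all64 fun c1 => !(inSv c1) || qf c1 || c1 == 0 || all64 fun c3 => !(inSv c3) || qf c3 || c3 == 0 || bf c1 c3 ||
    all64 fun c0 => qf c0 || !(bf c0 c1) || bf c0 c3 || all64 fun c2 => !(inSv (xr c0 c2)) || qf c2 || bf c2 c0 || bf c2 c1 ||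
      !(bf c2 c3) || all64 fun c4 => !(fixF c4) || !(qf c4) || bf c4 c0 || bf c4 c1 || bf c4 c2 || bf c4 c3 ||
        all64 fun c5 => !(qf c5) || !(bf c4 c5) || bf c5 c0 || bf c5 c1 || bf c5 c2 || bf c5 c3 ||
          c2Cand ⟨c0, c1, c2, c3, c4, c5⟩

theorem c2_complete : c2OK = true := by decide +kernel

theorem c2_facts : inSv 2 = true ∧ inSv 8 = true ∧ inSv 5 = true ∧ xr 1 4 = 5 ∧ fixF 16 = true ∧
    qf 1 = false ∧ qf 2 = false ∧ qf 4 = false ∧ qf 8 = false ∧ qf 16 = true ∧ qf 32 = true := by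
  decide +kernel

/-- Every isometry commuting with the representative and preserving the eight vectors is listed. -/
theorem mem_c2 {L : Lin} (hL : Good L) (hF : comp L F1 = comp F1 L)
    (hS : ∀ w, inSv w = true → inSv (app L w) = true) : L ∈ c2List := by
  obtain ⟨u1, u2, u3, u4, u5⟩ := app_units L
  have hqb := Iso.bf_eq hL.1
  obtain ⟨s2, s8, s5, h5, f16, q1, q2, q4, q8, q16, q32⟩ := c2_facts
  have hnz : ∀ w : V6, w ≠ 0 → app L w ≠ 0 := fun w hw e => hw (iso_inj hL.1 (e.trans (app_zero L).symm))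
  have f0 : qf L.c0 = false := by rw [← app_one, hL.1]; exact q1
  have f2 : qf L.c2 = false := by rw [← u2, hL.1]; exact q4
  have f4 : qf L.c4 = true := by rw [← u4, hL.1]; exact q16
  have f5 : qf L.c5 = true := by rw [← u5, hL.1]; exact q32
  have i1 : inSv L.c1 = true := u1 ▸ hS 2 s2
  have i3 : inSv L.c3 = true := u3 ▸ hS 8 s8
  have i02 : inSv (xr L.c0 L.c2) = true := by rw [← app_one, ← u2, ← app_xr, h5]; exact hS 5 s5
  have i4 : fixF L.c4 = true := by
    have := congrArg (fun A => app A 16) hF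
    simp only [app_comp] at this
    rw [fixF, beq_iff_eq, ← u4, ← this]
    exact congrArg (app L) (beq_iff_eq.mp f16)
  have f1 : qf L.c1 = false := by rw [← u1, hL.1]; exact q2
  have f3 : qf L.c3 = false := by rw [← u3, hL.1]; exact q8
  have n1 : L.c1 ≠ 0 := u1 ▸ hnz 2 (by decide)
  have n3 : L.c3 ≠ 0 := u3 ▸ hnz 8 (by decide)
  have b13 : bf L.c1 L.c3 = false := by rw [← u1, ← u3, hqb]; decide
  have b01 : bf L.c0 L.c1 = true := by rw [← app_one, ← u1, hqb]; decide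
  have b03 : bf L.c0 L.c3 = false := by rw [← app_one, ← u3, hqb]; decide
  have b20 : bf L.c2 L.c0 = false := by rw [← app_one, ← u2, hqb]; decide
  have b21 : bf L.c2 L.c1 = false := by rw [← u1, ← u2, hqb]; decide
  have b23 : bf L.c2 L.c3 = true := by rw [← u2, ← u3, hqb]; decide
  have b40 : bf L.c4 L.c0 = false := by rw [← app_one, ← u4, hqb]; decide
  have b41 : bf L.c4 L.c1 = false := by rw [← u1, ← u4, hqb]; decide
  have b42 : bf L.c4 L.c2 = false := by rw [← u2, ← u4, hqb]; decide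
  have b43 : bf L.c4 L.c3 = false := by rw [← u3, ← u4, hqb]; decide
  have b45 : bf L.c4 L.c5 = true := by rw [← u4, ← u5, hqb]; decide
  have b50 : bf L.c5 L.c0 = false := by rw [← app_one, ← u5, hqb]; decide
  have b51 : bf L.c5 L.c1 = false := by rw [← u1, ← u5, hqb]; decide
  have b52 : bf L.c5 L.c2 = false := by rw [← u2, ← u5, hqb]; decide
  have b53 : bf L.c5 L.c3 = false := by rw [← u3, ← u5, hqb]; decide
  have h := c2_complete
  simp only [c2OK, all64, List.all_eq_true, List.mem_finRange, forall_const, Bool.or_eq_true,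
    Bool.not_eq_true', beq_iff_eq] at h
  have k := h L.c1
  simp only [i1, f1, n1, Bool.false_eq_true, Bool.true_eq_false, false_or] at k
  have k := k L.c3
  simp only [i3, f3, n3, b13, Bool.true_eq_false, Bool.false_eq_true, false_or] at k
  have k := k L.c0
  simp only [f0, b01, b03, Bool.true_eq_false, Bool.false_eq_true, false_or] at k
  have k := k L.c2
  simp only [i02, f2, b20, b21, b23, Bool.true_eq_false, Bool.false_eq_true, false_or] at k
  have k := k L.c4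
  simp only [i4, f4, b40, b41, b42, b43, Bool.true_eq_false, Bool.false_eq_true, false_or] at k
  have k := k L.c5
  simp only [f5, b45, b50, b51, b52, b53, Bool.true_eq_false, Bool.false_eq_true, false_or] at k
  simp only [c2Cand, Bool.or_eq_true, Bool.not_eq_true', List.any_eq_true, beq_iff_eq, or_assoc] at k
  rcases k with ⟨N, hN, k⟩ | k | k
  · exact (show L = N from rel_eq k) ▸ hN
  · rw [eqL_iff.mpr hF] at k; exact absurd k (by decide)
  · exfalso
    simp only [Bool.or_eq_false_iff, beq_eq_false_iff_ne] at k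
    obtain ⟨⟨⟨k1, k2⟩, k3⟩, k4⟩ := k
    rcases hL.2 with e | e | e | e
    exacts [k1 e, k2 e, k3 e, k4 e]

end CfsgLib.SuzUnique
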