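import Cfsg.Agent.Lib.CosetEnum.Basic

/-!
Coset enumeration data: 16 cosets, 16 nodes, 32 facts.
-/

set_option autoImplicit false
set_option linter.style.longLine false

namespace CfsgLib.SuzUnique
open CfsgLib.CosetEnum

/-- the certificate -/
def certF : Cert where
  K := 4
  invs := [0, 1, 2, 3]
  rels := [[0, 0],
    [0, 1, 0, 1],
    [0, 2, 0, 2],
    [0, 3, 0, 3],
    [1, 1],
    [1, 2, 1, 2],
    [1, 3, 1, 3],
    [2, 2],
    [2, 3, 2, 3, 2, 3, 2, 3],
    [3, 3],
    [0, 3, 2, 3, 2]]
  subs := []
  N := 16
  M := 16
  F := 32
  defs := (.leaf 0x122000010300000a300000a2000008200000630000043000004200000230000022000002100000030000002000000100000000000000)
  facts := (.leaf 0x20000006601806054000060c0000f0001800000600100402c00005840000f00018000005a0100401400007000000f00000000005a000000000000788000090002000000520180405400006880000e00018000004c0100403400005040000e00000000004c00000000000070c000080001800000460100403400003840000d0001800000400100401c00004800000d00000000004000000000000068c0000500018000003a0100402c00003040000c0001800000340100401400004000000c0000000000340000000000006080000500020000002c01806054000030c0000b0001800000260100401400005000000b0000000000260000000000005880000400020000001e0180405400003880000a00000000001e00000000000050c000030001800000180100403400002040000900000000001800000000000048c000020001800000120100402c0000184000080000000000120000000000004080000200018000000c0100401c00002000000700000000000c00000000000038c0000100018000000601004014000018000006000000000006000000000000308000010001800000000100400c0000100000050000000000000000000000002840000100000000000000000000000020c00000000000000000000000000000188000000000000000000000000000001040000000000000000000000000000008000000)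
  refs := (.leaf 0x3800001800000a00002700003800001b00002100003800002e00003600003200002800002600002d00003200001700001d00002c00000800001100002c00000b00001900002600000800000d00002600000b00001500002000000600000100000d00002000001200001e00001c00000e00000c00001100001800000200000700001400000200000500001000000000000700000c000000000005000008000000000003)
  tab := (.leaf 0xc000090000b0000e000080000d0000a0000f000050000e00007000090000f00005000060000800006000040000f0000a00003000070000e0000b000020000f000040000d0000e00002000030000c000010000a0000d000040000b000010000c000030000d0000c0000100002000000000b00009000070000a000000000800006000090000800000000050000700006000050000000004000030000200001)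
  nd := (.leaf 0xf00000e00000d00000c00000b00000a000009000008000007000006000005000004000003000002000001000000)
  edge := (.leaf 0x3e00003900003c00003a00003300003600003400003b00002d00003700003000002e00003f00002700002a00002800002400002100003d00002200001d00001e00003500002300001900003800001a00002f00003200001500001600002900001100001f00003100001200002500000d00002b00000e00002c00002600000900000a00000700002000001b00001300001c00000500001700000f00001800001400000300000b00001000000c000008000001000006000004000002000000)
  img := (.leaf 0xf0000e0000d0000c0000b0000a00009000080000700006000050000400003000020000100000)

end CfsgLib.SuzUnique
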