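import Cfsg.Agent.Lib.SuzUnique.Words

/-!
Elements congruent to words modulo the element of order three, and a detection lemma for equalities.
-/

set_option autoImplicit false

namespace CfsgLib.SuzUnique

open CfsgLib.SuzType CfsgLib.SuzThree CfsgLib.Extraspecial CfsgLib.CosetEnum
open CfsgLib.UFourType (gen9 triv9 inv9)

variable {G : Type*} [Group G] {z y i p a s d : G} {Q : Subgroup G} {v : G → V6}

/-- congruence of an element to a word -/
def Cg (y i p a s d : G) (u : List ℕ) (k : G) : Prop :=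
  Commute k y ∧ (prodW (gen9 i p a s d) u)⁻¹ * k ∈ Subgroup.zpowers y

theorem zb_detect [Finite G] (H : Co z Q v) {b q : G} (hb : b * b = 1) (h5 : (z * b) ^ 5 = 1) (hne : ¬ Commute z b)
    (hq : q ∈ Q) (hqb : Commute q b) : q = 1 := by
  by_contra h1
  have hqz : q ≠ z := fun e => hne (e ▸ hqb)
  rcases H.st.sq_cases hq with h2 | h2
  · obtain ⟨g, hg, P⟩ := H.exists_pair hq h2 h1 hqz
    set R := Q.map (MulAut.conj g).toMonoidHom with hR
    have hbn : b ∈ Subgroup.normalizer (R : Set G) :=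
      P.s'.cz (Subgroup.mem_centralizer_singleton_iff.mpr (by rw [hg]; exact hqb.symm.eq))
    have hzR : z ∈ R := P.mem'
    have hcz : b * z * b⁻¹ ∈ R := (Subgroup.mem_normalizer_iff.mp hbn z).mp hzR
    have hm : z * b * (z * b) ∈ R := by
      have := mul_mem hzR hcz
      rwa [inv_eq_of_mul_eq_one_right hb, show z * (b * z * b) = z * b * (z * b) by group] at this
    have h128 : (z * b * (z * b)) ^ 128 = 1 := by
      have hc : Nat.card R = 128 := by
        rw [hR, ← Nat.card_congr (Q.equivMapOfInjective _ (MulAut.conj g).injective).toEquiv, H.card]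
      have := pow_card_eq_one' (x := (⟨_, hm⟩ : R))
      rw [hc] at this
      simpa using congrArg Subtype.val this
    have h10 : (z * b * (z * b)) ^ 5 = 1 := by
      rw [← pow_two, ← pow_mul, show 2 * 5 = 5 * 2 from rfl, pow_mul, h5, one_pow]
    have hsq : z * b * (z * b) = 1 := orderOf_eq_one_iff.mp (Nat.eq_one_of_dvd_coprimes (a := 128) (b := 5) (by decide)
      (orderOf_dvd_of_pow_eq_one h128) (orderOf_dvd_of_pow_eq_one h10))
    refine hne ?_
    calc z * b = (z * b * (z * b)) * (b⁻¹ * z⁻¹) := by group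
      _ = b * z := by rw [hsq, one_mul, inv_eq_of_mul_eq_one_right hb, H.st.inv_z]
  · exact hne (h2 ▸ hqb.mul_left hqb)

theorem zb_eq [Finite G] (H : Co z Q v) {b : G} (hb : b * b = 1) (h5 : (z * b) ^ 5 = 1) (hne : ¬ Commute z b)
    {k k' : G} {L : Lin} (hkz : Commute k z) (hkb : Commute k b) (hk : Act Q v k L)
    (hkz' : Commute k' z) (hkb' : Commute k' b) (hk' : Act Q v k' L) : k = k' := by
  obtain ⟨M, -, hM⟩ := act_exists H hkz'.inv_left.eq
  have e : comp L M = L1 := act_unique H (act_mul H hkz'.inv_left.eq hk' hM)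
    (by rw [mul_inv_cancel]; exact act_inner H (one_mem Q))
  have hm : k * k'⁻¹ ∈ Q := act_mem H (hkz.mul_left hkz'.inv_left).eq (e ▸ act_mul H hkz'.inv_left.eq hk hM)
  exact mul_inv_eq_one.mp (zb_detect H hb h5 hne hm (hkb.mul_left hkb'.inv_left))

namespace SF

variable [Finite G] (S : SF z Q v y i p a s d)
include S

theorem cg_self (u : List ℕ) : Cg y i p a s d u (prodW (gen9 i p a s d) u) :=
  ⟨S.w_comm u, by rw [inv_mul_cancel]; exact one_mem _⟩

theorem cg_mul {u u' : List ℕ} {k k' : G} (h : Cg y i p a s d u k) (h' : Cg y i p a s d u' k') :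
    Cg y i p a s d (u ++ u') (k * k') := by
  refine ⟨h.1.mul_left h'.1, ?_⟩
  have e : Commute (prodW (gen9 i p a s d) u')⁻¹ ((prodW (gen9 i p a s d) u)⁻¹ * k) :=
    pow_commute (S.w_comm u').inv_left h.2
  rw [prodW_append, mul_inv_rev,
    show (prodW (gen9 i p a s d) u')⁻¹ * (prodW (gen9 i p a s d) u)⁻¹ * (k * k') =
      (prodW (gen9 i p a s d) u')⁻¹ * ((prodW (gen9 i p a s d) u)⁻¹ * k) * k' by group, e.eq,
    show (prodW (gen9 i p a s d) u)⁻¹ * k * (prodW (gen9 i p a s d) u')⁻¹ * k' =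
      ((prodW (gen9 i p a s d) u)⁻¹ * k) * ((prodW (gen9 i p a s d) u')⁻¹ * k') by group]
  exact mul_mem h.2 h'.2

theorem cg_inv {u : List ℕ} {k : G} (hu : ∀ l ∈ u, l < 9) (h : Cg y i p a s d u k) :
    Cg y i p a s d (inv9 u) k⁻¹ := by
  refine ⟨h.1.inv_left, ?_⟩
  have e : Commute k ((prodW (gen9 i p a s d) u)⁻¹ * k) := pow_commute h.1 h.2
  rw [S.w_inv hu, inv_inv, show prodW (gen9 i p a s d) u * k⁻¹ =
    (k * ((prodW (gen9 i p a s d) u)⁻¹ * k) * k⁻¹)⁻¹ by group, e.eq, mul_inv_cancel_right]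
  exact inv_mem h.2

theorem cg_eqv {u u' : List ℕ} {k : G} (h : Cg y i p a s d u k) (e : eqv u u' = true) : Cg y i p a s d u' k := by
  refine ⟨h.1, ?_⟩
  have := mul_mem (inv_mem (S.eqv_spec e)) h.2
  rwa [show ((prodW (gen9 i p a s d) u)⁻¹ * prodW (gen9 i p a s d) u')⁻¹ * ((prodW (gen9 i p a s d) u)⁻¹ * k) =
    (prodW (gen9 i p a s d) u')⁻¹ * k by group] at this

theorem cg_triv {u : List ℕ} {k : G} (h : Cg y i p a s d u k) (e : triv9 u = true) : k ∈ Subgroup.zpowers y := by
  have := mul_mem (S.eval u e) h.2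
  rwa [mul_inv_cancel_left] at this

theorem cg_rep {u : List ℕ} {k : G} (h : Cg y i p a s d u k) :
    ∀ n, Cg y i p a s d ((List.replicate n u).flatten) (k ^ n)
  | 0 => by simpa using S.cg_self []
  | n + 1 => by
    rw [List.replicate_succ, List.flatten_cons, pow_succ']
    exact S.cg_mul h (cg_rep h n)

theorem cg_flat {K : Subgroup G} {l : List (List ℕ)} (hl : ∀ u ∈ l, ∃ k ∈ K, Cg y i p a s d u k) :
    ∀ ix : List ℕ, ∃ k ∈ K, Cg y i p a s d ((ix.map fun j => l.getD j []).flatten) k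
  | [] => ⟨1, one_mem K, by simpa using S.cg_self []⟩
  | j :: ix => by
    obtain ⟨k, hk, h⟩ := cg_flat hl ix
    rw [List.map_cons, List.flatten_cons]
    by_cases hj : j < l.length
    · obtain ⟨k', hk', h'⟩ := hl _ (List.getElem_mem hj)
      rw [List.getD_eq_getElem _ _ hj]
      exact ⟨k' * k, mul_mem hk' hk, S.cg_mul h' h⟩
    · rw [List.getD_eq_default _ _ (by omega), List.nil_append]
      exact ⟨k, hk, h⟩

end SF

end CfsgLib.SuzUnique
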