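/-!
Data for the centraliser of the second class of involutions.
-/

set_option autoImplicit false

namespace CfsgLib.SuzUnique

/-- words for a case -/
structure ECase where
  gix : List (List Nat)
  t1 : List Nat
  t2 : List Nat
  kws : List (List Nat)
  o7 : List Nat
  ta : List Nat
  tb : List Nat
  gs : List (List Nat)
  hc : List Nat

/-- words for a case -/
def endAA : ECase where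
  gix := [[0], [2], [0, 1, 2, 1, 4, 1, 0, 1, 2, 4, 1], [3], [1, 2, 3, 1, 0, 1, 2, 1, 3, 1], [0, 1, 0, 1, 0, 2, 1, 3, 1, 2, 4, 1, 0], [1, 0, 1, 0, 2, 1, 3, 4, 1, 2, 3, 1, 4], [0, 1, 2, 4, 1, 2, 3, 1, 0, 2, 1, 0, 1], [1, 0, 1, 2, 1, 4, 3, 1, 2, 4, 3, 1, 2]]
  t1 := [0, 1, 2, 1, 4, 1, 0, 1, 2, 4, 1]
  t2 := [1, 2, 3, 1, 0, 1, 2, 1, 3, 1]
  kws := [[], [3, 1, 2, 4, 1], [1, 0, 2, 3, 1, 0, 2, 1], [], [], [1, 0, 2, 1, 4, 1, 0, 1], [1, 0, 1, 2, 1, 0, 3, 1], [], [1, 0, 2, 1, 0, 1], [3, 1, 0, 2, 1, 4, 1, 0, 1], [1, 0, 1, 2, 3, 1, 0, 1], [], [1, 0, 1, 0, 2, 1], [1, 2, 4, 1], [4, 1, 0, 1, 2, 1, 0, 3, 1], [], [1, 0, 3, 1, 0, 1], [], [1, 2, 3, 1], [], [1, 0, 1, 0, 3, 1], [], [4, 1, 0, 2, 1, 3, 1, 0, 1], [], [4, 1, 0, 1, 2, 1, 3, 1, 0, 2, 1], [],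 [1, 0, 2, 1, 3, 1, 0, 1], [], [1, 0, 1, 2, 1, 3, 1, 0, 2, 1], [], [4, 1, 2, 3, 1], [], [1, 0, 4, 1, 0, 1], [3, 1, 0, 1, 2, 1, 0, 4, 1], [], [], [1, 0, 1, 0, 4, 1], [1, 0, 1, 2, 4, 1, 0, 1], [], [], [3, 1, 0, 1, 2, 1, 4, 1, 0, 2, 1], [1, 0, 1, 2, 1, 0, 4, 1], [], [], [1, 0, 1, 2, 1, 4, 1, 0, 2, 1], [1, 0, 2, 4, 1, 0, 2, 1], [], [], [], [], [], [], [], [], [], [], [], [], [], [], [], [], [], []]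
  o7 := [1, 2, 3, 4]
  ta := [1, 3]
  tb := [0, 1, 0, 4, 1, 0, 1]
  gs := [[], [6], [], []]
  hc := [0, 1]

/-- words for a case -/
def endAB : ECase where
  gix := [[0], [2], [0, 1, 2, 4, 1, 0, 1, 2, 4, 1], [3], [0, 1, 2, 3, 1, 0, 1, 2, 1, 3, 1], [0, 1, 2, 1, 4, 1, 3, 1, 0, 2, 1, 0, 1, 2], [1, 2, 4, 1, 0, 1, 2, 3, 4, 1, 0, 1], [0, 1, 0, 1, 0, 2, 1, 4, 3, 1, 2, 4, 1, 0], [1, 0, 1, 2, 4, 3, 1, 0, 1, 2, 4, 1]]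
  t1 := [0, 1, 2, 4, 1, 0, 1, 2, 4, 1]
  t2 := [0, 1, 2, 3, 1, 0, 1, 2, 1, 3, 1]
  kws := [[], [3, 1, 0, 2, 1, 4, 1, 0, 1], [1, 0, 1, 2, 1, 0, 3, 1], [], [], [1, 2, 4, 1], [1, 0, 2, 3, 1, 0, 2, 1], [], [1, 0, 2, 1, 0, 1], [3, 1, 2, 4, 1], [4, 1, 0, 1, 2, 1, 0, 3, 1], [], [1, 0, 1, 0, 2, 1], [1, 0, 2, 1, 4, 1, 0, 1], [1, 0, 1, 2, 3, 1, 0, 1], [], [1, 0, 3, 1, 0, 1], [], [4, 1, 0, 2, 1, 3, 1, 0, 1], [], [1, 0, 1, 0, 3, 1], [], [1, 2, 3, 1], [], [4, 1, 0, 1, 2, 1, 3, 1, 0, 2, 1], [], [4, 1, 2, 3, 1], [], [1, 0, 1, 2, 1, 3, 1, 0, 2, 1], [], [1, 0, 2, 1, 3, 1, 0, 1], [], [1, 0, 4, 1, 0, 1], [1, 0, 1, 2, 1, 0, 4, 1], [], [], [1, 0, 1, 0, 4, 1], [1, 0, 2, 4, 1, 0, 2, 1], [], [], [3, 1, 0, 1, 2, 1, 4, 1, 0, 2, 1], [3, 1, 0, 1, 2, 1, 0, 4,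 1], [], [], [1, 0, 1, 2, 1, 4, 1, 0, 2, 1], [1, 0, 1, 2, 4, 1, 0, 1], [], [], [], [], [], [], [], [], [], [], [], [], [], [], [], [], [], []]
  o7 := [1, 2, 3, 4]
  ta := [1, 3]
  tb := [0, 1, 0, 4, 1, 0, 1]
  gs := [[2], [6], [6, 2], [], [], []]
  hc := [0, 1]

/-- words for a case -/
def endBA : ECase where
  gix := [[0], [2], [1, 2, 4, 1, 0, 1, 2, 4, 1], [3], [1, 2, 3, 1, 0, 1, 2, 1, 3, 1], [0, 1, 2, 1, 4, 1, 3, 1, 0, 2, 1, 0, 1], [1, 3, 1, 2, 4, 1, 2, 3, 4, 1, 0, 2, 1], [1, 0, 1, 0, 2, 1, 3, 1, 2, 4, 1, 0, 2], [1, 0, 1, 2, 1, 4, 3, 1, 2, 4, 1, 3, 1]]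
  t1 := [1, 2, 4, 1, 0, 1, 2, 4, 1]
  t2 := [1, 2, 3, 1, 0, 1, 2, 1, 3, 1]
  kws := [[], [1, 2, 4, 1], [1, 0, 2, 3, 1, 0, 2, 1], [], [], [3, 1, 0, 2, 1, 4, 1, 0, 1], [1, 0, 1, 2, 1, 0, 3, 1], [], [1, 0, 2, 1, 0, 1], [1, 0, 2, 1, 4, 1, 0, 1], [1, 0, 1, 2, 3, 1, 0, 1], [], [1, 0, 1, 0, 2, 1], [3, 1, 2, 4, 1], [4, 1, 0, 1, 2, 1, 0, 3, 1], [], [1, 0, 3, 1, 0, 1], [], [1, 2, 3, 1], [], [1, 0, 1, 0, 3, 1], [], [4, 1, 0, 2, 1, 3, 1, 0, 1], [], [4, 1, 0, 1, 2, 1, 3, 1, 0, 2, 1], [], [1, 0, 2, 1, 3, 1, 0, 1], [], [1, 0, 1, 2, 1, 3, 1, 0, 2, 1], [], [4, 1, 2, 3, 1], [], [1, 0, 4, 1, 0, 1], [1, 0, 2, 4, 1, 0, 2, 1], [], [], [1, 0, 1, 0, 4, 1], [1, 0, 1, 2, 1, 0, 4, 1], [], [], [3, 1, 0, 1, 2, 1, 4, 1, 0, 2, 1], [1, 0, 1, 2, 4, 1, 0, 1], [], [],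 [1, 0, 1, 2, 1, 4, 1, 0, 2, 1], [3, 1, 0, 1, 2, 1, 0, 4, 1], [], [], [], [], [], [], [], [], [], [], [], [], [], [], [], [], [], []]
  o7 := [1, 2, 3, 4]
  ta := [1, 3]
  tb := [0, 1, 0, 4, 1, 0, 1]
  gs := [[2], [6], [6, 2], [], [], []]
  hc := [0, 1]

/-- words for a case -/
def endBB : ECase where
  gix := [[0], [2], [1, 2, 4, 1, 0, 1, 2, 4, 1], [3], [0, 1, 2, 3, 1, 0, 1, 2, 1, 3, 1], [1, 2, 4, 1, 3, 1, 0, 2, 1, 0, 1, 2], [1, 2, 3, 4, 1, 2, 3, 4, 1, 0, 2, 1, 3], [2, 1, 0, 1, 0, 2, 1, 3, 1, 2, 4, 1], [3, 1, 0, 1, 2, 1, 4, 3, 1, 2, 4, 3, 1]]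
  t1 := [1, 2, 4, 1, 0, 1, 2, 4, 1]
  t2 := [0, 1, 2, 3, 1, 0, 1, 2, 1, 3, 1]
  kws := [[], [1, 2, 4, 1], [1, 0, 1, 2, 1, 0, 3, 1], [], [], [3, 1, 0, 2, 1, 4, 1, 0, 1], [1, 0, 2, 3, 1, 0, 2, 1], [], [1, 0, 2, 1, 0, 1], [1, 0, 2, 1, 4, 1, 0, 1], [4, 1, 0, 1, 2, 1, 0, 3, 1], [], [1, 0, 1, 0, 2, 1], [3, 1, 2, 4, 1], [1, 0, 1, 2, 3, 1, 0, 1], [], [1, 0, 3, 1, 0, 1], [], [4, 1, 0, 2, 1, 3, 1, 0, 1], [], [1, 0, 1, 0, 3, 1], [], [1, 2, 3, 1], [], [4, 1, 0, 1, 2, 1, 3, 1, 0, 2, 1], [], [4, 1, 2, 3, 1], [], [1, 0, 1, 2, 1, 3, 1, 0, 2, 1], [], [1, 0, 2, 1, 3, 1, 0, 1], [], [1, 0, 4, 1, 0, 1], [1, 0, 2, 4, 1, 0, 2, 1], [], [], [1, 0, 1, 0, 4, 1], [1, 0, 1, 2, 1, 0, 4, 1], [], [], [3, 1, 0, 1, 2, 1, 4, 1, 0, 2, 1], [1, 0, 1, 2, 4, 1, 0, 1], [],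 [], [1, 0, 1, 2, 1, 4, 1, 0, 2, 1], [3, 1, 0, 1, 2, 1, 0, 4, 1], [], [], [], [], [], [], [], [], [], [], [], [], [], [], [], [], [], []]
  o7 := [1, 2, 3, 4]
  ta := [1, 3]
  tb := [0, 1, 0, 4, 1, 0, 1]
  gs := [[2], [6], [6, 2], [], [], []]
  hc := [0, 1]

end CfsgLib.SuzUnique
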