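import Mathlib

/-!
A group of order 20160 with small centralisers has no large subgroup of odd order.
-/

set_option autoImplicit false
set_option linter.style.haveILetI false

namespace CfsgLib.SuzUnique

variable {U : Type*} [Group U] [Finite U]

/-- An element of odd order normalising a group of order five centralises it. -/
theorem fix_five {k g : U} (hg : orderOf g = 5) {n : ℕ} (hn : Odd n) (hk : k ^ n = 1)
    (h : k * g * k⁻¹ ∈ Subgroup.zpowers g) : Commute k g := by
  obtain ⟨j, hj⟩ := mem_powers_iff_mem_zpowers.mpr h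
  replace hj : g ^ j = k * g * k⁻¹ := hj
  have it : ∀ m : ℕ, k ^ m * g * (k ^ m)⁻¹ = g ^ (j ^ m) := by
    intro m
    induction m with
    | zero => simp
    | succ m ih =>
      rw [pow_succ' k, show k * k ^ m * g * (k * k ^ m)⁻¹ = k * (k ^ m * g * (k ^ m)⁻¹) * k⁻¹ by group, ih,
        ← conj_pow, ← hj, ← pow_mul, pow_succ']
  have h1 := it n
  rw [hk, one_mul, inv_one, mul_one] at h1
  have hmod : 1 % 5 = j ^ n % 5 := by
    have := pow_inj_mod.mp (show g ^ 1 = g ^ (j ^ n) by rw [pow_one]; exact h1)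
    rwa [hg] at this
  have hj1 : j % 5 = 1 := by
    obtain ⟨t, rfl⟩ := hn
    rw [Nat.pow_mod, pow_succ, pow_mul, Nat.mul_mod, Nat.pow_mod] at hmod
    have hr : j % 5 < 5 := Nat.mod_lt _ (by norm_num)
    generalize j % 5 = r at hmod hr
    interval_cases r
    · simp [Nat.zero_pow, Nat.mod_eq_of_lt] at hmod
    · rfl
    all_goals
      exfalso
      norm_num at hmod <;>
      rcases Nat.even_or_odd t with ⟨s, rfl⟩ | ⟨s, rfl⟩ <;>
        simp [pow_succ, ← two_mul, pow_mul, Nat.mul_mod, Nat.pow_mod] at hmod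
  refine mul_inv_eq_iff_eq_mul.mp ?_
  rw [← hj, ← pow_mod_orderOf, hg, hj1, pow_one]

theorem sylow_count {p : ℕ} [Fact p.Prime] {K : Type*} [Group K] [Finite K] (P : Sylow p K) :
    Nat.card (Sylow p K) ∣ P.index ∧ Nat.card (Sylow p K) % p = 1 % p :=
  ⟨P.card_dvd_index, card_sylow_modEq_one p K⟩

theorem sylow_card_prime {p : ℕ} [hp : Fact p.Prime] {K : Type*} [Group K] [Finite K] (P : Sylow p K)
    (h1 : p ∣ Nat.card K) (h2 : ¬ p ^ 2 ∣ Nat.card K) : Nat.card P = p := by
  obtain ⟨k, hk⟩ := IsPGroup.iff_card.mp P.isPGroup'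
  have hdvd : p ^ k ∣ Nat.card K := hk ▸ Subgroup.card_subgroup_dvd_card _
  have hnd := P.not_dvd_index
  have hi := (P : Subgroup K).index_mul_card
  rcases k with _ | _ | k
  · rw [pow_zero] at hk
    rw [hk, mul_one] at hi
    rw [hi] at hnd
    exact absurd h1 hnd
  · rwa [pow_one] at hk
  · exact absurd ((pow_dvd_pow p (by omega)).trans hdvd) h2

variable (h7 : ∀ a b : U, orderOf a = 7 → Commute a b → b ∈ Subgroup.zpowers a)
  (hN : ∀ a : U, orderOf a = 7 → ∀ O : Subgroup U, (∀ o ∈ O, o * a * o⁻¹ ∈ Subgroup.zpowers a) → Nat.card O ≤ 21)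

omit [Finite U] in
theorem five_seven {g a : U} (hg : orderOf g = 5) (ha : orderOf a = 7)
    (h : g ∈ Subgroup.zpowers a) : False := by
  have := orderOf_dvd_of_mem_zpowers h
  rw [hg, ha] at this
  omega

include hN in
/-- In a subgroup of order 21 or 63 the group of order seven is normal, so the order is 21. -/
theorem seven_normal {O K : Subgroup U} (hKO : K ≤ O) (hn : ∀ o ∈ O, ∀ k ∈ K, o * k * o⁻¹ ∈ K)
    (hK : Nat.card K = 21 ∨ Nat.card K = 63) : Nat.card O ≤ 21 := by
  haveI : Fact (Nat.Prime 7) := ⟨by norm_num⟩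
  obtain ⟨P⟩ := Sylow.nonempty (p := 7) (G := K)
  have hP : Nat.card P = 7 := by
    refine sylow_card_prime P ?_ ?_ <;> rcases hK with h | h <;> rw [h] <;> norm_num
  obtain ⟨a, ha⟩ := exists_prime_orderOf_dvd_card' (G := (P : Subgroup K)) 7 (by rw [hP])
  have huniq : Nat.card (Sylow 7 K) = 1 := by
    obtain ⟨h1, h2⟩ := sylow_count P
    have hi := (P : Subgroup K).index_mul_card
    rw [hP] at hi
    have hle := Nat.le_of_dvd (Nat.pos_of_ne_zero P.index_ne_zero_of_finite) h1
    rcases hK with h | h <;> rw [h] at hi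
    · have : (P : Subgroup K).index = 3 := by omega
      rw [this] at h1 hle
      interval_cases Nat.card (Sylow 7 K) <;> omega
    · have : (P : Subgroup K).index = 9 := by omega
      rw [this] at h1 hle
      interval_cases Nat.card (Sylow 7 K) <;> omega
  haveI : Subsingleton (Sylow 7 K) := (Nat.card_eq_one_iff_unique.mp huniq).1
  refine hN ((a : K) : U) (by rw [Subgroup.orderOf_coe, Subgroup.orderOf_coe, ha]) O fun o ho => ?_
  set k : K := ⟨o * ((a : K) : U) * o⁻¹, hn o ho _ (a : K).2⟩ with hk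
  have hka : k ^ 7 = 1 := Subtype.ext (by
    show (o * ((a : K) : U) * o⁻¹) ^ 7 = 1
    have : ((a : K) : U) ^ 7 = 1 := by
      have h := pow_orderOf_eq_one a
      rw [ha] at h
      simpa using congrArg (fun x : (P : Subgroup K) => ((x : K) : U)) h
    rw [conj_pow, this]; group)
  have hPk : IsPGroup 7 (Subgroup.zpowers k) := by
    by_cases h1 : k = 1
    · exact IsPGroup.of_card (n := 0) (by rw [Nat.card_zpowers, h1, orderOf_one, pow_zero])
    · exact IsPGroup.of_card (n := 1) (by rw [Nat.card_zpowers, orderOf_eq_prime hka h1, pow_one])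
  obtain ⟨P', hP'⟩ := hPk.exists_le_sylow
  rw [Subsingleton.elim P' P] at hP'
  have hkP := hP' (Subgroup.mem_zpowers k)
  have hz : Subgroup.zpowers a = ⊤ := Subgroup.eq_top_of_card_eq _ (by rw [Nat.card_zpowers, ha, hP])
  obtain ⟨m, hm⟩ := Subgroup.mem_zpowers_iff.mp (hz ▸ Subgroup.mem_top (⟨k, hkP⟩ : (P : Subgroup K)))
  refine Subgroup.mem_zpowers_iff.mpr ⟨m, ?_⟩
  have := congrArg (fun x : (P : Subgroup K) => ((x : K) : U)) hm
  simpa using this

include h7 hN in
/-- A subgroup of order 105 or 315 does not exist. -/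
theorem no_five_seven {O : Subgroup U} (hO : Nat.card O = 105 ∨ Nat.card O = 315) : False := by
  haveI : Fact (Nat.Prime 5) := ⟨by norm_num⟩
  haveI : Fact (Nat.Prime 7) := ⟨by norm_num⟩
  obtain ⟨P⟩ := Sylow.nonempty (p := 5) (G := O)
  have hodd : Odd (Nat.card O) := by rcases hO with h | h <;> rw [h] <;> decide
  have hP : Nat.card P = 5 := by
    refine sylow_card_prime P ?_ ?_ <;> rcases hO with h | h <;> rw [h] <;> norm_num
  obtain ⟨g, hg⟩ := exists_prime_orderOf_dvd_card' (G := (P : Subgroup O)) 5 (by rw [hP])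
  have hz : Subgroup.zpowers (g : O) = (P : Subgroup O) := Subgroup.eq_of_le_of_card_ge
    (Subgroup.zpowers_le.mpr g.2) (by rw [Nat.card_zpowers, Subgroup.orderOf_coe, hg, hP])
  have hgO : orderOf (g : O) = 5 := by rw [Subgroup.orderOf_coe, hg]
  have hnorm : ∀ k ∈ Subgroup.normalizer ((P : Subgroup O) : Set O), Commute k (g : O) := by
    intro k hk
    refine fix_five hgO hodd (pow_card_eq_one') ?_
    rw [hz]
    exact (Subgroup.mem_normalizer_iff.mp hk _).mp g.2
  by_cases hn : (P : Subgroup O).Normal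
  · obtain ⟨a, ha⟩ := exists_prime_orderOf_dvd_card' (G := O) 7 (by rcases hO with h | h <;> rw [h] <;> norm_num)
    have hca := hnorm a (by rw [Subgroup.normalizer_eq_top_iff.mpr hn]; trivial)
    refine five_seven (g := ((g : O) : U)) (by rw [Subgroup.orderOf_coe, hgO]) (a := (a : U))
      (by rw [Subgroup.orderOf_coe, ha]) (h7 _ _ (by rw [Subgroup.orderOf_coe, ha]) ?_)
    exact hca.map O.subtype
  · have hle : Subgroup.normalizer ((P : Subgroup O) : Set O) ≤ Subgroup.centralizer ((P : Subgroup O) : Set O) := by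
      intro k hk
      rw [← hz, Subgroup.zpowers_eq_closure, Subgroup.centralizer_closure, Subgroup.mem_centralizer_singleton_iff]
      exact (hnorm k hk).eq
    have hc := MonoidHom.ker_transferSylow_isComplement' P hle
    set K := (MonoidHom.transferSylow P hle).ker with hKdef
    have hcard : Nat.card K = 21 ∨ Nat.card K = 63 := by
      have := hc.card_mul
      rw [hP] at this
      omega
    have hKn : K.Normal := MonoidHom.normal_ker _
    clear_value K
    have := seven_normal hN (O := O) (K := K.map O.subtype) (Subgroup.map_subtype_le K) (fun o ho k hk => by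
      obtain ⟨k', hk', rfl⟩ := hk
      exact ⟨⟨o, ho⟩ * k' * (⟨o, ho⟩ : O)⁻¹, hKn.conj_mem k' hk' _, rfl⟩)
      (by rw [Subgroup.card_map_of_injective O.subtype_injective]; exact hcard)
    omega

include h7 in
/-- A subgroup of order 45 does not exist. -/
theorem no_fortyfive (hU : Nat.card U = 20160)
    (h2 : ∀ j g : U, j * j = 1 → j ≠ 1 → orderOf g = 5 → Commute j g → False)
    {O : Subgroup U} (hO : Nat.card O = 45) : False := by
  haveI : Fact (Nat.Prime 5) := ⟨by norm_num⟩
  haveI : Fact (Nat.Prime 7) := ⟨by norm_num⟩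
  haveI : Fact (Nat.Prime 2) := ⟨by norm_num⟩
  obtain ⟨P⟩ := Sylow.nonempty (p := 5) (G := O)
  have hodd : Odd (Nat.card O) := by rw [hO]; decide
  have hP : Nat.card P = 5 := by
    refine sylow_card_prime P ?_ ?_ <;> rw [hO] <;> norm_num
  have huniq : Nat.card (Sylow 5 O) = 1 := by
    obtain ⟨h1, h2⟩ := sylow_count P
    have hi := (P : Subgroup O).index_mul_card
    rw [hP, hO] at hi
    rw [show (P : Subgroup O).index = 9 by omega] at h1
    have hle := Nat.le_of_dvd (by norm_num) h1
    interval_cases Nat.card (Sylow 5 O) <;> omega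
  haveI : Subsingleton (Sylow 5 O) := (Nat.card_eq_one_iff_unique.mp huniq).1
  have hn : (P : Subgroup O).Normal := Sylow.normal_of_subsingleton P
  obtain ⟨g', hg'⟩ := exists_prime_orderOf_dvd_card' (G := (P : Subgroup O)) 5 (by rw [hP])
  set g : U := ((g' : O) : U) with hgdef
  have hg : orderOf g = 5 := by rw [hgdef, Subgroup.orderOf_coe, Subgroup.orderOf_coe, hg']
  have hz : Subgroup.zpowers (g' : O) = (P : Subgroup O) := Subgroup.eq_of_le_of_card_ge
    (Subgroup.zpowers_le.mpr g'.2) (by rw [Nat.card_zpowers, Subgroup.orderOf_coe, hg', hP])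
  set C := Subgroup.centralizer ({g} : Set U) with hC
  have hOC : O ≤ C := fun o ho => by
    have hgO : orderOf (g' : O) = 5 := by rw [Subgroup.orderOf_coe, hg']
    have := fix_five hgO hodd (pow_card_eq_one' (x := (⟨o, ho⟩ : O))) (by rw [hz]; exact hn.conj_mem _ g'.2 _)
    exact Subgroup.mem_centralizer_singleton_iff.mpr (this.map O.subtype).eq
  have hCodd : ¬ 2 ∣ Nat.card C := fun h => by
    obtain ⟨j, hj⟩ := exists_prime_orderOf_dvd_card' (G := C) 2 h
    rw [← Subgroup.orderOf_coe] at hj
    refine h2 j g ?_ ?_ hg (Subgroup.mem_centralizer_singleton_iff.mp j.2)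
    · rw [← pow_two, ← hj, pow_orderOf_eq_one]
    · intro e; rw [e, orderOf_one] at hj; norm_num at hj
  have hC7 : ¬ 7 ∣ Nat.card C := fun h => by
    obtain ⟨a, ha⟩ := exists_prime_orderOf_dvd_card' (G := C) 7 h
    rw [← Subgroup.orderOf_coe] at ha
    exact five_seven hg ha (h7 _ _ ha (Subgroup.mem_centralizer_singleton_iff.mp a.2))
  have hcC : Nat.card C = 45 := by
    obtain ⟨t, ht⟩ : 45 ∣ Nat.card C := hO ▸ Subgroup.card_dvd_of_le hOC
    have ht2 : t ∣ 448 := by
      have := Subgroup.card_subgroup_dvd_card C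
      rw [hU, ht, show (20160 : ℕ) = 45 * 448 by norm_num] at this
      exact Nat.dvd_of_mul_dvd_mul_left (by norm_num) this
    have hcp : Nat.Coprime t 448 := by
      rw [show (448 : ℕ) = 2 ^ 6 * 7 by norm_num]
      refine Nat.Coprime.mul_right (Nat.Coprime.pow_right 6 ?_) ?_
      · exact ((Nat.prime_two.coprime_iff_not_dvd).mpr fun h => hCodd (ht ▸ h.mul_left 45)).symm
      · exact (((by norm_num : Nat.Prime 7).coprime_iff_not_dvd).mpr fun h => hC7 (ht ▸ h.mul_left 45)).symm
    rw [ht, Nat.eq_one_of_dvd_coprimes hcp dvd_rfl ht2]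
  -- the normaliser
  obtain ⟨R, hRle⟩ := (IsPGroup.of_card (n := 1) (by rw [Nat.card_zpowers, hg, pow_one]) :
    IsPGroup 5 (Subgroup.zpowers g)).exists_le_sylow
  have hR : (R : Subgroup U) = Subgroup.zpowers g := (Subgroup.eq_of_le_of_card_ge hRle (by
    rw [Nat.card_zpowers, hg, sylow_card_prime R (by rw [hU]; norm_num) (by rw [hU]; norm_num)])).symm
  set N := Subgroup.normalizer ((R : Subgroup U) : Set U) with hN
  have hCN : C ≤ N := fun c hc => by
    rw [hN, hR]
    have hcg : Commute c g := Subgroup.mem_centralizer_singleton_iff.mp hc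
    refine Subgroup.mem_normalizer_iff.mpr fun x => ?_
    have key : ∀ y ∈ Subgroup.zpowers g, c * y * c⁻¹ = y := fun y hy => by
      obtain ⟨m, rfl⟩ := Subgroup.mem_zpowers_iff.mp hy
      rw [(hcg.zpow_right m).eq, mul_inv_cancel_right]
    refine ⟨fun h => by rw [key x h]; exact h, fun h => ?_⟩
    have := key _ h
    have e : c * x * c⁻¹ = x := mul_left_cancel (a := c) (mul_right_cancel (b := c⁻¹) this)
    rwa [e] at h
  have hindex : (C.subgroupOf N).index ≤ 4 := by
    let f : N ⧸ C.subgroupOf N → {x : Subgroup.zpowers g // x ≠ 1} := Quotient.lift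
      (fun n => ⟨⟨(n : U) * g * (n : U)⁻¹,
          ((Subgroup.mem_normalizer_iff.mp (hR ▸ n.2 : (n : U) ∈ Subgroup.normalizer (Subgroup.zpowers g : Set U))) g).mp
            (Subgroup.mem_zpowers g)⟩,
        fun h => by
          have e := congrArg Subtype.val h
          change (n : U) * g * (n : U)⁻¹ = 1 at e
          rw [conj_eq_one_iff.mp e, orderOf_one] at hg
          norm_num at hg⟩)
      (fun n m h => by
        have hm : (n : U)⁻¹ * m ∈ C := (QuotientGroup.leftRel_apply.mp h : n⁻¹ * m ∈ C.subgroupOf N)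
        refine Subtype.ext (Subtype.ext ?_)
        show (n : U) * g * (n : U)⁻¹ = m * g * (m : U)⁻¹
        have e := Subgroup.mem_centralizer_singleton_iff.mp hm
        calc (n : U) * g * (n : U)⁻¹ = n * (g * ((n : U)⁻¹ * m)) * (m : U)⁻¹ := by group
          _ = n * ((n : U)⁻¹ * m * g) * (m : U)⁻¹ := by rw [e]
          _ = _ := by group)
    have hf : Function.Injective f := by
      intro a b h
      induction a using QuotientGroup.induction_on with
      | _ n =>
        induction b using QuotientGroup.induction_on with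
        | _ m =>
          refine QuotientGroup.eq.mpr (Subgroup.mem_centralizer_singleton_iff.mpr ?_)
          have e : (n : U) * g * (n : U)⁻¹ = m * g * (m : U)⁻¹ := congrArg (fun x => ((x.1 : Subgroup.zpowers g) : U)) h
          show (n : U)⁻¹ * m * g = g * ((n : U)⁻¹ * m)
          calc (n : U)⁻¹ * m * g = (n : U)⁻¹ * (m * g * (m : U)⁻¹) * m := by group
            _ = (n : U)⁻¹ * (n * g * (n : U)⁻¹) * m := by rw [e]
            _ = _ := by group
    classical
    haveI := Fintype.ofFinite (Subgroup.zpowers g)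
    calc (C.subgroupOf N).index = Nat.card (N ⧸ C.subgroupOf N) := rfl
      _ ≤ Nat.card {x : Subgroup.zpowers g // x ≠ 1} := Nat.card_le_card_of_injective f hf
      _ = 4 := by
        rw [Nat.card_eq_fintype_card, Fintype.card_subtype_compl, Fintype.card_subtype_eq,
          ← Nat.card_eq_fintype_card, Nat.card_zpowers, hg]
  have hNc : Nat.card N = (C.subgroupOf N).index * 45 := by
    rw [← hcC, ← Nat.card_congr (Subgroup.subgroupOfEquivOfLe hCN).toEquiv, Subgroup.index_mul_card]
  have hn5 := R.card_eq_index_normalizer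
  have hmod := card_sylow_modEq_one 5 U
  have hprod := Subgroup.index_mul_card N
  rw [show N.index = Nat.card (Sylow 5 U) from hn5.symm, hNc, hU] at hprod
  have hpos : 0 < (C.subgroupOf N).index := Nat.pos_of_ne_zero (Subgroup.index_ne_zero_of_finite)
  simp only [Nat.ModEq] at hmod
  interval_cases (C.subgroupOf N).index <;> omega

end CfsgLib.SuzUnique
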