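import Cfsg.Agent.Lib.SuzUnique.EndLocal
import Cfsg.Agent.Lib.SuzUnique.EndGroup
import Cfsg.Agent.Lib.Invol.Dihedral

/-!
The group generated by the five generators has order 20160 and one class of involutions.
-/

set_option autoImplicit false
set_option maxRecDepth 100000
set_option maxHeartbeats 1000000
set_option linter.style.haveILetI false

namespace CfsgLib.SuzUnique

open CfsgLib.SuzType CfsgLib.SuzThree CfsgLib.Extraspecial CfsgLib.Extraspecial.Pair CfsgLib.CosetEnum
open CfsgLib.UFourType (gen9 triv9 inv9)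

/-- the five generators -/
def g5 {G : Type*} [Group G] (z b c f g : G) (j : ℕ) : G := [z, b, c, f, g].getD j 1

theorem qIx_shape : ∀ a ∈ ([[], [0]] : List (List ℕ)), ∀ b ∈ ([[], [2]] : List (List ℕ)),
    ∀ c ∈ ([[], [3]] : List (List ℕ)), ∀ d ∈ ([[], [4]] : List (List ℕ)), a ++ b ++ c ++ d ∈ qIx := by
  decide

theorem qIx_letters : ∀ ix ∈ qIx, ∀ j ∈ ix, j = 0 ∨ j = 2 ∨ j = 3 ∨ j = 4 := by decide

theorem sv_combo : ((List.finRange 64).all fun w => !(inSv w) || ([15, 5] : List V6).all fun g =>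
    [(0 : V6), 10].any fun a => [(0 : V6), 2].any fun b => [0, g].any fun c => w == xr (xr a b) c) = true :=
  sv_span.1

theorem distinct_spec : ∀ {l : List (List ℕ)}, distinctOK l = true →
    l.Pairwise fun u u' => triv9 (inv9 u ++ u') = false
  | [], _ => List.Pairwise.nil
  | u :: us, h => by
    rw [distinctOK, Bool.and_eq_true, List.all_eq_true] at h
    exact List.pairwise_cons.mpr ⟨fun u' hu' => by simpa using h.1 u' hu', distinct_spec h.2⟩

variable {G : Type*} [Group G] [Finite G] {z y i p a s d e b d' g x : G} {Q : Subgroup G} {v : G → V6} {C : UCase}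

namespace EC

variable {E : ECase} (X : EC z Q v y i p a s d e C b d' g x E)
include X

local notation "W" => prodW (gen9 i p a s d)
local notation "LG" => lG z (W wb1) (W wa2) g b d'
local notation "r" => (W C.hw)⁻¹ * d'
local notation "el" => prodW (g5 z b (W wb1) (W wa2) g)

theorem el_mem (ix : List ℕ) : el ix ∈ LG := by
  obtain ⟨m1, m2, m3, m4, m5⟩ := X.five_mem
  induction ix with
  | nil => exact one_mem _
  | cons j ix ih =>
    rw [prodW_cons]
    refine mul_mem ?_ ih
    rcases j with _ | _ | _ | _ | _ | j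
    exacts [m1, m5, m2, m3, m4, by simp [g5]]

theorem el_cg (ix : List ℕ) : Cg y i p a s d (C.w5 ix) (el ix) := by
  have S := X.facts.1
  induction ix with
  | nil => simpa [UCase.w5] using S.cg_self []
  | cons j ix ih =>
    rw [prodW_cons, UCase.w5, List.map_cons, List.flatten_cons]
    refine S.cg_mul ?_ ih
    rcases j with _ | _ | _ | _ | _ | j
    · show Cg y i p a s d [0, 0] z
      have := S.cg_self [0, 0]
      rwa [S.z_word] at this
    · exact X.gg.cb
    · exact S.cg_self _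
    · exact S.cg_self _
    · exact X.gg.cg
    · simpa [g5] using S.cg_self []

theorem base : (∀ ix, ∀ l ∈ C.w5 ix, l < 9) ∧ W wt1 = el E.t1 ∧ W wt2 = el E.t2 ∧
    E.kws.length = (sIx E).length := by
  have S := X.facts.1
  have ok := X.ok.base
  simp only [endBase, Bool.and_eq_true, Nat.beq_eq] at ok
  obtain ⟨⟨⟨⟨-, h1⟩, h2⟩, hl⟩, hk⟩ := ok
  refine ⟨fun ix l hlm => ?_, ?_, ?_, hk⟩
  · simp only [List.all_eq_true, Nat.blt_eq] at hl
    simp only [UCase.w5, List.mem_flatten, List.mem_map] at hlm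
    obtain ⟨_, ⟨j, -, rfl⟩, hlj⟩ := hlm
    by_cases hj : j < 5
    · rw [List.getD_eq_getElem _ _ (by simpa using hj)] at hlj
      exact hl _ (List.getElem_mem _) l hlj
    · rw [List.getD_eq_default _ _ (by simpa using hj)] at hlj
      simp at hlj
  · exact X.eq_of_cg (S.cg_eqv (S.cg_self _) h1) (X.el_cg _)
      (mem_uG.mpr ⟨S.w_comm _, (S.eD1.comm_t X.gg.vd.v1).symm⟩) (X.L_le (X.el_mem _))
  · exact X.eq_of_cg (S.cg_eqv (S.cg_self _) h2) (X.el_cg _)
      (mem_uG.mpr ⟨S.w_comm _, (S.eD2.comm_t X.gg.vd.v2).symm⟩) (X.L_le (X.el_mem _))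

/-- A word gives the identity exactly when it is trivial. -/
theorem el_eq_one {ix : List ℕ} : el ix = 1 ↔ triv9 (C.w5 ix) = true := by
  have S := X.facts.1
  constructor
  · intro h
    have := (X.el_cg ix).2
    rw [h, mul_one, inv_mem_iff] at this
    exact S.nontriv _ (X.base.1 ix) this
  · intro h
    exact uG_meet S.y3 X.gg.vd.v1 (X.L_le (X.el_mem ix)) (S.cg_triv (X.el_cg ix) h)

theorem el_inj {ix ix' : List ℕ} (h : el ix = el ix') : triv9 (inv9 (C.w5 ix) ++ C.w5 ix') = true := by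
  have S := X.facts.1
  have := (S.cg_mul (S.cg_inv (X.base.1 ix) (X.el_cg ix)) (X.el_cg ix')).2
  rw [h, inv_mul_cancel, mul_one, inv_mem_iff] at this
  refine S.nontriv _ (fun l hl => ?_) this
  rcases List.mem_append.mp hl with hl | hl
  exacts [inv9_lt (X.base.1 ix) l hl, X.base.1 ix' l hl]

theorem g_facts : g ∈ Q ∧ (v g = 15 ∨ v g = 5) := by
  obtain ⟨S, H⟩ := X.facts
  have R := X.gg.six
  have ok := X.ok.gfive
  simp only [endG, Bool.and_eq_true, List.all_eq_true] at ok
  obtain ⟨⟨⟨⟨⟨⟨hgs, hgx⟩, hgL⟩, hglow⟩, hgq⟩, hgv⟩, -⟩ := ok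
  set gl := (E.gs.map fun u => u ++ [0] ++ inv9 u).flatten with hgl
  have hgeq : g = W gl := by
    refine lift_unique S.y3 (S.w_comm _) R.gg ?_ (S.cg_eqv X.gg.cg hgq).2
    have e0 := S.exact_spec hgx
    rwa [rep, show (List.replicate 2 gl).flatten = gl ++ gl by simp [List.replicate_succ], prodW_append] at e0
  obtain ⟨hgQ, hgval⟩ := S.v_blocks E.gs hgs
  rw [hgeq]
  exact ⟨hgQ, by rw [hgval]; simpa using hgv⟩

theorem four_mem : z ∈ Q ∧ W wb1 ∈ Q ∧ W wa2 ∈ Q ∧ g ∈ Q :=
  ⟨X.facts.2.z_mem, X.facts.1.eD1.bQ.1, X.facts.1.eD2.aQ.1, X.g_facts.1⟩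

theorem q_el_mem {ix : List ℕ} (h : ix ∈ qIx) : el ix ∈ Q := by
  obtain ⟨h1, h2, h3, h4⟩ := X.four_mem
  have key : ∀ ix : List ℕ, (∀ j ∈ ix, j = 0 ∨ j = 2 ∨ j = 3 ∨ j = 4) → el ix ∈ Q := by
    intro ix
    induction ix with
    | nil => exact fun _ => one_mem Q
    | cons j ix ih =>
      intro hj
      rw [prodW_cons]
      refine mul_mem ?_ (ih fun k hk => hj k (List.mem_cons_of_mem _ hk))
      rcases hj j List.mem_cons_self with rfl | rfl | rfl | rfl
      exacts [h1, h2, h3, h4]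
  exact key ix (qIx_letters ix h)

/-- The sixteen elements. -/
theorem q_el {q : G} (hq : q ∈ Q) (hqe : Commute q e) : ∃ ix ∈ qIx, q = el ix := by
  obtain ⟨S, H⟩ := X.facts
  obtain ⟨-, hcQ, hfQ, hgQ⟩ := X.four_mem
  obtain ⟨-, hvg⟩ := X.g_facts
  have hw := (X.q_mem hq hqe).1
  have h := List.all_eq_true.mp sv_combo (v q) (List.mem_finRange _)
  simp only [hw, Bool.not_true, Bool.false_or, List.all_eq_true] at h
  have h := h (v g) (by rcases hvg with e' | e' <;> simp [e'])
  simp only [List.any_eq_true, beq_iff_eq] at h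
  obtain ⟨u1, hu1, u2, hu2, u3, hu3, hv⟩ := h
  have pick : ∀ {u u' : V6} {k : G} {j : ℕ}, k ∈ Q → v k = u' → g5 z b (W wb1) (W wa2) g j = k →
      u ∈ ([0, u'] : List V6) → ∃ l ∈ ([[], [j]] : List (List ℕ)), el l ∈ Q ∧ v (el l) = u := by
    intro u u' k j hk hv hj hu
    simp only [List.mem_cons, List.not_mem_nil, or_false] at hu
    rcases hu with rfl | rfl
    · exact ⟨[], by simp, one_mem Q, H.v_one⟩
    · exact ⟨[j], by simp, by simpa [hj] using hk, by simpa [hj] using hv⟩
  obtain ⟨l1, hl1, q1, v1⟩ := pick (j := 2) hcQ S.vecs.2.1 rfl hu1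
  obtain ⟨l2, hl2, q2, v2⟩ := pick (j := 3) hfQ S.vecs.2.2.1 rfl hu2
  obtain ⟨l3, hl3, q3, v3⟩ := pick (j := 4) hgQ rfl rfl hu3
  have hk : el (l1 ++ l2 ++ l3) ∈ Q := by rw [prodW_append, prodW_append]; exact mul_mem (mul_mem q1 q2) q3
  have hkv : v (el (l1 ++ l2 ++ l3)) = v q := by
    rw [prodW_append, prodW_append, H.mul _ (mul_mem q1 q2) _ q3, H.mul _ q1 _ q2, v1, v2, v3, hv]
  rcases H.eq_or hq hk hkv.symm with h | h
  · exact ⟨[] ++ l1 ++ l2 ++ l3, qIx_shape _ (by simp) _ hl1 _ hl2 _ hl3, by simpa using h⟩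
  · refine ⟨[0] ++ l1 ++ l2 ++ l3, qIx_shape _ (by simp) _ hl1 _ hl2 _ hl3, ?_⟩
    rw [h, show [0] ++ l1 ++ l2 ++ l3 = 0 :: (l1 ++ l2 ++ l3) by simp, prodW_cons]
    rfl

theorem v_inverts {w : G} (hw : w ∈ vList y e) (h : w * y * w⁻¹ = y⁻¹) : False := by
  have S := X.facts.1
  have R := X.gg.six
  have hne1 := X.e_facts.2.2.1
  have einv : e⁻¹ = e := inv_eq_of_mul_eq_one_right R.ee
  have hy2 : y⁻¹ = y * y := (eq_inv_of_mul_eq_one_left S.y3).symm
  have base : e * y * e⁻¹ = y⁻¹ → False := by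
    intro he
    rw [einv] at he
    have h1 : e * y = y⁻¹ * e := by
      rw [← he, mul_assoc (e * y), R.ee, mul_one]
    have h2 : e * y⁻¹ = y * e := by
      calc e * y⁻¹ = e * (e * y * e) := by rw [he]
        _ = (e * e) * (y * e) := by group
        _ = y * e := by rw [R.ee, one_mul]
    have key := R.ye
    -- both sides are expressed through `y` and `e`
    have l : e * (y * e * y⁻¹) = y⁻¹ * y⁻¹ := by
      calc e * (y * e * y⁻¹) = (e * y * e) * y⁻¹ := by group
        _ = y⁻¹ * y⁻¹ := by rw [he]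
    have r' : y * y * e * (y * y)⁻¹ = y * y * (y * y * e) := by
      calc y * y * e * (y * y)⁻¹ = y * y * (e * y⁻¹) * y⁻¹ := by group
        _ = y * y * (y * (e * y⁻¹)) := by (conv_lhs => rw [h2]); group
        _ = y * y * (y * (y * e)) := by rw [h2]
        _ = _ := by group
    rw [l, r', hy2, show y * y * (y * y * e) = (y * y * y) * (y * e) by group, S.y3, one_mul,
      show y * y * (y * y) = (y * y * y) * y by group, S.y3, one_mul] at key
    exact hne1 (mul_left_cancel (a := y) (by rw [← key, mul_one]))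
  simp only [vList, List.mem_cons, List.not_mem_nil, or_false] at hw
  rcases hw with h' | h' | h' | h' <;> rw [h'] at h
  · rw [one_mul, inv_one, mul_one, hy2] at h
    exact S.yd.ne_one (left_eq_mul.mp h)
  · exact base h
  · refine base ?_
    have := congrArg (fun t => y⁻¹ * t * y) h
    simpa [mul_assoc] using this
  · refine base ?_
    have := congrArg (fun t => (y * y)⁻¹ * t * (y * y)) h
    simpa [mul_assoc] using this

/-- The elements of the local group centralising the first involution. -/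
theorem cz_list {k : G} (hk : k ∈ LG) (hkz : Commute k z) : ∃ ix ∈ sIx E, k = el ix := by
  obtain ⟨S, H⟩ := X.facts
  obtain ⟨hky, hke⟩ := mem_uG.mp (X.L_le hk)
  obtain ⟨q, t, w, hq, hqe, ht, hqt, hw, hor⟩ := X.cent_ze hkz hke
  have hqty : Commute (q * t) y := (mem_uG.mp (X.L_le hqt)).1
  rcases hor with rfl | ⟨rfl, -⟩
  · have hwy : Commute w y := by
      have := hqty.inv_left.mul_left hky
      rwa [show (q * t)⁻¹ * (q * t * w) = w by group] at this
    obtain ⟨ix, hix, rfl⟩ := X.q_el hq hqe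
    rw [X.v_facts w hw hwy, mul_one]
    obtain ⟨-, e1, e2, -⟩ := X.base
    obtain ⟨tl, htl, rfl⟩ : ∃ tl ∈ [[], E.t1, E.t2, E.t1 ++ E.t2], t = el tl := by
      simp only [List.mem_cons, List.not_mem_nil, or_false] at ht
      rcases ht with rfl | rfl | rfl | rfl
      exacts [⟨[], by simp, rfl⟩, ⟨E.t1, by simp, e1⟩, ⟨E.t2, by simp, e2⟩,
        ⟨E.t1 ++ E.t2, by simp, by rw [prodW_append, e1, e2]⟩]
    refine ⟨ix ++ tl, ?_, (prodW_append _ _ _).symm⟩
    simp only [sIx, List.mem_flatMap, List.mem_map]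
    exact ⟨ix, hix, tl, htl, rfl⟩
  · exfalso
    have hwr : Commute (w * r) y := by
      have := hqty.inv_left.mul_left hky
      rwa [show (q * t)⁻¹ * (q * t * (w * r)) = w * r by group] at this
    obtain ⟨-, -, -, hry, -⟩ := X.r_facts
    refine X.v_inverts hw ?_
    have := congrArg Inv.inv (mul_inv_eq_iff_eq_mul.mpr hwr.eq : w * r * y * (w * r)⁻¹ = y)
    rw [show (w * r * y * (w * r)⁻¹)⁻¹ = w * (r * y * (r)⁻¹)⁻¹ * w⁻¹ by group, hry, inv_inv] at this
    exact this

theorem cz_conv {ix : List ℕ} (h : ix ∈ sIx E) : Commute (el ix) z := by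
  obtain ⟨S, H⟩ := X.facts
  obtain ⟨-, e1, e2, -⟩ := X.base
  simp only [sIx, List.mem_flatMap, List.mem_map] at h
  obtain ⟨q, hq, t, ht, rfl⟩ := h
  have z1 : Commute (el E.t1) z := e1 ▸ (mem_Cz.mp S.eD1.tC).1
  have z2 : Commute (el E.t2) z := e2 ▸ (mem_Cz.mp S.eD2.tC).1
  rw [prodW_append]
  refine Commute.mul_left (H.commute_z (X.q_el_mem hq)) ?_
  simp only [List.mem_cons, List.not_mem_nil, or_false] at ht
  rcases ht with rfl | rfl | rfl | rfl
  exacts [Commute.one_left z, z1, z2, by rw [prodW_append]; exact z1.mul_left z2]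

theorem card_cz : Nat.card ↥(LG ⊓ Subgroup.centralizer ({z} : Set G)) = 64 := by
  classical
  have hs : ((LG ⊓ Subgroup.centralizer ({z} : Set G) : Subgroup G) : Set G) =
      (((sIx E).map el).toFinset : Finset G) := by
    ext k
    simp only [Subgroup.coe_inf, Set.mem_inter_iff, SetLike.mem_coe, List.coe_toFinset, List.mem_map,
      Subgroup.mem_centralizer_singleton_iff, Set.mem_setOf_eq]
    constructor
    · rintro ⟨hk, hkz⟩
      obtain ⟨ix, hix, rfl⟩ := X.cz_list hk hkz
      exact ⟨ix, hix, rfl⟩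
    · rintro ⟨ix, hix, rfl⟩
      exact ⟨X.el_mem ix, (X.cz_conv hix).eq⟩
  have hd := distinct_spec X.ok.dist
  rw [List.pairwise_map] at hd
  have hn : ((sIx E).map el).Nodup := by
    rw [List.nodup_iff_pairwise_ne, List.pairwise_map]
    exact hd.imp fun h e => by rw [X.el_inj e] at h; exact Bool.noConfusion h
  rw [show Nat.card ↥(LG ⊓ Subgroup.centralizer ({z} : Set G)) =
    ((LG ⊓ Subgroup.centralizer ({z} : Set G) : Subgroup G) : Set G).ncard from rfl, hs, Set.ncard_coe_finset,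
    List.toFinset_card_of_nodup hn, List.length_map]
  simp [sIx, qIx]

theorem card_L : Nat.card LG = 20160 := by
  obtain ⟨S, H⟩ := X.facts
  have R := X.gg.six
  refine Nat.le_antisymm (five_small R (X.gg.vd.ext_rel R X.gg.cb X.gg.bU X.gg.cU)) ?_
  have ok := X.ok.ord
  simp only [endOrd, Bool.and_eq_true, Bool.not_eq_true'] at ok
  obtain ⟨⟨⟨⟨⟨⟨⟨⟨h7, h7'⟩, ha3⟩, hb3⟩, hab⟩, ha'⟩, hb'⟩, hab'⟩, haab'⟩ := ok
  have ne : ∀ {ix : List ℕ}, triv9 (C.w5 ix) = false → el ix ≠ 1 := fun h e => by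
    rw [X.el_eq_one.mp e] at h; exact Bool.noConfusion h
  have pw : ∀ {ix : List ℕ} {n : ℕ}, triv9 (rep n (C.w5 ix)) = true → el ix ^ n = 1 := fun {ix n} h =>
    uG_meet S.y3 X.gg.vd.v1 (X.L_le (pow_mem (X.el_mem ix) n)) (S.cg_triv (S.cg_rep (X.el_cg ix) n) h)
  have d64 : 64 ∣ Nat.card LG := X.card_cz ▸ Subgroup.card_dvd_of_le inf_le_left
  have d7 : 7 ∣ Nat.card LG := by
    haveI : Fact (Nat.Prime 7) := ⟨by norm_num⟩
    rw [← orderOf_eq_prime (p := 7) (pw h7) (ne h7')]
    exact Subgroup.orderOf_dvd_natCard _ (X.el_mem _)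
  have d5 : 5 ∣ Nat.card LG := by
    haveI : Fact (Nat.Prime 5) := ⟨by norm_num⟩
    obtain ⟨m1, -, -, -, m5⟩ := X.five_mem
    rw [← orderOf_eq_prime (p := 5) R.ab ?_]
    · exact Subgroup.orderOf_dvd_natCard _ (mul_mem m1 m5)
    intro h
    have hok := X.gg.vd.ok
    simp only [caseOK, Bool.and_eq_true, Bool.not_eq_true'] at hok
    obtain ⟨⟨⟨⟨⟨⟨⟨⟨⟨⟨⟨⟨⟨⟨⟨⟨-, hne⟩, -⟩, -⟩, -⟩, -⟩, -⟩, -⟩, -⟩, -⟩, -⟩, -⟩, -⟩, -⟩, -⟩, -⟩, -⟩ := hok
    have hc : Cg y i p a s d (rep 2 ([0, 0] ++ C.wB)) ((z * b) ^ 2) := by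
      refine S.cg_rep (S.cg_mul ?_ X.gg.cb) 2
      have := S.cg_self [0, 0]
      rwa [S.z_word] at this
    have hm := hc.2
    rw [h, one_pow, mul_one, inv_mem_iff] at hm
    rw [S.nontriv _ (fun l hl => ?_) hm] at hne
    · exact Bool.noConfusion hne
    simp only [rep, List.mem_flatten, List.mem_replicate] at hl
    obtain ⟨_, ⟨-, rfl⟩, hl⟩ := hl
    rcases List.mem_append.mp hl with hl | hl
    · simp at hl; omega
    · have := X.base.1 [1] l (by simpa [UCase.w5] using hl)
      exact this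
  have d9 : 9 ∣ Nat.card LG := by
    haveI : Fact (Nat.Prime 3) := ⟨by norm_num⟩
    set A := el E.ta with hA
    set B := el E.tb with hB
    have cAB : Commute A B := by
      have h1 := S.cg_triv (S.cg_mul (S.cg_mul (S.cg_mul (X.el_cg E.ta) (X.el_cg E.tb))
        (S.cg_inv (X.base.1 _) (X.el_cg E.ta))) (S.cg_inv (X.base.1 _) (X.el_cg E.tb))) hab
      have h2 := uG_meet S.y3 X.gg.vd.v1 (X.L_le (mul_mem (mul_mem (mul_mem (X.el_mem _) (X.el_mem _))
        (inv_mem (X.el_mem _))) (inv_mem (X.el_mem _)))) h1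
      show A * B = B * A
      calc A * B = (A * B * A⁻¹ * B⁻¹) * (B * A) := by group
        _ = B * A := by rw [h2, one_mul]
    set K := Subgroup.closure ({A, B} : Set G) with hK
    have hcomm : ∀ u ∈ K, ∀ w ∈ K, Commute u w := by
      intro u hu w hw
      have hKle : K ≤ Subgroup.centralizer (K : Set G) := by
        rw [hK, Subgroup.centralizer_closure, Subgroup.closure_le]
        intro t ht
        simp only [SetLike.mem_coe, Subgroup.mem_centralizer_iff]
        intro t' ht'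
        rcases ht with rfl | rfl <;> rcases ht' with rfl | rfl
        exacts [rfl, cAB.symm.eq, cAB.eq, rfl]
      exact ((Subgroup.mem_centralizer_iff.mp (hKle hu)) w hw).symm
    have hexp : ∀ u ∈ K, u ^ 3 = 1 := by
      intro u hu
      induction hu using Subgroup.closure_induction with
      | mem t ht =>
        rcases ht with rfl | rfl
        exacts [pw ha3, pw hb3]
      | one => exact one_pow 3
      | mul s t hs ht h1 h2 => rw [(hcomm s hs t ht).mul_pow, h1, h2, one_mul]
      | inv s _ h1 => rw [inv_pow, h1, inv_one]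
    have hP : IsPGroup 3 K := fun k => ⟨1, Subtype.ext (by simpa using hexp k k.2)⟩
    obtain ⟨n, hn⟩ := IsPGroup.iff_card.mp hP
    have mA : A ∈ K := Subgroup.subset_closure (by simp)
    have mB : B ∈ K := Subgroup.subset_closure (by simp)
    have A1 : A ≠ 1 := ne ha'
    have B1 : B ≠ 1 := ne hb'
    have AB : A * B ≠ 1 := fun h => by
      have : el (E.ta ++ E.tb) = 1 := by rw [prodW_append]; exact h
      rw [X.el_eq_one, UCase.w5, List.map_append, List.flatten_append] at this
      rw [UCase.w5, UCase.w5] at hab'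
      rw [this] at hab'
      exact Bool.noConfusion hab'
    have AAB : A * A * B ≠ 1 := fun h => by
      have : el (E.ta ++ E.ta ++ E.tb) = 1 := by rw [prodW_append, prodW_append]; exact h
      rw [X.el_eq_one, UCase.w5, List.map_append, List.flatten_append, List.map_append, List.flatten_append] at this
      rw [UCase.w5, UCase.w5] at haab'
      rw [this] at haab'
      exact Bool.noConfusion haab'
    have A3 : A * A * A = 1 := by have := pw ha3; rwa [pow_succ, pow_two] at this
    have h4 : 4 ≤ Nat.card K := by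
      let f : Fin 4 → K := ![1, ⟨A, mA⟩, ⟨A * A, mul_mem mA mA⟩, ⟨B, mB⟩]
      have hf : Function.Injective f := by
        intro u w h
        replace h := congrArg Subtype.val h
        fin_cases u <;> fin_cases w <;> first | rfl | skip
        all_goals exfalso; simp only [f, Matrix.cons_val_zero, Matrix.cons_val_one, Matrix.cons_val, Matrix.cons_val',
          Fin.reduceFinMk, OneMemClass.coe_one] at h
        · exact A1 h.symm
        · exact A1 (by rw [← h, one_mul] at A3; exact A3)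
        · exact B1 h.symm
        · exact A1 h
        · exact A1 (left_eq_mul.mp h)
        · exact AAB (by rw [← h]; exact A3)
        · exact A1 (by rw [h, one_mul] at A3; exact A3)
        · exact A1 (mul_eq_left.mp h)
        · exact AB (by rw [← h, ← mul_assoc]; exact A3)
        · exact B1 h
        · exact AAB (by rw [h]; exact A3)
        · exact AB (by rw [h, ← mul_assoc]; exact A3)
      calc 4 = Nat.card (Fin 4) := (Nat.card_fin 4).symm
        _ ≤ _ := Nat.card_le_card_of_injective f hf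
    have hn2 : 2 ≤ n := by
      by_contra hlt
      interval_cases n <;> omega
    refine Dvd.dvd.trans ?_ (Subgroup.card_dvd_of_le (show K ≤ LG by
      rw [hK, Subgroup.closure_le]
      rintro t (rfl | rfl)
      exacts [X.el_mem _, X.el_mem _]))
    rw [hn]
    exact pow_dvd_pow 3 hn2
  refine Nat.le_of_dvd Nat.card_pos ?_
  rw [show 20160 = 64 * 7 * 5 * 9 by norm_num]
  refine Nat.Coprime.mul_dvd_of_dvd_of_dvd (by norm_num) (Nat.Coprime.mul_dvd_of_dvd_of_dvd (by norm_num)
    (Nat.Coprime.mul_dvd_of_dvd_of_dvd (by norm_num) d64 d7) d5) d9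

/-- The involutions of the local group centralising the first one are conjugate to it. -/
theorem conj_cz {k : G} (hk : k ∈ LG) (hkz : Commute k z) (h2 : k * k = 1) (h1 : k ≠ 1) :
    ∃ h ∈ LG, h * z * h⁻¹ = k := by
  obtain ⟨S, H⟩ := X.facts
  obtain ⟨ix, hix, rfl⟩ := X.cz_list hk hkz
  obtain ⟨n, hn, rfl⟩ := List.getElem_of_mem hix
  have hl := X.base.2.2.2
  have h64 : (sIx E).length = 64 := by simp [sIx, qIx]
  have hn4 : n / 16 < 4 := by omega
  have hc := List.all_eq_true.mp (X.ok.conj _ hn4) ((sIx E)[n], E.kws[n]'(by omega)) (by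
    refine List.mem_iff_getElem.mpr ⟨n % 16, ?_, ?_⟩
    · simp only [List.length_take, List.length_drop, List.length_zip]; omega
    · simp only [List.getElem_take, List.getElem_drop, List.getElem_zip, Nat.div_add_mod])
  set ix := (sIx E)[n]
  set kw := E.kws[n]'(by omega)
  simp only [conjOK, Bool.or_eq_true, Bool.not_eq_true'] at hc
  rcases hc with (hc | hc) | hc
  · exact absurd (X.el_eq_one.mpr hc) h1
  · exfalso
    have : el (ix ++ ix) = 1 := by rw [prodW_append]; exact h2
    rw [X.el_eq_one, UCase.w5, List.map_append, List.flatten_append] at this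
    rw [UCase.w5] at hc
    rw [this] at hc
    exact Bool.noConfusion hc
  · refine ⟨el kw, X.el_mem _, ?_⟩
    obtain ⟨m1, -⟩ := X.five_mem
    have hzc : Cg y i p a s d [0, 0] z := by have := S.cg_self [0, 0]; rwa [S.z_word] at this
    exact X.eq_of_cg (S.cg_eqv (S.cg_mul (S.cg_mul (X.el_cg kw) hzc) (S.cg_inv (X.base.1 _) (X.el_cg kw))) hc)
      (X.el_cg ix) (X.L_le (mul_mem (mul_mem (X.el_mem _) m1) (inv_mem (X.el_mem _)))) (X.L_le (X.el_mem _))

/-- One class of involutions. -/
theorem invol_conj {k : G} (hk : k ∈ LG) (h2 : k * k = 1) (h1 : k ≠ 1) :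
    ∃ h ∈ LG, h * z * h⁻¹ = k := by
  obtain ⟨m1, -⟩ := X.five_mem
  obtain ⟨S, H⟩ := X.facts
  set zL : LG := ⟨z, m1⟩ with hzL
  set kL : LG := ⟨k, hk⟩ with hkL
  have oz : orderOf zL = 2 := Invol.orderOf_two_of_mul_self (Subtype.ext H.st.zz) fun h =>
    H.st.ne_one (congrArg Subtype.val h)
  have ok : orderOf kL = 2 := Invol.orderOf_two_of_mul_self (Subtype.ext h2) fun h => h1 (congrArg Subtype.val h)
  rcases Nat.even_or_odd (orderOf (zL * kL)) with he | ho
  · obtain ⟨w, hw, hwz, hwk⟩ := Invol.exists_common_commuting_invol oz ok he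
    have hw2 : (w : G) * w = 1 := congrArg Subtype.val (Invol.mul_self_of_orderOf_two hw)
    have hw1 : (w : G) ≠ 1 := fun h => Invol.ne_one_of_orderOf_two hw (Subtype.ext h)
    obtain ⟨h, hh, hhw⟩ := X.conj_cz w.2 (hwz.map (LG).subtype) hw2 hw1
    have hc : Commute (h⁻¹ * k * h) z := by
      have := ((hwk.map (LG).subtype).symm).map (MulAut.conj h⁻¹)
      rw [MulAut.conj_apply, MulAut.conj_apply, inv_inv] at this
      simp only [Subgroup.coe_subtype] at this
      rwa [← hhw, show h⁻¹ * (h * z * h⁻¹) * h = z by group] at this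
    obtain ⟨h', hh', hk'⟩ := X.conj_cz (mul_mem (mul_mem (inv_mem hh) hk) hh) hc
      (by rw [show h⁻¹ * k * h * (h⁻¹ * k * h) = h⁻¹ * (k * k) * h by group, h2]; group)
      (fun e => h1 (by rw [show k = h * (h⁻¹ * k * h) * h⁻¹ by group, e]; group))
    refine ⟨h * h', mul_mem hh hh', ?_⟩
    rw [show h * h' * z * (h * h')⁻¹ = h * (h' * z * h'⁻¹) * h⁻¹ by group, hk']
    group
  · obtain ⟨c, hc⟩ := isConj_iff.mp (Invol.isConj_of_odd oz ok ho)
    exact ⟨c, c.2, congrArg Subtype.val hc⟩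

/-- No involution centralises an element of order five. -/
theorem five_free {j t : G} (hj : j ∈ LG) (ht : t ∈ LG) (h2 : j * j = 1) (h1 : j ≠ 1) (ho : orderOf t = 5)
    (hc : Commute j t) : False := by
  obtain ⟨h, hh, rfl⟩ := X.invol_conj hj h2 h1
  have hm : h⁻¹ * t * h ∈ LG ⊓ Subgroup.centralizer ({z} : Set G) := by
    refine Subgroup.mem_inf.mpr ⟨mul_mem (mul_mem (inv_mem hh) ht) hh, Subgroup.mem_centralizer_singleton_iff.mpr ?_⟩
    have := hc.map (MulAut.conj h⁻¹)
    rw [MulAut.conj_apply, MulAut.conj_apply, inv_inv, show h⁻¹ * (h * z * h⁻¹) * h = z by group] at this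
    exact this.symm.eq
  have := Subgroup.orderOf_dvd_natCard _ hm
  rw [X.card_cz, show h⁻¹ * t * h = MulAut.conj h⁻¹ t by simp, MulEquiv.orderOf_eq, ho] at this
  norm_num at this

end EC

end CfsgLib.SuzUnique
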