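import Cfsg.Agent.Lib.SuzUnique.OddConj
import Cfsg.Agent.Lib.SuzThree.Act

/-!
Fusion of involutions in a subgroup containing the centraliser of the involution.
-/

set_option autoImplicit false
set_option linter.style.haveILetI false

namespace CfsgLib.SuzUnique

open CfsgLib.SuzType CfsgLib.SuzThree CfsgLib.Extraspecial CfsgLib.Extraspecial.Pair

variable {G : Type*} [Group G] [Finite G] {z : G} {Q : Subgroup G} {v : G → V6}

/-- An involution of the first kind moves every vector by a singular one. -/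
theorem first_kind_singular (H : Co z Q v) {t g : G} (htt : t * t = 1) (htz : Commute t z) (c : Pair Q z g)
    (hm : t ∈ Subgroup.map (MulEquiv.toMonoidHom (MulAut.conj g)) Q) {L : Lin} (hL : Act Q v t L) :
    ∀ w, qf (xr (app L w) w) = false := by
  obtain ⟨u, F⟩ := H.exists_fr c
  have htP : t ∈ P' Q z g := F.mem_P'.mpr ⟨hm, htz.eq⟩
  have hbad : ∀ q ∈ Q, q * t * q⁻¹ * t⁻¹ ∈ Q → qf (v (q * t * q⁻¹ * t⁻¹)) = false := by
    intro q hq hmem
    by_cases hs : bf (v q) (v (g * z * g⁻¹)) = false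
    · have := F.v_mem_V (F.comm_mem_V (F.mem_P_of hq hs) htP)
      rw [this.qf_eq F.sv_qf (bf_zero_left _), qf_zero]
    · have hp : u⁻¹ * q ∈ P Q z g := by
        refine F.mem_P_of (mul_mem (inv_mem F.uQ) hq) ?_
        rw [F.co.mul _ (inv_mem F.uQ) _ hq, F.co.v_inv F.uQ, bf_xr_left]
        rcases Bool.eq_false_or_eq_true (bf (v u) (v (g * z * g⁻¹))) with e | e
        · rw [e, eq_true_of_ne_false hs]; rfl
        · exfalso
          have h' := F.us
          rw [(F.mem_P.mp (F.mem_P_of F.uQ e)).2, mul_inv_cancel_right] at h'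
          exact F.pr.mul_ne_right h'.symm
      have hc := F.comm_mem_V hp htP
      have e2 : q * t * q⁻¹ * t⁻¹ = (u * (u⁻¹ * q * t * (u⁻¹ * q)⁻¹ * t⁻¹) * u⁻¹) * al u t := by
        rw [al]; group
      have hal := F.al_mem htP
      rw [e2, F.co.mul _ (F.pr.V_le (F.conj_u' hc)) _ (F.mem_P.mp hal).1]
      have := Eqm.xr (F.v_mem_V (F.conj_u' hc)) (Eqm.refl (v (g * z * g⁻¹)) (v (al u t)))
      rw [zero_xr] at this
      rw [this.qf_eq F.sv_qf (F.P_perp hal)]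
      exact ((F.sq_rel htP).1).mp htt
  intro w
  obtain ⟨q, hq, rfl⟩ := H.surj w
  have h1 := H.conj_mem htz.eq (inv_mem hq)
  have e : q * t * q⁻¹ * t⁻¹ = q * (t * q⁻¹ * t⁻¹) := by group
  have := hbad q hq (e ▸ mul_mem hq h1)
  rwa [e, H.mul _ hq _ h1, hL _ (inv_mem hq), H.v_inv hq, xr_comm] at this

/-- An involution moving some vector by a non-singular one is not a conjugate of the central involution. -/
theorem not_conj_z (H : Co z Q v) {t : G} (htt : t * t = 1) (htz : Commute t z) {L : Lin} (hL : Act Q v t L)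
    (w : V6) (hw : qf (xr (app L w) w) = true) :
    t ∉ Q ∧ ¬ IsConj t z ∧ ∃ g u, Fr z Q v g u ∧ Odd1 z Q v g t := by
  have hQ : t ∉ Q := fun h => by
    rw [act_unique H hL (act_inner H h), app_L1, xr_self, qf_zero] at hw
    exact Bool.false_ne_true hw
  rcases H.invol_cases htt htz.eq hQ with ⟨g, c, hm⟩ | ⟨g, u, F, h⟩
  · rw [first_kind_singular H htt htz c hm hL w] at hw
    exact absurd hw (by decide)
  · exact ⟨hQ, H.odd1_not_isConj F h, g, u, F, h⟩

variable {K : Subgroup G} (H : Co z Q v) (hK : ∀ c, c * z = z * c → c ∈ K)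
include H hK

/-- An involution of the subgroup is moved into the centraliser. -/
theorem exists_move_cent {x : G} (hx : x ∈ K) (h2 : x * x = 1) :
    ∃ h ∈ K, Commute (h * x * h⁻¹) z := by
  haveI : Fact (Nat.Prime 2) := ⟨Nat.prime_two⟩
  have hQK : Q ≤ K := fun q hq => hK q (H.commute_z hq)
  have hQp : IsPGroup 2 (Q.subgroupOf K) := IsPGroup.of_card (n := 7) (by
    rw [Nat.card_congr (Subgroup.subgroupOfEquivOfLe hQK).toEquiv, H.card]; norm_num)
  obtain ⟨R, hR⟩ := hQp.exists_le_sylow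
  have hzR : (⟨z, hQK H.z_mem⟩ : K) ∈ (R : Subgroup K) := hR (show z ∈ Q from H.z_mem)
  haveI : Nontrivial (R : Subgroup K) := ⟨⟨⟨_, hzR⟩, 1, fun e => H.st.ne_one (congrArg (fun k : (R : Subgroup K) => ((k : K) : G)) e)⟩⟩
  haveI := R.isPGroup'.center_nontrivial
  obtain ⟨⟨c, hc⟩, hc1⟩ := exists_ne (1 : Subgroup.center (R : Subgroup K))
  have hcQ : ((c : K) : G) ∈ Subgroup.centralizer (Q : Set G) := Subgroup.mem_centralizer_iff.mpr fun q hq => by
    have := Subgroup.mem_center_iff.mp hc ⟨⟨q, hQK hq⟩, hR hq⟩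
    exact congrArg (fun k : (R : Subgroup K) => ((k : K) : G)) this
  rw [H.st.cQ] at hcQ
  have hcz : ((c : K) : G) = z := (H.st.mem_zpowers hcQ).resolve_left fun e =>
    hc1 (Subtype.ext (Subtype.ext (Subtype.ext e)))
  have hxp : IsPGroup 2 (Subgroup.zpowers (⟨x, hx⟩ : K)) := by
    by_cases h1 : x = 1
    · subst h1
      exact IsPGroup.of_card (n := 0) (by rw [Nat.card_zpowers, Subgroup.orderOf_mk, orderOf_one, pow_zero])
    · exact IsPGroup.of_card (n := 1) (by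
        rw [Nat.card_zpowers, Subgroup.orderOf_mk, orderOf_eq_prime (p := 2) (by rw [pow_two, h2]) h1, pow_one])
  obtain ⟨R', hR'⟩ := hxp.exists_le_sylow
  obtain ⟨k, hk⟩ := MulAction.exists_smul_eq K R' R
  refine ⟨k, k.2, ?_⟩
  have hm : k * (⟨x, hx⟩ : K) * k⁻¹ ∈ (R : Subgroup K) := by
    rw [← hk, Sylow.coe_subgroup_smul, Subgroup.mem_pointwise_smul_iff_inv_smul_mem]
    simpa [mul_assoc] using hR' (Subgroup.mem_zpowers _)
  have := congrArg (fun k : (R : Subgroup K) => ((k : K) : G)) (Subgroup.mem_center_iff.mp hc ⟨_, hm⟩)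
  show ((k : G) * x * (k : G)⁻¹) * z = z * ((k : G) * x * (k : G)⁻¹)
  simpa [hcz] using this

/-- Conjugates of the central involution in the subgroup are conjugate in it. -/
theorem fuse_z {a0 h0 : G} (h0K : h0 ∈ K) (ha0 : h0 * z * h0⁻¹ = a0) (ha0Q : a0 ∈ Q) (ha0z : a0 ≠ z)
    {x : G} (hx : x ∈ K) (hc : IsConj x z) : ∃ h ∈ K, h * z * h⁻¹ = x := by
  have ha02 : a0 * a0 = 1 := by
    rw [← ha0, show h0 * z * h0⁻¹ * (h0 * z * h0⁻¹) = h0 * (z * z) * h0⁻¹ by group, H.st.zz]; group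
  have ha01 : a0 ≠ 1 := fun e => H.st.ne_one (conj_eq_one_iff.mp (ha0.trans e))
  have inQ : ∀ {q : G}, q ∈ Q → q * q = 1 → q ≠ 1 → q ≠ z → ∃ h ∈ K, h * z * h⁻¹ = q := fun {q} hq h2 h1 hz => by
    obtain ⟨c, hcz, hcq⟩ := H.trans ha0Q ha02 ha01 ha0z hq h2 h1 hz
    exact ⟨c * h0, mul_mem (hK c hcz) h0K, by rw [← hcq, ← ha0]; group⟩
  have inC : ∀ {y : G}, IsConj y z → Commute y z → ∃ h ∈ K, h * z * h⁻¹ = y := fun {y} hy hyz => by
    obtain ⟨g, hg⟩ := isConj_iff.mp hy.symm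
    have y2 : y * y = 1 := by rw [← hg, show g * z * g⁻¹ * (g * z * g⁻¹) = g * (z * z) * g⁻¹ by group, H.st.zz]; group
    have y1 : y ≠ 1 := fun e => H.st.ne_one (conj_eq_one_iff.mp (hg.trans e))
    by_cases hyZ : y = z
    · exact ⟨1, one_mem K, by rw [hyZ]; group⟩
    by_cases hyQ : y ∈ Q
    · exact inQ hyQ y2 y1 hyZ
    rcases H.invol_cases y2 hyz.eq hyQ with ⟨g', c, hm⟩ | ⟨g', u', F, h⟩
    · have hs2 : (g' * z * g'⁻¹) * (g' * z * g'⁻¹) = 1 := c.s'.zz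
      obtain ⟨h, hh, hhz⟩ := inQ c.mem hs2 c.ne_one' c.ne
      rw [c.s.map_eq (a := g') (b := h) hhz.symm] at hm
      obtain ⟨q, hq, hqy⟩ := hm
      replace hqy : h * q * h⁻¹ = y := hqy
      have q2 : q * q = 1 := by
        rw [← hqy, show h * q * h⁻¹ * (h * q * h⁻¹) = h * (q * q) * h⁻¹ by group] at y2
        exact conj_eq_one_iff.mp y2
      have q1 : q ≠ 1 := fun e => y1 (by rw [← hqy, e]; group)
      have qz : q ≠ z := fun e => hyQ (by rw [← hqy, e, hhz]; exact c.mem)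
      obtain ⟨k, hk, hkq⟩ := inQ hq q2 q1 qz
      exact ⟨h * k, mul_mem hh hk, by rw [← hqy, ← hkq]; group⟩
    · exact absurd hy (H.odd1_not_isConj F h)
  obtain ⟨g, hg⟩ := isConj_iff.mp hc.symm
  obtain ⟨k, hk, hkx⟩ := exists_move_cent H hK hx
    (by rw [← hg, show g * z * g⁻¹ * (g * z * g⁻¹) = g * (z * z) * g⁻¹ by group, H.st.zz]; group)
  obtain ⟨h, hh, hhx⟩ := inC ((isConj_iff.mpr ⟨k⁻¹, by group⟩ : IsConj (k * x * k⁻¹) x).trans hc) hkx
  exact ⟨k⁻¹ * h, mul_mem (inv_mem hk) hh, by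
    rw [show k⁻¹ * h * z * (k⁻¹ * h)⁻¹ = k⁻¹ * (h * z * h⁻¹) * k by group, hhx]; group⟩

/-- The other involutions of the subgroup are conjugate in it. -/
theorem fuse_other {e : G} (he : e * e = 1) (hez : Commute e z) {ge ue : G} (Fe : Fr z Q v ge ue)
    (hOe : Odd1 z Q v ge e) {a0 h0 : G} (ha0 : h0 * z * h0⁻¹ = a0) (ha0Q : a0 ∈ Q) (ha0z : a0 ≠ z)
    {x : G} (hx : x ∈ K) (h2 : x * x = 1) (h1 : x ≠ 1) (hc : ¬ IsConj x z) : ∃ h ∈ K, h * e * h⁻¹ = x := by
  obtain ⟨k, hk, hkx⟩ := exists_move_cent H hK hx h2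
  set y := k * x * k⁻¹ with hy
  have y2 : y * y = 1 := by rw [hy, show k * x * k⁻¹ * (k * x * k⁻¹) = k * (x * x) * k⁻¹ by group, h2]; group
  have y1 : y ≠ 1 := fun e => h1 (conj_eq_one_iff.mp e)
  have hyc : ¬ IsConj y z := fun h => hc ((isConj_iff.mpr ⟨k, rfl⟩ : IsConj x y).trans h)
  have hyQ : y ∉ Q := fun h => hyc (H.isConj_z h y2 y1 fun e => hyc (e ▸ IsConj.refl z))
  rcases H.invol_cases y2 hkx.eq hyQ with ⟨g', c, hm⟩ | ⟨g', u', F, h⟩
  · exact absurd (H.first_kind_conj y2 y1 hyQ c hm) hyc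
  · obtain ⟨c, hcz, hce⟩ := odd1_conj_cent H Fe F hOe h
    exact ⟨k⁻¹ * c, mul_mem (inv_mem hk) (hK c hcz), by
      rw [show k⁻¹ * c * e * (k⁻¹ * c)⁻¹ = k⁻¹ * (c * e * c⁻¹) * k by group, hce, hy]; group⟩

end CfsgLib.SuzUnique
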