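import Cfsg.Agent.Lib.SuzUnique.PNe
import Cfsg.Agent.Lib.SuzPres.Main

/-!
A copy of the presented group.
-/

set_option autoImplicit false
set_option maxRecDepth 100000
set_option maxHeartbeats 1000000

namespace CfsgLib.SuzUnique

open CfsgLib.SuzType CfsgLib.SuzThree CfsgLib.Extraspecial CfsgLib.CosetEnum
open CfsgLib.UFourType (gen9 triv9 inv9 xWords)
open Cfsg.Spor

/-- all that is known about the seven generators -/
structure GG {G : Type*} [Group G] (z : G) (Q : Subgroup G) (v : G → V6) (y i p a s d e : G) (C : UCase)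
    (b d' g x : G) : Prop where
  vd : VD z Q v y i p a s d e C
  six : Six z y e b (prodW (gen9 i p a s d) wb1) d' (prodW (gen9 i p a s d) wa2) g x
  cb : Cg y i p a s d C.wB b
  cg : Cg y i p a s d C.wG g
  cx : Cg y i p a s d C.wX x
  dA : Act Q v d' C.dM
  deq : d' = e * (prodW (gen9 i p a s d) C.hw * e * (prodW (gen9 i p a s d) C.hw)⁻¹) * e
  bU : b ∈ uG y e
  gU : g ∈ uG y e
  cU : prodW (gen9 i p a s d) wb1 ∈ uG y e
  fU : prodW (gen9 i p a s d) wa2 ∈ uG y e
  p_ne : (b * prodW (gen9 i p a s d) wb1 * x) ^ 5 ≠ 1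
  case_mem : C ∈ ([caseAA, caseAB, caseBA, caseBB] : List UCase)

/-- the images of the generators -/
def suzGen {G : Type*} [Group G] (z b c d e f g : G) : Suz.Gen → G
  | .a => z | .b => b | .c => c | .d => d | .e => e | .f => f | .g => g

theorem exists_suzHom {G : Type*} [Group G] [Finite G] {z y e b c d f g x : G} (R : Six z y e b c d f g x)
    (y3 : y * y * y = 1) (hp : (b * c * x) ^ 5 ≠ 1) (hz : z ≠ 1) :
    ∃ φ : Suz →* G, Function.Injective φ ∧
      ∀ k, φ (PresentedGroup.of k) = suzGen z b c d e f g k := by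
  have hpe : ((b * c * x) ^ 5 * e) ^ 3 = 1 := by
    set e1 := y * e * y⁻¹ with he1
    set e2 := y * y * e * (y * y)⁻¹ with he2
    have s1 : e1 * e1 = 1 := by rw [he1, show y * e * y⁻¹ * (y * e * y⁻¹) = y * (e * e) * y⁻¹ by group, R.ee]; group
    have s2 : e2 * e2 = 1 := by
      rw [he2, show y * y * e * (y * y)⁻¹ * (y * y * e * (y * y)⁻¹) = y * y * (e * e) * (y * y)⁻¹ by group, R.ee]; group
    have hprod : e * e1 = e2 := R.ye
    have hcomm : e1 * e = e2 := by
      calc e1 * e = e1⁻¹ * e⁻¹ := by rw [inv_eq_of_mul_eq_one_right s1, inv_eq_of_mul_eq_one_right R.ee]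
        _ = e2 := by rw [← mul_inv_rev, hprod, inv_eq_of_mul_eq_one_right s2]
    rw [pow_succ, pow_two]
    rcases pow_cases y3 R.p_mem with h | h | h <;> rw [h]
    · exact absurd h hp
    · calc y * e * (y * e) * (y * e) = e1 * e2 * ((y * y * y) * e) := by rw [he1, he2]; group
        _ = 1 := by rw [y3, one_mul, ← hprod, show e1 * (e * e1) * e = (e1 * e) * (e1 * e) by group, hcomm, s2]
    · calc y * y * e * (y * y * e) * (y * y * e) = e2 * ((y * y * y) * (y * e * y⁻¹) * (y * y * y)) * e := by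
            rw [he2]; group; simp only [sq, zpow_two, mul_assoc]
        _ = e2 * e1 * e := by rw [y3, one_mul, mul_one, ← he1]
        _ = 1 := by rw [mul_assoc, hcomm, s2]
  have rels : ∀ r ∈ coxRelators Suz.edges ∪ {r | r ∈ Suz.extra}, FreeGroup.lift (suzGen z b c d e f g) r = 1 := by
    rintro r (⟨k, -, l, -, rfl⟩ | hr)
    · rw [map_pow, map_mul, FreeGroup.lift_apply_of, FreeGroup.lift_apply_of]
      have cm : ∀ {u w : G}, u * u = 1 → w * w = 1 → Commute u w → (u * w) ^ 2 = 1 := fun hu hw h => by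
        rw [pow_two, h.symm.mul_mul_mul_comm, hu, hw, one_mul]
      have sw : ∀ {u w : G} {n : ℕ}, (u * w) ^ n = 1 → (w * u) ^ n = 1 := fun {u w n} h => by
        rw [show w * u = u⁻¹ * (u * w) * u⁻¹⁻¹ by group, conj_pow, h]; group
      have fg4 : (f * g) ^ 4 = 1 := by rw [show 4 = 2 * 2 from rfl, pow_mul, R.fg, pow_two, R.zz]
      have cd8 : (c * d) ^ 8 = 1 := by rw [show 8 = 4 * 2 from rfl, pow_mul, R.cd, pow_two, R.zz]
      cases k <;> cases l <;>
        simp only [coxLabel, Suz.edges, suzGen, List.find?, reduceCtorEq, and_self, and_false, false_and, or_self,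
          or_false, false_or, decide_false, decide_true, if_false, if_true, pow_one]
      all_goals first
        | exact R.zz | exact R.bb | exact R.cc | exact R.dd | exact R.ee | exact R.ff | exact R.gg
        | exact R.ab | exact sw R.ab | exact R.bc | exact sw R.bc | exact cd8 | exact sw cd8
        | exact R.de | exact sw R.de | exact R.bf | exact sw R.bf | exact fg4 | exact sw fg4
        | exact R.gb | exact sw R.gb
        | exact cm R.zz R.cc R.ac | exact cm R.cc R.zz R.ac.symm
        | exact cm R.zz R.dd R.ad | exact cm R.dd R.zz R.ad.symm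
        | exact cm R.zz R.ee R.ae | exact cm R.ee R.zz R.ae.symm
        | exact cm R.zz R.ff R.af | exact cm R.ff R.zz R.af.symm
        | exact cm R.zz R.gg R.ag | exact cm R.gg R.zz R.ag.symm
        | exact cm R.bb R.dd R.bd | exact cm R.dd R.bb R.bd.symm
        | exact cm R.bb R.ee R.be | exact cm R.ee R.bb R.be.symm
        | exact cm R.cc R.ee R.ce | exact cm R.ee R.cc R.ce.symm
        | exact cm R.cc R.ff R.cf | exact cm R.ff R.cc R.cf.symm
        | exact cm R.cc R.gg R.cg | exact cm R.gg R.cc R.cg.symm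
        | exact cm R.dd R.ff R.df | exact cm R.ff R.dd R.df.symm
        | exact cm R.dd R.gg R.dg | exact cm R.gg R.dd R.dg.symm
        | exact cm R.ee R.ff R.ef | exact cm R.ff R.ee R.ef.symm
        | exact cm R.ee R.gg R.eg | exact cm R.gg R.ee R.eg.symm
    · simp only [Set.mem_setOf_eq, Suz.extra, List.mem_cons, List.not_mem_nil, or_false] at hr
      rcases hr with rfl | rfl | rfl | rfl | rfl <;>
        simp only [Suz.a, Suz.b, Suz.c, Suz.d, Suz.e, Suz.f, Suz.g, map_mul, map_inv, map_pow,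
          FreeGroup.lift_apply_of, suzGen]
      · rw [R.cd, mul_inv_cancel]
      · rw [R.fg, mul_inv_cancel]
      · exact R.abcf
      · exact R.bfg
      · rw [show b * c * d * c * d = b * c * x by rw [R.xeq]; group]; exact hpe
  refine ⟨PresentedGroup.toGroup rels, ?_, fun k => PresentedGroup.toGroup.of rels⟩
  haveI : IsSimpleGroup Suz := CfsgLib.SuzPres.isSuz.1
  refine (MonoidHom.ker_eq_bot_iff _).mp ((MonoidHom.normal_ker _).eq_bot_or_eq_top.resolve_right fun h => hz ?_)
  have : PresentedGroup.of Suz.Gen.a ∈ (PresentedGroup.toGroup rels).ker := h ▸ Subgroup.mem_top _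
  rw [MonoidHom.mem_ker, PresentedGroup.toGroup.of] at this
  exact this

namespace SF

variable {G : Type*} [Group G] [Finite G] {z y i p a s d : G} {Q : Subgroup G} {v : G → V6}

theorem exists_gg (S : SF z Q v y i p a s d) {F : Type} [Field F] [Fintype F] (hF : Fintype.card F = 9) :
    ∃ e C b d' g x, GG z Q v y i p a s d e C b d' g x := by
  obtain ⟨e, C, hC, D⟩ := S.exists_vd
  obtain ⟨b, d', g, x, R, cb, cg, cx, hdA, hdeq, hbU, hgU, hcU, hfU⟩ := D.exists_six
  exact ⟨e, C, b, d', g, x, D, R, cb, cg, cx, hdA, hdeq, hbU, hgU, hcU, hfU, D.p_ne hF R cb cg cx hbU hcU, hC⟩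

end SF

end CfsgLib.SuzUnique
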