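import Cfsg.Agent.Lib.SuzUnique.EndWords
import Cfsg.Agent.Lib.SuzUnique.Fusion
import Cfsg.Agent.Lib.SuzUnique.Hom
import Cfsg.Agent.S5513

/-!
The centraliser of the four-group and the elements centralising both involutions.
-/

set_option autoImplicit false
set_option maxRecDepth 100000
set_option maxHeartbeats 2000000
set_option linter.style.haveILetI false

namespace CfsgLib.SuzUnique

open CfsgLib.SuzType CfsgLib.SuzThree CfsgLib.Extraspecial CfsgLib.Extraspecial.Pair CfsgLib.CosetEnum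
open CfsgLib.UFourType (gen9 triv9 inv9)

/-- orthogonality to the eight low vectors and one more -/
def perpSv (w t : V6) : Bool := !(bf t 2) && !(bf t 8) && !(bf t 5) && !(bf t w)

theorem perp_check : (all64 fun w => inSv w || all64 fun s => !(perpSv w s) || qf s || s == 0 ||
    all64 fun a => !(perpSv w a) || !(qf a) || bf s a || all64 fun b => !(perpSv w b) || !(qf b) || bf s b || !(bf a b)) = true := by
  decide +kernel

theorem sv_span : ((List.finRange 64).all fun w => !(inSv w) || ([15, 5] : List V6).all fun g =>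
    [(0 : V6), 10].any fun a => [(0 : V6), 2].any fun b => [0, g].any fun c => w == xr (xr a b) c) = true ∧
    inSv 2 = true ∧ inSv 8 = true ∧ inSv 5 = true := by
  decide +kernel

theorem f1_moves : (all64 fun w => !(qf (xr (app F1 w) w))) = false := by decide +kernel

/-- the four-group as a list -/
def vList {G : Type*} [Group G] (y e : G) : List G := [1, e, y * e * y⁻¹, y * y * e * (y * y)⁻¹]

/-- the centraliser generated by the five generators -/
def lG {G : Type*} [Group G] (z c f g b d : G) : Subgroup G := genSub (cgen 6 z c f g b d) 5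

variable {G : Type*} [Group G] [Finite G] {z y i p a s d e b d' g x : G} {Q : Subgroup G} {v : G → V6} {C : UCase}

/-- the context -/
structure EC (z : G) (Q : Subgroup G) (v : G → V6) (y i p a s d e : G) (C : UCase) (b d' g x : G) (E : ECase) : Prop where
  gg : GG z Q v y i p a s d e C b d' g x
  ok : EndOK C E

namespace EC

variable {E : ECase} (X : EC z Q v y i p a s d e C b d' g x E)
include X

local notation "W" => prodW (gen9 i p a s d)
local notation "LG" => lG z (W wb1) (W wa2) g b d'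
local notation "r" => (W C.hw)⁻¹ * d'

theorem facts : SF z Q v y i p a s d ∧ Co z Q v := ⟨X.gg.vd.sf, X.gg.vd.sf.co⟩

theorem five_mem : z ∈ LG ∧ W wb1 ∈ LG ∧ W wa2 ∈ LG ∧ g ∈ LG ∧ b ∈ LG := by
  refine ⟨?_, ?_, ?_, ?_, ?_⟩
  exacts [Subgroup.subset_closure ⟨0, by norm_num, rfl⟩, Subgroup.subset_closure ⟨1, by norm_num, rfl⟩,
    Subgroup.subset_closure ⟨2, by norm_num, rfl⟩, Subgroup.subset_closure ⟨3, by norm_num, rfl⟩,
    Subgroup.subset_closure ⟨4, by norm_num, rfl⟩]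

theorem L_le : LG ≤ uG y e := by
  have R := X.gg.six
  refine (Subgroup.closure_le _).mpr ?_
  rintro _ ⟨n, hn, rfl⟩
  show cgen 6 z (W wb1) (W wa2) g b d' n ∈ uG y e
  interval_cases n
  exacts [mem_uG.mpr ⟨R.zy, R.ae⟩, X.gg.cU, X.gg.fU, X.gg.gU, X.gg.bU]

theorem eq_of_cg {u : List ℕ} {k k' : G} (h : Cg y i p a s d u k) (h' : Cg y i p a s d u k')
    (hk : k ∈ uG y e) (hk' : k' ∈ uG y e) : k = k' := by
  refine (inv_mul_eq_one.mp (uG_meet X.facts.1.y3 X.gg.vd.v1 (mul_mem (inv_mem hk) hk') ?_))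
  have := mul_mem (inv_mem h.2) h'.2
  rwa [show ((W u)⁻¹ * k)⁻¹ * ((W u)⁻¹ * k') = k⁻¹ * k' by group] at this

theorem w5_rep (ix : List ℕ) : ∃ k ∈ LG, Cg y i p a s d (C.w5 ix) k := by
  have S := X.facts.1
  obtain ⟨m1, m2, m3, m4, m5⟩ := X.five_mem
  refine S.cg_flat (fun u hu => ?_) ix
  simp only [List.mem_cons, List.not_mem_nil, or_false] at hu
  rcases hu with rfl | rfl | rfl | rfl | rfl
  · exact ⟨z, m1, by have := S.cg_self [0, 0]; rwa [S.z_word] at this⟩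
  · exact ⟨b, m5, X.gg.cb⟩
  · exact ⟨_, m2, S.cg_self _⟩
  · exact ⟨_, m3, S.cg_self _⟩
  · exact ⟨g, m4, X.gg.cg⟩

/-- an element of the centraliser of the four-group congruent to a word in the generators -/
theorem mem_of_w5 {u : List ℕ} {k : G} (ix : List ℕ) (h : Cg y i p a s d u k) (hk : k ∈ uG y e)
    (he : eqv u (C.w5 ix) = true) : k ∈ LG := by
  obtain ⟨k', hk', hc⟩ := X.w5_rep ix
  rw [X.eq_of_cg (X.facts.1.cg_eqv h he) hc hk (X.L_le hk')]
  exact hk'

theorem gens_L : ∀ u ∈ C.gens, ∃ k ∈ LG, Cg y i p a s d u k := by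
  have ok := X.ok.base
  simp only [endBase, Bool.and_eq_true, Nat.beq_eq, List.all_eq_true] at ok
  obtain ⟨⟨⟨⟨⟨hl, hgen⟩, -⟩, -⟩, -⟩, -⟩ := ok
  intro u hu
  obtain ⟨k, hk, hc⟩ := X.gg.vd.gens_u u hu
  obtain ⟨n, hn, hnu⟩ := List.getElem_of_mem hu
  have hz : n < (C.gens.zip E.gix).length := by rw [List.length_zip, hl, min_self]; exact hn
  have he := hgen _ (List.getElem_mem hz)
  rw [List.getElem_zip, hnu] at he
  exact ⟨k, X.mem_of_w5 _ hc hk he, hc⟩

theorem t_mem : W wt1 ∈ LG ∧ W wt2 ∈ LG := by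
  have S := X.facts.1
  have ok := X.ok.base
  simp only [endBase, Bool.and_eq_true] at ok
  obtain ⟨⟨⟨⟨-, h1⟩, h2⟩, -⟩, -⟩ := ok
  exact ⟨X.mem_of_w5 _ (S.cg_self _) (mem_uG.mpr ⟨S.w_comm _, (S.eD1.comm_t X.gg.vd.v1).symm⟩) h1,
    X.mem_of_w5 _ (S.cg_self _) (mem_uG.mpr ⟨S.w_comm _, (S.eD2.comm_t X.gg.vd.v2).symm⟩) h2⟩

theorem e_facts : Commute e z ∧ e * e = 1 ∧ e ≠ 1 ∧ e ∉ Q ∧ ¬ IsConj e z ∧ ∃ ge ue, Fr z Q v ge ue ∧ Odd1 z Q v ge e := by
  obtain ⟨h1, h2, h3, -, -, -⟩ := X.gg.vd.v1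
  obtain ⟨w, -, hw⟩ : ∃ w ∈ List.finRange 64, (fun w => !(qf (xr (app F1 w) w))) w = false :=
    (List.all_eq_false.mp f1_moves).imp fun w h => ⟨h.1, by simpa using h.2⟩
  obtain ⟨hQ, hc, hF⟩ := not_conj_z X.facts.2 h1 h3 X.gg.vd.act w (by simpa using hw)
  exact ⟨h3, h1, h2, hQ, hc, hF⟩

theorem sv_real {w : V6} (hw : inSv w = true) : ∃ k ∈ LG, k ∈ Q ∧ Commute k e ∧ v k = w := by
  obtain ⟨S, H⟩ := X.facts
  obtain ⟨m1, m2, m3, m4, m5⟩ := X.five_mem
  have R := X.gg.six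
  have ok := X.ok.gfive
  simp only [endG, Bool.and_eq_true, List.all_eq_true] at ok
  obtain ⟨⟨⟨⟨⟨⟨hgs, hgx⟩, hgL⟩, hglow⟩, hgq⟩, hgv⟩, -⟩ := ok
  set gl := (E.gs.map fun u => u ++ [0] ++ inv9 u).flatten with hgl
  have hgQy : W gl ∈ Qy Q y := S.low_mem hglow hgL
  have hgeq : g = W gl := by
    refine lift_unique S.y3 (S.w_comm _) R.gg ?_ (S.cg_eqv X.gg.cg hgq).2
    have e0 := S.exact_spec hgx
    rwa [rep, show (List.replicate 2 gl).flatten = gl ++ gl by simp [List.replicate_succ], prodW_append] at e0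
  obtain ⟨hgQ, hgval⟩ := S.v_blocks E.gs hgs
  have hvg : v g = 15 ∨ v g = 5 := by
    rw [hgeq, hgval]
    simpa using hgv
  have hcQ : W wb1 ∈ Q := S.eD1.bQ.1
  have hfQ : W wa2 ∈ Q := S.eD2.aQ.1
  have hgQ' : g ∈ Q := hgeq ▸ hgQ
  have h := sv_span.1
  simp only [List.all_eq_true, List.mem_finRange, forall_const, Bool.or_eq_true, Bool.not_eq_true',
    List.any_eq_true, beq_iff_eq, List.mem_cons, List.not_mem_nil, or_false, exists_eq_or_imp, exists_eq_left,
    forall_eq_or_imp, forall_eq] at h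
  have hw' := ((h w).resolve_left (by rw [hw]; simp))
  let P : V6 → Prop := fun u => ∃ k ∈ LG, k ∈ Q ∧ Commute k e ∧ v k = u
  have p0 : P 0 := ⟨1, one_mem _, one_mem Q, Commute.one_left e, H.v_one⟩
  have pc : P 10 := ⟨_, m2, hcQ, R.ce, S.vecs.2.1⟩
  have pf : P 2 := ⟨_, m3, hfQ, R.ef.symm, S.vecs.2.2.1⟩
  have pg : P (v g) := ⟨g, m4, hgQ', R.eg.symm, rfl⟩
  have pm : ∀ u u', P u → P u' → P (xr u u') := by
    rintro u u' ⟨k, h1, h2, h3, rfl⟩ ⟨k', h1', h2', h3', rfl⟩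
    exact ⟨k * k', mul_mem h1 h1', mul_mem h2 h2', h3.mul_left h3', H.mul _ h2 _ h2'⟩
  show P w
  rcases hvg with e' | e'
  · rw [e'] at pg
    rcases hw'.1 with (((h|h)|h|h)|((h|h)|h|h)) <;> rw [h] <;>
      (refine pm _ _ (pm _ _ ?_ ?_) ?_ <;> assumption)
  · rw [e'] at pg
    rcases hw'.2 with (((h|h)|h|h)|((h|h)|h|h)) <;> rw [h] <;>
      (refine pm _ _ (pm _ _ ?_ ?_) ?_ <;> assumption)

/-- The elements of the extraspecial group centralising the involution. -/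
theorem q_mem {q : G} (hq : q ∈ Q) (hqe : Commute q e) : inSv (v q) = true ∧ q ∈ LG := by
  obtain ⟨S, H⟩ := X.facts
  obtain ⟨-, -, -, -, -, ge, ue, F, hO⟩ := X.e_facts
  obtain ⟨m1, m2, m3, m4, m5⟩ := X.five_mem
  have R := X.gg.six
  have real := fun w (hw : inSv w = true) => X.sv_real hw
  have hperp : ∀ k ∈ Q, Commute k e → ∀ x0 y0, x0 ∈ P Q z ge → y0 ∈ P' Q z ge → e = x0 * y0 → qf (v x0) = true →
      bf (v x0) (v (al ue y0)) = true →
      bf (v k) (v (ge * z * ge⁻¹)) = false ∧ bf (v k) (v x0) = false ∧ bf (v k) (v (al ue y0)) = false := by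
    intro k hk hke x0 y0 hx0 hy0 he0 hqx hb
    have he2 : e * e = 1 := X.e_facts.2.1
    have hx0Q := (F.mem_P.mp hx0).1
    set sz := ge * z * ge⁻¹ with hsz
    have hconj := F.odd1_conj_x hx0 hy0 he0 he2 hqx
    have hkx : k * x0 * k⁻¹ = x0 ∨ k * x0 * k⁻¹ = z * x0 := H.st.comm_cases hk hx0Q
    have hez : Commute e z := X.e_facts.1
    have hxt : (k * x0 * k⁻¹) * e * (k * x0 * k⁻¹)⁻¹ = z * sz * e := by
      rcases hkx with h | h <;> rw [h]
      · exact hconj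
      · rw [show z * x0 * e * (z * x0)⁻¹ = z * (x0 * e * x0⁻¹) * z⁻¹ by group, hconj]
        have c1 : Commute (z * sz * e) z :=
          ((Commute.refl z).mul_left (show Commute sz z from H.commute_z F.pr.mem)).mul_left hez
        rw [← c1.eq, mul_inv_cancel_right]
    have hkt : k * e * k⁻¹ = e := by rw [hke.eq, mul_inv_cancel_right]
    have h2 : k * (x0 * e * x0⁻¹) * k⁻¹ = z * sz * e := by
      conv_rhs => rw [← hxt]
      conv_rhs => rw [show (k * x0 * k⁻¹) * e * (k * x0 * k⁻¹)⁻¹ = k * x0 * (k⁻¹ * e * k) * x0⁻¹ * k⁻¹ by group,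
        show k⁻¹ * e * k = e by rw [mul_assoc, ← hke.eq, inv_mul_cancel_left]]
      group
    rw [hconj, show k * (z * sz * e) * k⁻¹ = (k * z * k⁻¹) * (k * sz * k⁻¹) * (k * e * k⁻¹) by group,
      H.commute_z hk, mul_inv_cancel_right, hkt, mul_left_inj, mul_right_inj] at h2
    have hkP : k ∈ P Q z ge := F.mem_P.mpr ⟨hk, mul_inv_eq_iff_eq_mul.mp h2⟩
    refine ⟨F.P_perp hkP, ?_⟩
    have hy : k * y0 * k⁻¹ = y0 ∧ bf (v k) (v (al ue y0)) = false ∨
        k * y0 * k⁻¹ = z * sz * y0 ∧ bf (v k) (v (al ue y0)) = true := by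
      rcases Bool.eq_false_or_eq_true (bf (v k) (v (al ue y0))) with h | h
      · refine Or.inr ⟨?_, h⟩
        rw [(F.comm_rel hkP hy0).2 h, hsz]; group
      · refine Or.inl ⟨?_, h⟩
        rw [(F.comm_rel hkP hy0).1 h, mul_inv_cancel_right]
    have he' : (k * x0 * k⁻¹) * (k * y0 * k⁻¹) = x0 * y0 := by
      rw [← he0]
      conv_rhs => rw [← hkt, he0]
      group
    have hxz : x0 * z = z * x0 := H.commute_z hx0Q
    have hxs : Commute x0 (z * sz) := (F.V_central F.zz'_mem (Or.inl hx0)).symm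
    rcases hkx with hx | hx <;> rcases hy with ⟨hy, hyb⟩ | ⟨hy, hyb⟩ <;> rw [hx, hy] at he'
    · exact ⟨(H.comm _ hk _ hx0Q).mpr (mul_inv_eq_iff_eq_mul.mp hx), hyb⟩
    · exfalso
      rw [mul_right_inj, mul_eq_right] at he'
      exact F.pr.mul_ne_one he'
    · exfalso
      rw [mul_assoc, mul_eq_right] at he'
      exact H.st.ne_one he'
    · exfalso
      rw [show z * x0 * (z * sz * y0) = z * (x0 * (z * sz)) * y0 by group, hxs.eq,
        show z * (z * sz * x0) * y0 = z * z * sz * (x0 * y0) by group, H.st.zz, one_mul, mul_eq_right] at he'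
      exact F.pr.ne_one' he'
  obtain ⟨x0, hx0, y0, hy0, he0, -, hqx, hqa, hb⟩ := F.odd1_data hO
  have hSv : inSv (v q) = true := by
    by_contra hne
    rw [Bool.not_eq_true] at hne
    obtain ⟨t1, t2, t3⟩ := hperp q hq hqe x0 y0 hx0 hy0 he0 hqx hb
    have pp : ∀ t, bf (v q) t = false → (∀ w, inSv w = true → ∀ k ∈ Q, Commute k e → v k = w → bf w t = false) →
        perpSv (v q) t = true := by
      intro t ht hall
      have h := fun w hw => (real w hw).elim fun k hk => hall w hw k hk.2.1 hk.2.2.1 hk.2.2.2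
      simp [perpSv, bf_comm t, ht, h 2 sv_span.2.1, h 8 sv_span.2.2.1, h 5 sv_span.2.2.2]
    have ps := pp _ t1 fun w _ k hk hke hw => hw ▸ (hperp k hk hke x0 y0 hx0 hy0 he0 hqx hb).1
    have pa := pp _ t2 fun w _ k hk hke hw => hw ▸ (hperp k hk hke x0 y0 hx0 hy0 he0 hqx hb).2.1
    have pb := pp _ t3 fun w _ k hk hke hw => hw ▸ (hperp k hk hke x0 y0 hx0 hy0 he0 hqx hb).2.2
    have hc := perp_check
    simp only [all64, List.all_eq_true, List.mem_finRange, forall_const, Bool.or_eq_true, Bool.not_eq_true',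
      beq_iff_eq] at hc
    have hsa : bf (v (ge * z * ge⁻¹)) (v x0) = false := by rw [bf_comm]; exact F.P_perp hx0
    have hsb : bf (v (ge * z * ge⁻¹)) (v (al ue y0)) = false := by rw [bf_comm]; exact F.P_perp (F.al_mem hy0)
    have k := hc (v q)
    simp only [hne, Bool.false_eq_true, false_or] at k
    have k := k (v (ge * z * ge⁻¹))
    simp only [ps, F.sv_qf, F.sv_ne, Bool.true_eq_false, Bool.false_eq_true, false_or] at k
    have k := k (v x0)
    simp only [pa, hqx, hsa, Bool.true_eq_false, Bool.false_eq_true, false_or] at k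
    have k := k (v (al ue y0))
    simp [pb, hqa, hsb, hb] at k
  refine ⟨hSv, ?_⟩
  obtain ⟨k, hk, hkQ, -, hkv⟩ := real _ hSv
  rcases H.eq_or hq hkQ hkv.symm with h | h <;> rw [h]
  · exact hk
  · exact mul_mem m1 hk

theorem r_facts : Commute r z ∧ r * e * r⁻¹ = e ∧ Act Q v r C.rM ∧ r * y * r⁻¹ = y⁻¹ ∧
    ∀ k ∈ LG, r * k * r⁻¹ ∈ LG := by
  obtain ⟨S, H⟩ := X.facts
  have R := X.gg.six
  have D := X.gg.vd
  have ok := D.ok
  simp only [caseOK, Bool.and_eq_true] at ok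
  obtain ⟨⟨⟨⟨⟨⟨⟨⟨⟨⟨⟨⟨⟨⟨⟨-, hlow⟩, hkb⟩, hkf⟩, hkg⟩, -⟩, -⟩, -⟩, -⟩, -⟩, -⟩, -⟩, -⟩, -⟩, -⟩, -⟩ := ok
  have eok := X.ok.gfive
  simp only [endG, Bool.and_eq_true] at eok
  obtain ⟨-, hkc⟩ := eok
  set h := W C.hw with hh
  have hhy : Commute h y := S.w_comm _
  have hhz : Commute h z := S.low_z hlow
  have hlow7 : ∀ l ∈ C.hw, l < 7 := by simpa [low, List.all_eq_true, Nat.blt_eq] using hlow
  have hw9 : ∀ l ∈ C.hw, l < 9 := fun l hl => (hlow7 l hl).trans (by norm_num)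
  have hiA : Act Q v h⁻¹ (linW (inv9 C.hw)) := by
    have := (S.w_low (inv9_low hlow7)).2
    rwa [S.w_inv hw9] at this
  have dinv : d'⁻¹ = d' := inv_eq_of_mul_eq_one_right R.dd
  have einv : e⁻¹ = e := inv_eq_of_mul_eq_one_right R.ee
  -- the conjugate of the four-group involution
  have hded : d' * e * d' = h * e * h⁻¹ := by
    have hd : d' = e * (h * e * h⁻¹) * e := X.gg.deq
    have h3 : d' * e * d' = e * d' * e := by
      have h0 := R.de
      rw [pow_succ, pow_two] at h0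
      calc d' * e * d' = (d' * e * (d' * e) * (d' * e)) * (e⁻¹ * d'⁻¹ * e⁻¹) := by group
        _ = e * d' * e := by rw [h0, one_mul, einv, dinv]
    rw [h3, hd, show e * (e * (h * e * h⁻¹) * e) * e = (e * e) * (h * e * h⁻¹) * (e * e) by group, R.ee, one_mul, mul_one]
  have hre : r * e * r⁻¹ = e := by
    rw [show h⁻¹ * d' * e * (h⁻¹ * d')⁻¹ = h⁻¹ * (d' * e * d'⁻¹) * h by group, dinv, hded]; group
  have hdy : d' * y * d'⁻¹ = y⁻¹ := by rw [dinv]; exact R.dyd
  have hry : r * y * r⁻¹ = y⁻¹ := by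
    rw [show h⁻¹ * d' * y * (h⁻¹ * d')⁻¹ = h⁻¹ * (d' * y * d'⁻¹) * h by group, hdy, mul_assoc, ← hhy.inv_right.eq,
      inv_mul_cancel_left]
  refine ⟨hhz.inv_left.mul_left R.ad.symm, hre, act_mul H R.ad.symm.eq hiA X.gg.dA, hry, ?_⟩
  -- the generators
  have hcy : ∀ k, Commute k y → Commute k (h * e * h⁻¹) → h⁻¹ * k * h ∈ uG y e := fun k hk hke => by
    refine mem_uG.mpr ⟨(hhy.inv_left.mul_left hk).mul_left hhy, ?_⟩
    have := hke.map (MulAut.conj h⁻¹)
    rwa [MulAut.conj_apply, MulAut.conj_apply, inv_inv, show h⁻¹ * (h * e * h⁻¹) * h = e by group] at this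
  have hflat : ∀ {u : List ℕ} {k : G} (ix : List ℕ), Cg y i p a s d u k → Commute k (h * e * h⁻¹) →
      eqv (inv9 C.hw ++ u ++ C.hw) (C.flat ix) = true → h⁻¹ * k * h ∈ LG := by
    intro u k ix hk hke he
    obtain ⟨k', hk', hc'⟩ : ∃ k' ∈ LG, Cg y i p a s d (C.flat ix) k' := S.cg_flat X.gens_L ix
    have h1 := S.cg_eqv (S.cg_mul (S.cg_mul (S.cg_inv hw9 (S.cg_self C.hw)) hk) (S.cg_self C.hw)) he
    rw [X.eq_of_cg h1 hc' (hcy k hk.1 hke) (X.L_le hk')]
    exact hk'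
  have hdk : ∀ {k}, k ∈ uG y e → Commute k d' → Commute k (h * e * h⁻¹) := fun hk hkd => by
    rw [← hded]
    exact (hkd.mul_right (mem_uG.mp hk).2).mul_right hkd
  intro k hk
  induction hk using Subgroup.closure_induction with
  | one => rw [mul_one, mul_inv_cancel]; exact one_mem _
  | mul k k' _ _ h1 h2 =>
    rw [show r * (k * k') * r⁻¹ = r * k * r⁻¹ * (r * k' * r⁻¹) by group]; exact mul_mem h1 h2
  | inv k _ h1 => rw [show r * k⁻¹ * r⁻¹ = (r * k * r⁻¹)⁻¹ by group]; exact inv_mem h1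
  | mem k hk =>
    obtain ⟨n, hn, rfl⟩ := hk
    show r * cgen 6 z (W wb1) (W wa2) g b d' n * r⁻¹ ∈ LG
    have conj : ∀ k, h⁻¹ * d' * k * (h⁻¹ * d')⁻¹ = h⁻¹ * (d' * k * d') * h := fun k => by
      rw [mul_inv_rev, dinv, inv_inv]; group
    have fixd : ∀ k, Commute k d' → h⁻¹ * d' * k * (h⁻¹ * d')⁻¹ = h⁻¹ * k * h := fun k hk => by
      rw [conj, ← hk.eq, mul_assoc k, R.dd, mul_one]
    obtain ⟨m1, -, -, -, -⟩ := X.five_mem
    interval_cases n <;> simp only [cgen, Nat.reduceLT, if_true, List.getD_cons_zero, List.getD_cons_succ]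
    · rw [fixd _ R.ad, ← hhz.inv_left.eq.symm]
      rwa [show z * h⁻¹ * h = z by group]
    · rw [conj, ← R.xeq]
      refine hflat E.hc X.gg.cx ?_ hkc
      rw [← hded, R.xeq]
      have := (R.ce).map (MulAut.conj d')
      rwa [MulAut.conj_apply, MulAut.conj_apply, dinv] at this
    · rw [fixd _ R.df.symm]
      exact hflat C.hf (S.cg_self _) (hdk X.gg.fU R.df.symm) hkf
    · rw [fixd _ R.dg.symm]
      exact hflat C.hg X.gg.cg (hdk X.gg.gU R.dg.symm) hkg
    · rw [fixd _ R.bd]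
      exact hflat C.hb X.gg.cb (hdk X.gg.bU R.bd) hkb

theorem v_facts : ∀ w ∈ vList y e, Commute w y → w = 1 := by
  intro w hw hwy
  obtain ⟨S, H⟩ := X.facts
  obtain ⟨-, he1, -, -, -, hp⟩ := X.gg.vd.v1
  have bad : Commute e y → False := fun hc => by
    obtain ⟨h2, -, -, -, -, -⟩ := X.gg.vd.v1
    rw [hc.symm.eq, mul_inv_cancel_right, h2, (hc.symm.mul_left hc.symm).eq, mul_inv_cancel_right] at hp
    exact he1 hp.symm
  simp only [vList, List.mem_cons, List.not_mem_nil, or_false] at hw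
  rcases hw with rfl | rfl | rfl | rfl
  · rfl
  · exact (bad hwy).elim
  · refine (bad ?_).elim
    have := hwy.map (MulAut.conj y⁻¹)
    rwa [MulAut.conj_apply, MulAut.conj_apply, show y⁻¹ * (y * e * y⁻¹) * y⁻¹⁻¹ = e by group,
      show y⁻¹ * y * y⁻¹⁻¹ = y by group] at this
  · refine (bad ?_).elim
    have := hwy.map (MulAut.conj (y * y)⁻¹)
    rwa [MulAut.conj_apply, MulAut.conj_apply, show (y * y)⁻¹ * (y * y * e * (y * y)⁻¹) * (y * y)⁻¹⁻¹ = e by group,
      show (y * y)⁻¹ * y * (y * y)⁻¹⁻¹ = y by group] at this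

theorem v_acts : ∀ w ∈ vList y e, Commute w z ∧ Commute w e ∧ (∃ M ∈ vAct, Act Q v w M) ∧
    (∀ k ∈ LG, Commute w k) := by
  obtain ⟨S, H⟩ := X.facts
  have R := X.gg.six
  have hez : Commute e z := X.e_facts.1
  have hyz : Commute y z := S.yd.yz
  have hy2 : Act Q v y⁻¹ (comp L0 L0) := by
    rw [show y⁻¹ = y * y from (eq_inv_of_mul_eq_one_left S.y3).symm]
    exact act_mul H S.yd.yz S.yd.act S.yd.act
  set e1 := y * e * y⁻¹ with he1
  have h1z : Commute e1 z := (hyz.mul_left hez).mul_left hyz.inv_left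
  have A1 : Act Q v e1 (rotC F1) := act_mul H hyz.inv_left.eq (act_mul H hez.eq S.yd.act X.gg.vd.act) hy2
  have hprod : e * e1 = y * y * e * (y * y)⁻¹ := R.ye
  have s1 : e1 * e1 = 1 := by rw [he1, show y * e * y⁻¹ * (y * e * y⁻¹) = y * (e * e) * y⁻¹ by group, R.ee]; group
  have s2 : y * y * e * (y * y)⁻¹ * (y * y * e * (y * y)⁻¹) = 1 := by
    rw [show y * y * e * (y * y)⁻¹ * (y * y * e * (y * y)⁻¹) = y * y * (e * e) * (y * y)⁻¹ by group, R.ee]; group
  have hce : Commute e1 e := by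
    show e1 * e = e * e1
    calc e1 * e = e1⁻¹ * e⁻¹ := by rw [inv_eq_of_mul_eq_one_right s1, inv_eq_of_mul_eq_one_right R.ee]
      _ = e * e1 := by rw [← mul_inv_rev, hprod, inv_eq_of_mul_eq_one_right s2]
  have hk : ∀ k ∈ LG, Commute e k ∧ Commute y k := fun k hk =>
    ⟨(mem_uG.mp (X.L_le hk)).2.symm, (mem_uG.mp (X.L_le hk)).1.symm⟩
  intro w hw
  simp only [vList, List.mem_cons, List.not_mem_nil, or_false] at hw
  rcases hw with rfl | h | h | h
  · exact ⟨Commute.one_left z, Commute.one_left e, ⟨L1, by simp [vAct], act_inner H (one_mem Q)⟩, fun k _ => Commute.one_left k⟩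
  · rw [h]; exact ⟨hez, Commute.refl e, ⟨F1, by simp [vAct], X.gg.vd.act⟩, fun k h => (hk k h).1⟩
  · rw [h]; exact ⟨h1z, hce, ⟨rotC F1, by simp [vAct], A1⟩,
      fun k h => ((hk k h).2.mul_left (hk k h).1).mul_left (hk k h).2.inv_left⟩
  · rw [h]; refine ⟨(show Commute (e * e1) z from hez.mul_left h1z) |> fun h => hprod ▸ h, hprod ▸ (Commute.refl e).mul_left hce,
      ⟨rotC (rotC F1), by simp [vAct], ?_⟩, fun k h => ?_⟩
    · rw [show y * y * e * (y * y)⁻¹ = y * e1 * y⁻¹ by rw [he1]; group]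
      exact act_mul H hyz.inv_left.eq (act_mul H h1z.eq S.yd.act A1) hy2
    · rw [← hprod]
      exact (hk k h).1.mul_left (((hk k h).2.mul_left (hk k h).1).mul_left (hk k h).2.inv_left)

/-- The elements centralising both involutions. -/
theorem cent_ze {c : G} (hcz : Commute c z) (hce : Commute c e) :
    ∃ q t w, q ∈ Q ∧ Commute q e ∧ t ∈ [1, W wt1, W wt2, W wt1 * W wt2] ∧ q * t ∈ LG ∧ w ∈ vList y e ∧
      (c = q * t * w ∨ (c = q * t * (w * r) ∧ ∃ L, Act Q v c L ∧ singI L = false)) := by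
  obtain ⟨S, H⟩ := X.facts
  obtain ⟨hez, -, -, -, -, -⟩ := X.e_facts
  obtain ⟨hrz, hre, hrA, -, -⟩ := X.r_facts
  obtain ⟨L, hLg, hL⟩ := act_exists H hcz.eq
  have hLF : comp L F1 = comp F1 L := act_unique H (act_mul H hez.eq hL X.gg.vd.act)
    (hce.eq ▸ act_mul H hcz.eq X.gg.vd.act hL)
  have hS : ∀ w, inSv w = true → inSv (app L w) = true := by
    intro w hw
    obtain ⟨k, hk, hkQ, hke, rfl⟩ : ∃ k ∈ LG, k ∈ Q ∧ Commute k e ∧ v k = w := X.sv_real hw
    rw [← hL k hkQ]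
    exact (X.q_mem (H.conj_mem hcz.eq hkQ) ((hce.mul_left hke).mul_left hce.inv_left)).1
  have hmem := mem_c2 hLg hLF hS
  have ok := X.ok.act
  simp only [actOK, Bool.and_eq_true, List.all_eq_true, List.any_eq_true, Bool.or_eq_true,
    Bool.not_eq_true'] at ok
  obtain ⟨hfac, hsing⟩ := ok
  obtain ⟨u, hu, M, hM, hLe⟩ := hfac L hmem
  obtain ⟨t1, t2⟩ := X.t_mem
  obtain ⟨t, ht, htA, htz, hte, htL⟩ : ∃ t, t ∈ [1, W wt1, W wt2, W wt1 * W wt2] ∧ Act Q v t u ∧ Commute t z ∧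
      Commute t e ∧ t ∈ LG := by
    have a1 := S.eD1.tA
    have a2 := S.eD2.tA
    have z1 : Commute (W wt1) z := (mem_Cz.mp S.eD1.tC).1
    have z2 : Commute (W wt2) z := (mem_Cz.mp S.eD2.tC).1
    have e1 := (mem_uG.mp (X.L_le t1)).2
    have e2 := (mem_uG.mp (X.L_le t2)).2
    simp only [uAct, List.mem_cons, List.not_mem_nil, or_false] at hu
    rcases hu with rfl | rfl | rfl | rfl
    · exact ⟨1, by simp, act_inner H (one_mem Q), Commute.one_left z, Commute.one_left e, one_mem _⟩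
    · exact ⟨_, by simp, a1, z1, e1, t1⟩
    · exact ⟨_, by simp, a2, z2, e2, t2⟩
    · exact ⟨_, by simp, act_mul H z2.eq a1 a2, z1.mul_left z2, e1.mul_left e2, mul_mem t1 t2⟩
  obtain ⟨w, hw, hwA⟩ : ∃ w ∈ vList y e, Act Q v w M := by
    have hv := X.v_acts
    simp only [vAct, List.mem_cons, List.not_mem_nil, or_false] at hM
    obtain ⟨-, -, ⟨M1, -, A1⟩, -⟩ := hv e (by simp [vList])
    have hyz : Commute y z := S.yd.yz
    have hy2 : Act Q v y⁻¹ (comp L0 L0) := by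
      rw [show y⁻¹ = y * y from (eq_inv_of_mul_eq_one_left S.y3).symm]
      exact act_mul H S.yd.yz S.yd.act S.yd.act
    have h1z : Commute (y * e * y⁻¹) z := (hyz.mul_left hez).mul_left hyz.inv_left
    have A := act_mul H hyz.inv_left.eq (act_mul H hez.eq S.yd.act X.gg.vd.act) hy2
    rcases hM with rfl | rfl | rfl | rfl
    · exact ⟨1, by simp [vList], act_inner H (one_mem Q)⟩
    · exact ⟨e, by simp [vList], X.gg.vd.act⟩
    · exact ⟨_, by simp [vList], A⟩
    · refine ⟨y * (y * e * y⁻¹) * y⁻¹, by simp [vList]; right; right; right; group, ?_⟩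
      exact act_mul H hyz.inv_left.eq (act_mul H h1z.eq S.yd.act A) hy2
  obtain ⟨hwz, hwe, -, -⟩ := X.v_acts w hw
  have hre' : Commute r e := mul_inv_eq_iff_eq_mul.mp hre
  have main : ∀ k, Commute k z → Commute k e → Act Q v k L →
      c * k⁻¹ ∈ Q ∧ Commute (c * k⁻¹) e ∧ c * k⁻¹ ∈ LG := by
    intro k hkz hke hk
    obtain ⟨N, -, hN⟩ := act_exists H hkz.inv_left.eq
    have e1 : comp L N = L1 := act_unique H (act_mul H hkz.inv_left.eq hk hN)
      (by rw [mul_inv_cancel]; exact act_inner H (one_mem Q))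
    have hq : c * k⁻¹ ∈ Q := act_mem H (hcz.mul_left hkz.inv_left).eq (e1 ▸ act_mul H hkz.inv_left.eq hL hN)
    have hqe : Commute (c * k⁻¹) e := hce.mul_left hke.inv_left
    exact ⟨hq, hqe, (X.q_mem hq hqe).2⟩
  rcases hLe with hLe | hLe <;> rw [eqL_iff] at hLe
  · obtain ⟨hq, hqe, hqL⟩ := main (t * w) (htz.mul_left hwz) (hte.mul_left hwe) (hLe ▸ act_mul H hwz.eq htA hwA)
    exact ⟨c * (t * w)⁻¹, t, w, hq, hqe, ht, mul_mem hqL htL, hw, Or.inl (by group)⟩
  · have hwrz := hwz.mul_left hrz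
    obtain ⟨hq, hqe, hqL⟩ := main (t * (w * r)) (htz.mul_left hwrz) (hte.mul_left (hwe.mul_left hre'))
      (hLe ▸ act_mul H hwrz.eq htA (act_mul H hrz.eq hwA hrA))
    exact ⟨c * (t * (w * r))⁻¹, t, w, hq, hqe, ht, mul_mem hqL htL, hw,
      Or.inr ⟨by group, L, hL, by rw [hLe]; exact hsing u hu M hM⟩⟩

end EC

end CfsgLib.SuzUnique
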