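import Cfsg.Agent.Lib.SuzUnique.EndWords

/-!
Kernel check of one case.
-/

set_option autoImplicit false
set_option maxRecDepth 100000
set_option maxHeartbeats 4000000
set_option Elab.async false

namespace CfsgLib.SuzUnique

theorem base_AA : endBase caseAA endAA = true := by decide +kernel

theorem conj0_AA : endConjAt caseAA endAA 0 = true := by decide +kernel

theorem conj1_AA : endConjAt caseAA endAA 1 = true := by decide +kernel

theorem conj2_AA : endConjAt caseAA endAA 2 = true := by decide +kernel

theorem conj3_AA : endConjAt caseAA endAA 3 = true := by decide +kernel

theorem dist_AA : endDist caseAA endAA = true := by decide +kernel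

theorem ord_AA : endOrd caseAA endAA = true := by decide +kernel

theorem g_AA : endG caseAA endAA = true := by decide +kernel

theorem act_AA : actOK caseAA = true := by decide +kernel

/-- the checks hold -/
theorem end_ok_AA : EndOK caseAA endAA where
  base := base_AA
  conj k hk := by
    interval_cases k
    exacts [conj0_AA, conj1_AA, conj2_AA, conj3_AA]
  dist := dist_AA
  ord := ord_AA
  gfive := g_AA
  act := act_AA

end CfsgLib.SuzUnique
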