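import Cfsg.Agent.Lib.SuzUnique.EndU

/-!
The centraliser of an involution of the second class.
-/

set_option autoImplicit false
set_option maxHeartbeats 1000000
set_option linter.style.haveILetI false

namespace CfsgLib.SuzUnique

open CfsgLib.SuzType CfsgLib.SuzThree CfsgLib.Extraspecial CfsgLib.Extraspecial.Pair CfsgLib.CosetEnum
open CfsgLib.UFourType (gen9 triv9 inv9)

/-- An involution of a subgroup whose conjugate stays there leads to one fixed by the conjugation. -/
theorem exists_fixed_invol {G : Type*} [Group G] [Finite G] {L : Subgroup G} {x j : G} (hx : x * x = 1)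
    (hj : j ∈ L) (hj2 : j * j = 1) (hj1 : j ≠ 1) (hxj : x * j * x⁻¹ ∈ L) :
    ∃ w ∈ L, w * w = 1 ∧ w ≠ 1 ∧ Commute x w := by
  set j' := x * j * x⁻¹ with hj'
  have xinv : x⁻¹ = x := inv_eq_of_mul_eq_one_right hx
  have jinv : j⁻¹ = j := inv_eq_of_mul_eq_one_right hj2
  have j'2 : j' * j' = 1 := by rw [hj', show x * j * x⁻¹ * (x * j * x⁻¹) = x * (j * j) * x⁻¹ by group, hj2]; group
  have j'inv : j'⁻¹ = j' := inv_eq_of_mul_eq_one_right j'2
  set ρ := j * j' with hρ
  have hback : x * j' * x⁻¹ = j := by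
    rw [hj', show x * (x * j * x⁻¹) * x⁻¹ = (x * x) * j * (x * x)⁻¹ by group, hx]; group
  have hcρ : x * ρ * x⁻¹ = ρ⁻¹ := by
    rw [hρ, show x * (j * j') * x⁻¹ = (x * j * x⁻¹) * (x * j' * x⁻¹) by group, ← hj', hback, mul_inv_rev, jinv, j'inv]
  have hjρ : j * ρ = j' := by rw [hρ, ← mul_assoc, hj2, one_mul]
  have hρL : ρ ∈ L := mul_mem hj hxj
  have hjc : j * ρ * j⁻¹ = ρ⁻¹ := by rw [hjρ, hρ, mul_inv_rev, j'inv]
  set n := orderOf ρ with hn
  rcases Nat.even_or_odd n with ⟨t, ht⟩ | ⟨t, ht⟩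
  · have htt : ρ ^ t * ρ ^ t = 1 := by rw [← pow_add, ← ht, pow_orderOf_eq_one]
    refine ⟨ρ ^ t, pow_mem hρL t, htt, pow_ne_one_of_lt_orderOf ?_ ?_, ?_⟩
    · have := orderOf_pos ρ; omega
    · have := orderOf_pos ρ; omega
    · refine mul_inv_eq_iff_eq_mul.mp ?_
      rw [← conj_pow, hcρ, inv_pow, inv_eq_of_mul_eq_one_right htt]
  · have htt : ρ ^ (t + 1) * ρ ^ t = 1 := by
      rw [← pow_add, show t + 1 + t = n by omega, hn, pow_orderOf_eq_one]
    refine ⟨j * ρ ^ (t + 1), mul_mem hj (pow_mem hρL _), ?_, ?_, ?_⟩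
    · rw [show j * ρ ^ (t + 1) * (j * ρ ^ (t + 1)) = (j * ρ ^ (t + 1) * j) * ρ ^ (t + 1) by group]
      conv_lhs => arg 1; arg 2; rw [← jinv]
      rw [← conj_pow, hjc, inv_pow, inv_mul_cancel]
    · intro h
      have hjp : j = (ρ ^ (t + 1))⁻¹ := eq_inv_of_mul_eq_one_left h
      have hcomm : Commute j ρ := by rw [hjp]; exact ((Commute.refl ρ).pow_left _).inv_left
      have e : ρ * ρ = 1 := by
        have := hjc
        rw [hcomm.eq, mul_inv_cancel_right] at this
        conv_lhs => arg 1; rw [this]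
        exact inv_mul_cancel ρ
      have hd : n ∣ 2 := orderOf_dvd_of_pow_eq_one (by rw [pow_two]; exact e)
      have : n = 1 := by
        rcases (Nat.dvd_prime Nat.prime_two).mp hd with h' | h'
        · exact h'
        · omega
      rw [hn, orderOf_eq_one_iff] at this
      rw [this, one_pow, inv_one] at hjp
      exact hj1 hjp
    · refine mul_inv_eq_iff_eq_mul.mp ?_
      rw [show x * (j * ρ ^ (t + 1)) * x⁻¹ = (x * j * x⁻¹) * (x * ρ ^ (t + 1) * x⁻¹) by group, ← conj_pow, hcρ,
        inv_pow, ← hj', ← hjρ, inv_eq_of_mul_eq_one_right htt]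
      rw [mul_assoc, ← pow_succ']

variable {G : Type*} [Group G] [Finite G] {z y i p a s d e b d' g x : G} {Q : Subgroup G} {v : G → V6} {C : UCase}

namespace EC

variable {E : ECase} (X : EC z Q v y i p a s d e C b d' g x E)
include X

local notation "W" => prodW (gen9 i p a s d)
local notation "LG" => lG z (W wb1) (W wa2) g b d'
local notation "r" => (W C.hw)⁻¹ * d'

/-- Conjugates of the first involution commuting with both lie in the local group. -/
theorem conj_in_z {k : G} (hkz : Commute k z) (hke : Commute k e) (hc : IsConj k z) : k ∈ LG := by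
  obtain ⟨S, H⟩ := X.facts
  have R := X.gg.six
  obtain ⟨c, hck⟩ := isConj_iff.mp hc.symm
  have k2 : k * k = 1 := by rw [← hck, show c * z * c⁻¹ * (c * z * c⁻¹) = c * (z * z) * c⁻¹ by group, H.st.zz]; group
  obtain ⟨q, t, w, -, -, -, hqt, hw, hor⟩ := X.cent_ze hkz hke
  rcases hor with rfl | ⟨-, L, hL, hs⟩
  · set l := q * t with hl
    obtain ⟨hwz, -, -, hwL⟩ := X.v_acts w hw
    have hwl := hwL l hqt
    obtain ⟨hez, he2, he1, -, hen, -⟩ := X.e_facts
    -- every member of the four-group is the identity or a conjugate of the involution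
    have hwc : w = 1 ∨ ∃ c, Commute c z ∧ c * e * c⁻¹ = w := by
      have hyz : Commute y z := S.yd.yz
      simp only [vList, List.mem_cons, List.not_mem_nil, or_false] at hw
      rcases hw with h | h | h | h
      · exact Or.inl h
      · exact Or.inr ⟨1, Commute.one_left z, by rw [h]; group⟩
      · exact Or.inr ⟨y, hyz, h.symm⟩
      · exact Or.inr ⟨y * y, hyz.mul_left hyz, h.symm⟩
    rcases hwc with rfl | ⟨c0, hc0, rfl⟩
    · simpa using hqt
    set w := c0 * e * c0⁻¹ with hwdef
    have w2 : w * w = 1 := by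
      rw [hwdef, show c0 * e * c0⁻¹ * (c0 * e * c0⁻¹) = c0 * (e * e) * c0⁻¹ by group, he2]; group
    have l2 : l * l = 1 := by
      have : l * w * (l * w) = l * l * (w * w) := by
        rw [mul_assoc l, ← mul_assoc w, hwl.eq]; group
      rw [this, w2, mul_one] at k2
      exact k2
    exfalso
    by_cases l1 : l = 1
    · rw [l1, one_mul] at hc
      exact hen ((isConj_iff.mpr ⟨c0, rfl⟩ : IsConj e w).trans hc)
    obtain ⟨h, hh, hhl⟩ := X.invol_conj hqt l2 l1
    have e1 : l * w = h * (z * w) * h⁻¹ := by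
      rw [← hhl, show h * (z * w) * h⁻¹ = h * z * (w * h⁻¹) by group, ((hwL h hh).inv_right).eq, hwdef]; group
    have e2 : z * w = c0 * (z * e) * c0⁻¹ := by
      rw [hwdef, show c0 * (z * e) * c0⁻¹ = (c0 * z) * (e * c0⁻¹) by group, hc0.eq]; group
    obtain ⟨w0, -, hw0⟩ : ∃ w0 ∈ List.finRange 64, (fun w => !(qf (xr (app F1 w) w))) w0 = false :=
      (List.all_eq_false.mp f1_moves).imp fun w h => ⟨h.1, by simpa using h.2⟩
    have hA : Act Q v (z * e) F1 := by
      have := act_mul H hez.eq (act_inner H H.z_mem) X.gg.vd.act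
      rwa [L1_comp] at this
    have hze2 : z * e * (z * e) = 1 := by
      rw [show z * e * (z * e) = z * (e * z) * e by group, hez.eq,
        show z * (z * e) * e = (z * z) * (e * e) by group, H.st.zz, he2, one_mul]
    obtain ⟨-, hn, -⟩ := not_conj_z H hze2 ((Commute.refl z).mul_left hez) hA w0 (by simpa using hw0)
    refine hn ((isConj_iff.mpr ⟨h * c0, ?_⟩ : IsConj (z * e) (l * w)).trans hc)
    rw [e1, e2]; group
  · exfalso
    have hLL : comp L L = L1 := act_unique H (act_mul H hkz.eq hL hL) (by rw [k2]; exact act_inner H (one_mem Q))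
    have hs' : ∃ w0, qf (xr (app L w0) w0) = true := by
      by_contra hne
      simp only [not_exists, Bool.not_eq_true] at hne
      have : singI L = true := by
        simp only [singI, Bool.and_eq_true, eqL_iff, hLL, true_and, all64, List.all_eq_true, List.mem_finRange,
          forall_const, Bool.not_eq_true']
        exact hne
      rw [this] at hs
      exact Bool.noConfusion hs
    obtain ⟨w0, hw0⟩ := hs'
    exact (not_conj_z H k2 hkz hL w0 hw0).2.1 hc

/-- Conjugates of the first involution commuting with an involution of the local group lie in it. -/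
theorem conj_in {k j : G} (hj : j ∈ LG) (hj2 : j * j = 1) (hj1 : j ≠ 1) (hkj : Commute k j) (hke : Commute k e)
    (hc : IsConj k z) : k ∈ LG := by
  obtain ⟨h, hh, rfl⟩ := X.invol_conj hj hj2 hj1
  have hhe : Commute h e := (mem_uG.mp (X.L_le hh)).2
  have h1 : h⁻¹ * k * h ∈ LG := by
    refine X.conj_in_z ?_ ((hhe.inv_left.mul_left hke).mul_left hhe) ?_
    · have := hkj.map (MulAut.conj h⁻¹)
      rwa [MulAut.conj_apply, MulAut.conj_apply, inv_inv, show h⁻¹ * (h * z * h⁻¹) * h = z by group] at this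
    · exact ((isConj_iff.mpr ⟨h⁻¹, by group⟩ : IsConj k (h⁻¹ * k * h)).symm).trans hc
  rw [show k = h * (h⁻¹ * k * h) * h⁻¹ by group]
  exact mul_mem (mul_mem hh h1) (inv_mem hh)

/-- The centraliser of the second involution permutes the involutions of the local group. -/
theorem conj_z_mem (F : Type) [Field F] [Fintype F] (hF : Fintype.card F = 9) {c : G} (hc : Commute c e) :
    c * z * c⁻¹ ∈ LG := by
  classical
  obtain ⟨S, H⟩ := X.facts
  obtain ⟨m1, -⟩ := X.five_mem
  obtain ⟨hez, -⟩ := X.e_facts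
  set T := Subgroup.centralizer ({e} : Set G) with hT
  have memT : ∀ {k}, k ∈ T ↔ Commute k e := fun {k} => Subgroup.mem_centralizer_singleton_iff
  set A := T ⊓ Subgroup.centralizer ({z} : Set G) with hA
  set K := T ⊓ Subgroup.normalizer ((LG : Subgroup G) : Set G) with hK
  have hLT : LG ≤ T := fun k hk => memT.mpr (mem_uG.mp (X.L_le hk)).2
  have hLK : LG ≤ K := le_inf hLT Subgroup.le_normalizer
  have hnorm : ∀ {k}, (∀ l ∈ LG, k * l * k⁻¹ ∈ LG) → k ∈ Subgroup.normalizer ((LG : Subgroup G) : Set G) := by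
    intro k hk
    refine Subgroup.mem_normalizer_iff.mpr fun l => ⟨hk l, fun h => ?_⟩
    let f : ↥LG → ↥LG := fun t => ⟨k * t * k⁻¹, hk t t.2⟩
    have hf : Function.Injective f := fun t t' h => Subtype.ext (by simpa [f] using h)
    obtain ⟨t, ht⟩ := (Finite.injective_iff_surjective.mp hf) ⟨_, h⟩
    have := congrArg Subtype.val ht
    simp only [f, mul_left_inj, mul_right_inj] at this
    exact this ▸ t.2
  obtain ⟨hrz, hre, -, -, hrL⟩ := X.r_facts
  -- the elements centralising both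
  have hdec : ∀ {k}, k ∈ A → ∃ w ∈ vList y e, ∃ u ∈ [1, r], k * (w * u)⁻¹ ∈ LG := by
    intro k hk
    obtain ⟨hk1, hk2⟩ := Subgroup.mem_inf.mp hk
    obtain ⟨q, t, w, -, -, -, hqt, hw, hor⟩ := X.cent_ze (Subgroup.mem_centralizer_singleton_iff.mp hk2) (memT.mp hk1)
    rcases hor with rfl | ⟨rfl, -⟩
    · exact ⟨w, hw, 1, by simp, by simpa using hqt⟩
    · exact ⟨w, hw, r, by simp, by rwa [mul_inv_cancel_right]⟩
  have hAK : A ≤ K := by
    intro k hk
    refine Subgroup.mem_inf.mpr ⟨(Subgroup.mem_inf.mp hk).1, ?_⟩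
    obtain ⟨w, hw, u, hu, hl⟩ := hdec hk
    obtain ⟨-, -, -, hwL⟩ := X.v_acts w hw
    rw [show k = k * (w * u)⁻¹ * (w * u) by group]
    refine mul_mem (Subgroup.le_normalizer hl) (mul_mem (hnorm fun l hl => ?_) ?_)
    · rwa [(hwL l hl).eq, mul_inv_cancel_right]
    · simp only [List.mem_cons, List.not_mem_nil, or_false] at hu
      rcases hu with rfl | rfl
      exacts [one_mem _, hnorm hrL]
  have isc : ∀ {k : G}, IsConj (k * z * k⁻¹) z := fun {k} => (isConj_iff.mpr ⟨k, rfl⟩ : IsConj z (k * z * k⁻¹)).symm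
  have inv2 : ∀ k : G, k * z * k⁻¹ * (k * z * k⁻¹) = 1 := fun k => by
    rw [show k * z * k⁻¹ * (k * z * k⁻¹) = k * (z * z) * k⁻¹ by group, H.st.zz]; group
  -- conjugates inside the stabiliser
  have hB : ∀ {t}, IsConj t z → t * t = 1 → t ∈ K → t ∈ LG := by
    intro t htc ht2 ht
    obtain ⟨htT, htN⟩ := Subgroup.mem_inf.mp ht
    obtain ⟨w, hw, hw2, hw1, hwc⟩ := exists_fixed_invol ht2 m1 H.st.zz H.st.ne_one
      ((Subgroup.mem_normalizer_iff.mp htN z).mp m1)
    exact X.conj_in hw hw2 hw1 hwc (memT.mp htT) htc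
  -- the orbit
  by_contra hout
  set x0 := c * z * c⁻¹ with hx0
  haveI := Fintype.ofFinite ↥T
  set KT := K.subgroupOf T with hKT
  let zT : ↥T := ⟨z, memT.mpr hez.symm⟩
  let orb : Finset ↥T := Finset.univ.image fun k : ↥T => k * zT * k⁻¹
  let outside := orb.filter fun t : ↥T => (t : G) ∉ K
  have horb : ∀ {t : ↥T}, t ∈ orb → IsConj (t : G) z ∧ (t : G) * t = 1 := by
    intro t ht
    obtain ⟨k, -, rfl⟩ := Finset.mem_image.mp ht
    exact ⟨isc (k := (k : G)), inv2 (k : G)⟩
  have hxT : x0 ∈ T := by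
    rw [hx0]; exact mul_mem (mul_mem (memT.mpr hc) (memT.mpr hez.symm)) (inv_mem (memT.mpr hc))
  have hxout : (⟨x0, hxT⟩ : ↥T) ∈ outside := by
    refine Finset.mem_filter.mpr ⟨Finset.mem_image.mpr ⟨⟨c, memT.mpr hc⟩, Finset.mem_univ _, rfl⟩, fun h => ?_⟩
    exact hout (hB (hx0 ▸ isc) (hx0 ▸ inv2 c) h)
  -- sizes
  have hstab : Nat.card ↥(LG ⊓ Subgroup.centralizer ({z} : Set G)) = 64 := X.card_cz
  have hrelL : A.relIndex LG = 315 := by
    have he : A.subgroupOf LG = (LG ⊓ Subgroup.centralizer ({z} : Set G)).subgroupOf LG := by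
      ext k
      simp only [Subgroup.mem_subgroupOf, hA, Subgroup.mem_inf, k.2, hLT k.2, true_and]
    have := Subgroup.index_mul_card (A.subgroupOf LG)
    rw [he, Nat.card_congr (Subgroup.subgroupOfEquivOfLe inf_le_left).toEquiv, hstab, X.card_L] at this
    rw [Subgroup.relIndex, he]
    omega
  have hAT : A ≤ T := inf_le_left
  have hKT' : K ≤ T := inf_le_left
  have horbc : orb.card = A.relIndex T := by
    have heq : ∀ k k' : ↥T, k * zT * k⁻¹ = k' * zT * k'⁻¹ ↔ k⁻¹ * k' ∈ A.subgroupOf T := by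
      intro k k'
      rw [Subgroup.mem_subgroupOf, hA, Subgroup.mem_inf]
      constructor
      · intro h
        have h' : (k : G) * z * (k : G)⁻¹ = k' * z * (k' : G)⁻¹ := congrArg Subtype.val h
        refine ⟨(k⁻¹ * k').2, Subgroup.mem_centralizer_singleton_iff.mpr ?_⟩
        show (k : G)⁻¹ * k' * z = z * ((k : G)⁻¹ * k')
        calc (k : G)⁻¹ * k' * z = (k : G)⁻¹ * (k' * z * (k' : G)⁻¹) * k' := by group
          _ = (k : G)⁻¹ * (k * z * (k : G)⁻¹) * k' := by rw [h']
          _ = _ := by group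
      · rintro ⟨-, h⟩
        have h' : (k : G)⁻¹ * k' * z = z * ((k : G)⁻¹ * k') := Subgroup.mem_centralizer_singleton_iff.mp h
        refine Subtype.ext ?_
        show (k : G) * z * (k : G)⁻¹ = k' * z * (k' : G)⁻¹
        calc (k : G) * z * (k : G)⁻¹ = k * (z * ((k : G)⁻¹ * k')) * (k' : G)⁻¹ := by group
          _ = k * ((k : G)⁻¹ * k' * z) * (k' : G)⁻¹ := by rw [h']
          _ = _ := by group
    let φ : ↥T ⧸ A.subgroupOf T → ↥T := Quotient.lift (fun k => k * zT * k⁻¹)
      fun k k' h => (heq k k').mpr (QuotientGroup.leftRel_apply.mp h)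
    have hφ : Function.Injective φ := by
      intro u w h
      induction u using QuotientGroup.induction_on with
      | _ u =>
        induction w using QuotientGroup.induction_on with
        | _ w => exact QuotientGroup.eq.mpr ((heq u w).mp h)
    haveI := Fintype.ofFinite (↥T ⧸ A.subgroupOf T)
    have : orb = Finset.univ.image φ := by
      ext t
      simp only [orb, Finset.mem_image, Finset.mem_univ, true_and]
      exact ⟨fun ⟨k, hk⟩ => ⟨(k : ↥T ⧸ A.subgroupOf T), hk⟩, fun ⟨u, hu⟩ => by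
        induction u using QuotientGroup.induction_on with
        | _ k => exact ⟨k, hu⟩⟩
    rw [this, Finset.card_image_of_injective _ hφ, Finset.card_univ, ← Nat.card_eq_fintype_card]
    rfl
  have hin : (orb.filter fun t : ↥T => (t : G) ∈ K).card ≤ 315 := by
    haveI := Fintype.ofFinite (↥LG ⧸ A.subgroupOf LG)
    let ψ : ↥LG ⧸ A.subgroupOf LG → ↥T := Quotient.lift
      (fun l => ⟨(l : G) * z * (l : G)⁻¹, mul_mem (mul_mem (hLT l.2) (memT.mpr hez.symm)) (inv_mem (hLT l.2))⟩)
      fun l l' h => by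
        have hm : (l : G)⁻¹ * l' ∈ A :=
          Subgroup.mem_subgroupOf.mp (QuotientGroup.leftRel_apply.mp h)
        have h' : (l : G)⁻¹ * l' * z = z * ((l : G)⁻¹ * l') :=
          Subgroup.mem_centralizer_singleton_iff.mp (Subgroup.mem_inf.mp hm).2
        refine Subtype.ext ?_
        show (l : G) * z * (l : G)⁻¹ = l' * z * (l' : G)⁻¹
        calc (l : G) * z * (l : G)⁻¹ = l * (z * ((l : G)⁻¹ * l')) * (l' : G)⁻¹ := by group
          _ = l * ((l : G)⁻¹ * l' * z) * (l' : G)⁻¹ := by rw [h']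
          _ = _ := by group
    calc (orb.filter fun t : ↥T => (t : G) ∈ K).card ≤ (Finset.univ.image ψ).card := by
          refine Finset.card_le_card fun t ht => ?_
          obtain ⟨ht, htK⟩ := Finset.mem_filter.mp ht
          obtain ⟨htc, ht2⟩ := horb ht
          have ht1 : (t : G) ≠ 1 := fun h => by
            rw [h] at htc
            exact H.st.ne_one (isConj_one_right.mp htc)
          obtain ⟨l, hl, e1⟩ := X.invol_conj (hB htc ht2 htK) ht2 ht1
          exact Finset.mem_image.mpr ⟨((⟨l, hl⟩ : ↥LG) : ↥LG ⧸ A.subgroupOf LG), Finset.mem_univ _, Subtype.ext e1⟩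
      _ ≤ Fintype.card (↥LG ⧸ A.subgroupOf LG) := Finset.card_image_le.trans (by rw [Finset.card_univ])
      _ = 315 := by rw [← Nat.card_eq_fintype_card]; exact hrelL
  set n := K.relIndex T with hn
  have hmul : A.relIndex K * n = A.relIndex T := Subgroup.relIndex_mul_relIndex A K T hAK hKT'
  have hge : 315 ≤ A.relIndex K := hrelL ▸ Subgroup.relIndex_le_of_le_right hLK
    (by rw [Subgroup.relIndex]; exact Subgroup.index_ne_zero_of_finite)
  have hbig : (n - 1) * 315 ≤ outside.card := by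
    have hsplit := Finset.card_filter_add_card_filter_not (s := orb) fun t : ↥T => (t : G) ∈ K
    rw [horbc, ← hmul] at hsplit
    have : n * 315 ≤ A.relIndex K * n := by rw [mul_comm n]; exact Nat.mul_le_mul_right n hge
    rw [Nat.sub_mul, one_mul]
    show n * 315 - 315 ≤ (orb.filter fun t : ↥T => (t : G) ∉ K).card
    omega
  -- a large fibre
  haveI := Fintype.ofFinite (↥T ⧸ KT)
  let target : Finset (↥T ⧸ KT) := Finset.univ.erase ((1 : ↥T) : ↥T ⧸ KT)
  have hmap : ∀ t ∈ outside, ((t : ↥T) : ↥T ⧸ KT) ∈ target := by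
    intro t ht
    refine Finset.mem_erase.mpr ⟨fun h => (Finset.mem_filter.mp ht).2 ?_, Finset.mem_univ _⟩
    have := QuotientGroup.eq.mp h
    rw [mul_one, inv_mem_iff] at this
    exact Subgroup.mem_subgroupOf.mp this
  have htc : target.card = n - 1 := by
    rw [Finset.card_erase_of_mem (Finset.mem_univ _), Finset.card_univ, ← Nat.card_eq_fintype_card]
    rfl
  obtain ⟨u, hu, hfib⟩ := Finset.exists_le_card_fiber_of_mul_le_card_of_maps_to
    (f := fun t : ↥T => ((t : ↥T) : ↥T ⧸ KT)) (t := target) hmap ⟨_, hmap _ hxout⟩ (n := 315) (by rw [htc]; exact hbig)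
  obtain ⟨x1, hx1⟩ := Finset.card_pos.mp (show 0 < (outside.filter fun t : ↥T => ((t : ↥T) : ↥T ⧸ KT) = u).card by omega)
  obtain ⟨hx1o, hx1u⟩ := Finset.mem_filter.mp hx1
  obtain ⟨hx1c, hx12⟩ := horb (Finset.mem_filter.mp hx1o).1
  set X0 : G := (x1 : G) with hX0
  set D := K ⊓ K.comap (MulAut.conj X0).toMonoidHom with hD
  have hDbig : 315 ≤ Nat.card D := by
    refine hfib.trans ?_
    have hkey : ∀ t ∈ outside.filter (fun t : ↥T => ((t : ↥T) : ↥T ⧸ KT) = u), X0⁻¹ * (t : G) ∈ D := by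
      intro t ht
      obtain ⟨hto, htu⟩ := Finset.mem_filter.mp ht
      obtain ⟨-, ht2⟩ := horb (Finset.mem_filter.mp hto).1
      have hk : X0⁻¹ * (t : G) ∈ K :=
        Subgroup.mem_subgroupOf.mp (QuotientGroup.eq.mp (hx1u.trans htu.symm))
      refine Subgroup.mem_inf.mpr ⟨hk, ?_⟩
      show X0 * (X0⁻¹ * (t : G)) * X0⁻¹ ∈ K
      have := inv_mem hk
      rwa [mul_inv_rev, inv_inv, inv_eq_of_mul_eq_one_right ht2, show (t : G) * X0 = X0 * (X0⁻¹ * (t : G)) * X0 by group,
        show X0 * (X0⁻¹ * (t : G)) * X0 = X0 * (X0⁻¹ * (t : G)) * X0⁻¹ by rw [inv_eq_of_mul_eq_one_right hx12]] at this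
    haveI := Fintype.ofFinite ↥D
    rw [Nat.card_eq_fintype_card]
    refine Finset.card_le_card_of_injOn (fun t : ↥T => if h : X0⁻¹ * (t : G) ∈ D then (⟨_, h⟩ : ↥D) else 1)
      (fun t _ => Finset.mem_univ _) fun t ht t' ht' h => ?_
    simp only [dif_pos (hkey t ht), dif_pos (hkey t' ht')] at h
    exact Subtype.ext (mul_left_cancel (congrArg Subtype.val h))
  set O := LG ⊓ D with hO
  have hOeight : Nat.card D ≤ 8 * Nat.card O := by
    have h1 : (LG).relIndex D ≤ (LG).relIndex K := Subgroup.relIndex_le_of_le_right inf_le_left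
      (by rw [Subgroup.relIndex]; exact Subgroup.index_ne_zero_of_finite)
    have h8 : (LG).relIndex K ≤ 8 := by
      have cover : ∀ k ∈ K, ∃ w ∈ vList y e, ∃ u ∈ [1, r], k * (w * u)⁻¹ ∈ LG := by
        intro k hk
        obtain ⟨hkT, hkN⟩ := Subgroup.mem_inf.mp hk
        obtain ⟨l, hl, hlz⟩ := X.invol_conj ((Subgroup.mem_normalizer_iff.mp hkN z).mp m1) (inv2 k)
          fun h => H.st.ne_one (conj_eq_one_iff.mp h)
        have hm : l⁻¹ * k ∈ A := by
          refine Subgroup.mem_inf.mpr ⟨mul_mem (inv_mem (hLT hl)) hkT, Subgroup.mem_centralizer_singleton_iff.mpr ?_⟩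
          calc l⁻¹ * k * z = l⁻¹ * (k * z * k⁻¹) * k := by group
            _ = l⁻¹ * (l * z * l⁻¹) * k := by rw [hlz]
            _ = _ := by group
        obtain ⟨w, hw, u, hu, hm⟩ := hdec hm
        exact ⟨w, hw, u, hu, by
          rw [show k * (w * u)⁻¹ = l * (l⁻¹ * k * (w * u)⁻¹) by group]; exact mul_mem hl hm⟩
      have hcard : Nat.card K ≤ 8 * Nat.card LG := by
        let reps : List G := (vList y e).flatMap fun w => [w * 1, w * r]
        have hr : reps.length = 8 := by simp [reps, vList]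
        let f : ↥LG × Fin 8 → G := fun t => t.1 * reps[t.2.val]'(by rw [hr]; exact t.2.isLt)
        have : (K : Set G) ⊆ Set.range f := by
          intro k hk
          obtain ⟨w, hw, u, hu, hm⟩ := cover k hk
          have hmem : w * u ∈ reps := by
            simp only [reps, List.mem_flatMap]
            refine ⟨w, hw, ?_⟩
            simp only [List.mem_cons, List.not_mem_nil, or_false] at hu ⊢
            rcases hu with rfl | rfl <;> simp
          obtain ⟨m, hm', he⟩ := List.getElem_of_mem hmem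
          refine ⟨(⟨_, hm⟩, ⟨m, hr ▸ hm'⟩), ?_⟩
          show k * (w * u)⁻¹ * reps[m] = k
          rw [he, inv_mul_cancel_right]
        calc Nat.card K = (K : Set G).ncard := rfl
          _ ≤ (Set.range f).ncard := Set.ncard_le_ncard this (Set.toFinite _)
          _ ≤ Nat.card (↥LG × Fin 8) := by
            rw [← Nat.card_coe_set_eq]; exact Finite.card_range_le f
          _ = 8 * Nat.card LG := by rw [Nat.card_prod, Nat.card_fin, mul_comm]
      have hk := Subgroup.index_mul_card ((LG).subgroupOf K)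
      rw [Nat.card_congr (Subgroup.subgroupOfEquivOfLe hLK).toEquiv] at hk
      exact Nat.le_of_mul_le_mul_right (c := Nat.card LG) (by rw [Subgroup.relIndex, hk]; exact hcard) Nat.card_pos
    have hd := Subgroup.index_mul_card ((LG).subgroupOf D)
    rw [show Nat.card ↥((LG).subgroupOf D) = Nat.card O by
      rw [← Subgroup.inf_subgroupOf_right]
      exact Nat.card_congr (Subgroup.subgroupOfEquivOfLe inf_le_right).toEquiv] at hd
    rw [← hd]
    exact Nat.mul_le_mul_right _ (h1.trans h8)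
  refine X.no_large F hF (O := O) inf_le_left (Nat.not_even_iff_odd.mp fun hev => ?_) (by omega)
  haveI : Fact (Nat.Prime 2) := ⟨Nat.prime_two⟩
  obtain ⟨j, hj⟩ := exists_prime_orderOf_dvd_card' (G := ↥O) 2 (even_iff_two_dvd.mp hev)
  rw [← Subgroup.orderOf_coe] at hj
  obtain ⟨hjL, hjD⟩ := Subgroup.mem_inf.mp j.2
  have j2 : (j : G) * j = 1 := Invol.mul_self_of_orderOf_two hj
  have j1 : (j : G) ≠ 1 := Invol.ne_one_of_orderOf_two hj
  obtain ⟨h, hh, hhj⟩ := X.invol_conj hjL j2 j1
  have hj' : X0 * (j : G) * X0⁻¹ ∈ LG := by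
    refine hB ?_ ?_ (Subgroup.mem_inf.mp hjD).2
    · rw [← hhj, show X0 * (h * z * h⁻¹) * X0⁻¹ = (X0 * h) * z * (X0 * h)⁻¹ by group]
      exact isc
    · rw [show X0 * (j : G) * X0⁻¹ * (X0 * (j : G) * X0⁻¹) = X0 * ((j : G) * j) * X0⁻¹ by group, j2]; group
  obtain ⟨w, hw, hw2, hw1, hwc⟩ := exists_fixed_invol hx12 hjL j2 j1 hj'
  exact (Finset.mem_filter.mp hx1o).2 (hLK (X.conj_in hw hw2 hw1 hwc (memT.mp x1.2) hx1c))

/-- The centraliser of the second involution lies in every subgroup containing the two others. -/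
theorem cent_e_le (F : Type) [Field F] [Fintype F] (hF : Fintype.card F = 9) {M : Subgroup G}
    (hy : ∀ c, Commute c y → c ∈ M) (hz : ∀ c, Commute c z → c ∈ M) {c : G} (hc : Commute c e) : c ∈ M := by
  have hm := X.conj_z_mem F hF hc
  have H := X.facts.2
  obtain ⟨l, hl, he⟩ := X.invol_conj hm
    (by rw [show c * z * c⁻¹ * (c * z * c⁻¹) = c * (z * z) * c⁻¹ by group, H.st.zz]; group)
    fun h => H.st.ne_one (conj_eq_one_iff.mp h)
  rw [show c = l * (l⁻¹ * c) by group]
  refine mul_mem (hy l (mem_uG.mp (X.L_le hl)).1) (hz _ ?_)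
  show l⁻¹ * c * z = z * (l⁻¹ * c)
  calc l⁻¹ * c * z = l⁻¹ * (c * z * c⁻¹) * c := by group
    _ = l⁻¹ * (l * z * l⁻¹) * c := by rw [he]
    _ = _ := by group

end EC

end CfsgLib.SuzUnique
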