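import Cfsg.Agent.Lib.SuzUnique.EndLG

/-!
The local group has no large subgroup of odd order.
-/

set_option autoImplicit false
set_option maxHeartbeats 1000000
set_option linter.style.haveILetI false

namespace CfsgLib.SuzUnique

open CfsgLib.SuzType CfsgLib.SuzThree CfsgLib.Extraspecial CfsgLib.Extraspecial.Pair CfsgLib.CosetEnum
open CfsgLib.UFourType (gen9 triv9 inv9)

variable {G : Type*} [Group G] [Finite G] {z y i p a s d e b d' g x : G} {Q : Subgroup G} {v : G → V6} {C : UCase}

namespace EC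

variable {E : ECase} (X : EC z Q v y i p a s d e C b d' g x E)
include X

local notation "W" => prodW (gen9 i p a s d)
local notation "LG" => lG z (W wb1) (W wa2) g b d'

variable (F : Type) [Field F] [Fintype F] (hF : Fintype.card F = 9)
include hF

theorem exists_embed : ∃ f : ↥LG →* Cfsg.PSU 4 F 3, Function.Injective f := by
  obtain ⟨S, H⟩ := X.facts
  set B := Subgroup.zpowers y with hB
  set C' := Subgroup.centralizer (B : Set G) with hC
  have memC : ∀ c, c ∈ C' ↔ Commute c y := by
    intro c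
    rw [hC, hB, Subgroup.zpowers_eq_closure, Subgroup.centralizer_closure, Subgroup.mem_centralizer_singleton_iff]
    rfl
  haveI hnorm : (B.subgroupOf C').Normal := ⟨fun n hn c => by
    have h := Subgroup.mem_centralizer_iff.mp c.2 _ (show (n : G) ∈ B from hn)
    have e : c * n * c⁻¹ = n := Subtype.ext (by
      show (c : G) * (n : G) * (c : G)⁻¹ = (n : G)
      rw [← h, mul_inv_cancel_right])
    rw [e]; exact hn⟩
  obtain ⟨-, ⟨iso⟩, -⟩ := CfsgLib.SuzThree.conclusion S.yd hB F hF
  have hle : LG ≤ C' := fun k hk => (memC k).mpr (mem_uG.mp (X.L_le hk)).1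
  let f0 : ↥LG →* ↥C' ⧸ B.subgroupOf C' := (QuotientGroup.mk' _).comp (Subgroup.inclusion hle)
  have h0 : Function.Injective f0 := by
    rw [← MonoidHom.ker_eq_bot_iff, eq_bot_iff]
    intro k hk
    have hk' : (k : G) ∈ B := by
      have : ((Subgroup.inclusion hle k : ↥C') : ↥C' ⧸ B.subgroupOf C') = 1 := MonoidHom.mem_ker.mp hk
      exact (QuotientGroup.eq_one_iff (N := B.subgroupOf C') _).mp this
    exact Subgroup.mem_bot.mpr (Subtype.ext (uG_meet S.y3 X.gg.vd.v1 (X.L_le k.2) hk'))
  exact ⟨iso.toMonoidHom.comp f0, iso.injective.comp h0⟩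

/-- No large subgroup of odd order. -/
theorem no_large {O : Subgroup G} (hO : O ≤ LG) (hodd : Odd (Nat.card O)) (h40 : 40 ≤ Nat.card O) : False := by
  classical
  obtain ⟨f, hf⟩ := X.exists_embed F hF
  have h5513 := Cfsg.Agent.S5513.result F hF
  have h7 : ∀ k l : ↥LG, orderOf k = 7 → Commute k l → l ∈ Subgroup.zpowers k := by
    intro k l hk hkl
    obtain ⟨-, hc⟩ := h5513 (Subgroup.zpowers (f k)) (by rw [Nat.card_zpowers, orderOf_injective f hf, hk])
    have hm : f l ∈ Subgroup.centralizer ((Subgroup.zpowers (f k) : Subgroup (Cfsg.PSU 4 F 3)) : Set (Cfsg.PSU 4 F 3)) := by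
      rw [Subgroup.zpowers_eq_closure, Subgroup.centralizer_closure, Subgroup.mem_centralizer_singleton_iff]
      exact (hkl.symm.map f).eq
    rw [hc, ← MonoidHom.map_zpowers] at hm
    obtain ⟨l', hl', e⟩ := hm
    exact hf e ▸ hl'
  have hN : ∀ k : ↥LG, orderOf k = 7 → ∀ P : Subgroup ↥LG, (∀ o ∈ P, o * k * o⁻¹ ∈ Subgroup.zpowers k) →
      Nat.card P ≤ 21 := by
    intro k hk P hP
    obtain ⟨hn, -⟩ := h5513 (Subgroup.zpowers (f k)) (by rw [Nat.card_zpowers, orderOf_injective f hf, hk])
    rw [← hn, Nat.card_congr (P.equivMapOfInjective f hf).toEquiv]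
    refine Subgroup.card_le_of_le ?_
    rintro _ ⟨o, ho, rfl⟩
    rw [← MonoidHom.map_zpowers]
    refine Subgroup.mem_normalizer_iff.mpr fun u => ?_
    have key : ∀ w ∈ Subgroup.zpowers k, o * w * o⁻¹ ∈ Subgroup.zpowers k := fun w hw => by
      obtain ⟨m, rfl⟩ := Subgroup.mem_zpowers_iff.mp hw
      rw [← conj_zpow]
      exact zpow_mem (hP o ho) m
    constructor
    · rintro ⟨w, hw, rfl⟩
      exact ⟨o * w * o⁻¹, key w hw, by simp⟩
    · rintro ⟨w, hw, e⟩
      obtain ⟨w', hw', e'⟩ : ∃ w' ∈ Subgroup.zpowers k, o * w' * o⁻¹ = w := by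
        let c : ↥(Subgroup.zpowers k) → ↥(Subgroup.zpowers k) := fun t => ⟨o * t * o⁻¹, key _ t.2⟩
        have hc : Function.Injective c := fun t t' h => Subtype.ext (by simpa [c] using h)
        obtain ⟨t, ht⟩ := (Finite.injective_iff_surjective.mp hc) ⟨w, hw⟩
        exact ⟨t, t.2, congrArg Subtype.val ht⟩
      exact ⟨w', hw', by rw [← e', map_mul, map_mul, map_inv] at e; exact mul_left_cancel (mul_right_cancel e)⟩
  set P := O.subgroupOf LG with hPdef
  have hPc : Nat.card P = Nat.card O := Nat.card_congr (Subgroup.subgroupOfEquivOfLe hO).toEquiv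
  have hd : Nat.card O ∣ 315 := by
    have h := Subgroup.card_subgroup_dvd_card P
    rw [hPc, X.card_L, show (20160 : ℕ) = 64 * 315 by norm_num] at h
    exact (Nat.Coprime.dvd_mul_left (((Nat.coprime_two_right.mpr hodd).pow_right 6 : Nat.Coprime _ (2 ^ 6)))).mp h
  have hle := Nat.le_of_dvd (by norm_num) hd
  have : Nat.card O = 45 ∨ Nat.card O = 63 ∨ Nat.card O = 105 ∨ Nat.card O = 315 := by
    have hm : Nat.card O ∈ Nat.divisors 315 := Nat.mem_divisors.mpr ⟨hd, by norm_num⟩
    rw [show Nat.divisors 315 = {1, 3, 5, 7, 9, 15, 21, 35, 45, 63, 105, 315} by decide] at hm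
    simp only [Finset.mem_insert, Finset.mem_singleton] at hm
    omega
  have h2 : ∀ j t : ↥LG, j * j = 1 → j ≠ 1 → orderOf t = 5 → Commute j t → False := fun j t hj hj1 ht hc =>
    X.five_free j.2 t.2 (congrArg Subtype.val hj) (fun e => hj1 (Subtype.ext e))
      (by rw [Subgroup.orderOf_coe]; exact ht) (hc.map (LG).subtype)
  rw [← hPc] at this
  rcases this with h | h | h | h
  · exact no_fortyfive h7 X.card_L h2 h
  · have := seven_normal hN (O := P) (K := P) le_rfl (fun o ho k hk => mul_mem (mul_mem ho hk) (inv_mem ho)) (Or.inr h)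
    omega
  · exact no_five_seven h7 hN (Or.inl h)
  · exact no_five_seven h7 hN (Or.inr h)

end EC

end CfsgLib.SuzUnique
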