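import Cfsg.Agent.Lib.SuzUnique.CaseWords
import Cfsg.Agent.Lib.SuzUnique.CentE
import Cfsg.Agent.Lib.SuzUnique.EndData

/-!
Checks on the centraliser of the four-group and of the second class of involutions.
-/

set_option autoImplicit false
set_option maxRecDepth 100000
set_option maxHeartbeats 4000000

namespace CfsgLib.SuzUnique

open CfsgLib.SuzType CfsgLib.SuzThree
open CfsgLib.UFourType (triv9 inv9)

/-- a word in the five generators -/
def UCase.w5 (C : UCase) (ix : List ℕ) : List ℕ :=
  (ix.map fun j => ([[0, 0], C.wB, wb1, wa2, C.wG] : List (List ℕ)).getD j []).flatten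

/-- the elements of the normal part, as words in the five generators -/
def qIx : List (List ℕ) :=
  [[], [4]].flatMap fun d => [[], [3]].flatMap fun c => [[], [2]].flatMap fun b => [[], [0]].map fun a => a ++ b ++ c ++ d

/-- the sixty-four elements -/
def sIx (E : ECase) : List (List ℕ) :=
  qIx.flatMap fun q => [[], E.t1, E.t2, E.t1 ++ E.t2].map fun t => q ++ t

/-- a word giving the identity or a conjugate of the first generator -/
noncomputable def conjOK (C : UCase) (w kw : List ℕ) : Bool :=
  triv9 w || !(triv9 (w ++ w)) || eqv (C.w5 kw ++ [0, 0] ++ inv9 (C.w5 kw)) w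

/-- all pairs of different positions give different elements -/
noncomputable def distinctOK : List (List ℕ) → Bool
  | [] => true
  | w :: ws => ws.all (fun w' => !(triv9 (inv9 w ++ w'))) && distinctOK ws

/-- the four actions inside -/
def uAct : List Lin := [L1, SW23, T2, comp SW23 T2]

/-- the actions of the four-group -/
def vAct : List Lin := [L1, F1, rotC F1, rotC (rotC F1)]

/-- the action of the element exchanging two involutions of the four-group -/
def UCase.rM (C : UCase) : Lin := comp (linW (inv9 C.hw)) C.dM

/-- a singular involutive action -/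
def singI (L : Lin) : Bool := eqL (comp L L) L1 && all64 fun w => !(qf (xr (app L w) w))

/-- the factorisation of the thirty-two actions -/
noncomputable def actOK (C : UCase) : Bool :=
  c2List.all (fun L => uAct.any fun u => vAct.any fun M => eqL L (comp u M) || eqL L (comp u (comp M C.rM))) &&
    uAct.all fun u => vAct.all fun M => !(singI (comp u (comp M C.rM)))

/-- the generators of the local group and the two lifts as short words -/
noncomputable def endBase (C : UCase) (E : ECase) : Bool :=
  Nat.beq E.gix.length C.gens.length && ((C.gens.zip E.gix).all fun x => eqv x.1 (C.w5 x.2)) &&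
    eqv wt1 (C.w5 E.t1) && eqv wt2 (C.w5 E.t2) &&
    (([[0, 0], C.wB, wb1, wa2, C.wG] : List (List ℕ)).all fun u => u.all fun l => Nat.blt l 9) &&
    Nat.beq E.kws.length (sIx E).length

/-- a piece of the conjugacy check -/
noncomputable def endConjAt (C : UCase) (E : ECase) (k : ℕ) : Bool :=
  (((sIx E).zip E.kws).drop (16 * k)).take 16 |>.all fun x => conjOK C (C.w5 x.1) x.2

/-- the sixty-four elements are different -/
noncomputable def endDist (C : UCase) (E : ECase) : Bool := distinctOK ((sIx E).map C.w5)

/-- elements of orders seven and three -/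
noncomputable def endOrd (C : UCase) (E : ECase) : Bool :=
  triv9 (rep 7 (C.w5 E.o7)) && !(triv9 (C.w5 E.o7)) &&
    triv9 (rep 3 (C.w5 E.ta)) && triv9 (rep 3 (C.w5 E.tb)) &&
    triv9 (C.w5 E.ta ++ C.w5 E.tb ++ inv9 (C.w5 E.ta) ++ inv9 (C.w5 E.tb)) &&
    !(triv9 (C.w5 E.ta)) && !(triv9 (C.w5 E.tb)) && !(triv9 (C.w5 E.ta ++ C.w5 E.tb)) &&
    !(triv9 (C.w5 E.ta ++ C.w5 E.ta ++ C.w5 E.tb))

/-- the fifth generator inside the extraspecial group and a conjugate generator -/
noncomputable def endG (C : UCase) (E : ECase) : Bool :=
  (E.gs.all fun u => low u) && exact1 (rep 2 (E.gs.map fun u => u ++ [0] ++ inv9 u).flatten) &&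
    eqL (linW (E.gs.map fun u => u ++ [0] ++ inv9 u).flatten) L1 &&
    low (E.gs.map fun u => u ++ [0] ++ inv9 u).flatten &&
    eqv C.wG (E.gs.map fun u => u ++ [0] ++ inv9 u).flatten &&
    (let g := E.gs.foldr (fun u w => xr (app (linW u) 3) w) 0; g == 15 || g == 5) &&
    eqv (inv9 C.hw ++ C.wX ++ C.hw) (C.flat E.hc)

/-- the checks on a case -/
structure EndOK (C : UCase) (E : ECase) : Prop where
  base : endBase C E = true
  conj : ∀ k < 4, endConjAt C E k = true
  dist : endDist C E = true
  ord : endOrd C E = true
  gfive : endG C E = true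
  act : actOK C = true

end CfsgLib.SuzUnique
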