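import Cfsg.Agent.Lib.SuzUnique.Stab

/-!
A four-group centralising the first elementary group.
-/

set_option autoImplicit false
set_option maxRecDepth 100000
set_option maxHeartbeats 1000000

namespace CfsgLib.SuzUnique

open CfsgLib.SuzType CfsgLib.SuzThree CfsgLib.Extraspecial CfsgLib.CosetEnum
open CfsgLib.UFourType (gen9)

/-- first vector word -/
def wa1 : List ℕ := [0, 6, 0, 6]
/-- second vector word -/
def wb1 : List ℕ := [2, 0, 3, 6, 2, 0, 3, 6]
/-- third generator word -/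
def wt1 : List ℕ := [6]
/-- first vector word of the second group -/
def wa2 : List ℕ := [0, 2, 0, 3, 6, 0, 6]
/-- second vector word of the second group -/
def wb2 : List ℕ := [6, 0, 6, 6, 2, 0, 3, 6, 0]
/-- third generator word of the second group -/
def wt2 : List ℕ := [3, 4, 6, 2]

/-- a change of coordinates -/
def GX : Lin := ⟨1, 27, 44, 60, 13, 21⟩

theorem e_one : eOK wa1 wb1 wt1 15 10 SW23 [F1, F2, F3] = true := by decide +kernel

theorem e_two : eOK wa2 wb2 wt2 2 8 T2 [F1, G2, G3] = true := by decide +kernel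

theorem exist_facts : Good GX ∧ eqL (comp GX MA) (comp F1 GX) = true ∧ app GX 35 = 15 ∧ app GX 15 = 10 ∧
    qf 16 = true ∧ app MA 16 = 16 ∧ app L0 16 = 32 ∧ bf 16 3 = false ∧ bf 16 12 = false ∧ bf 16 32 = true ∧
    app SW23 3 = 12 ∧ app L2 3 = 13 ∧ app SW23 13 = 7 ∧ xr 3 32 = 35 ∧ xr 3 12 = 15 ∧ xr 13 7 = 10 ∧
    eqL (comp F1 (rotC F1)) (rotC (rotC F1)) = true ∧ eqL (comp (rotC (rotC F1)) (rotC (rotC F1))) L1 = true ∧
    eqL F1 L1 = false ∧ xr 16 (xr 32 (app L0 32)) = 0 ∧ xr (xr 3 13) 12 = 2 ∧ xr (xr 12 7) 3 = 8 := by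
  decide +kernel

variable {G : Type*} [Group G] [Finite G] {z y i p a s d : G} {Q : Subgroup G} {v : G → V6}

namespace SF

variable (S : SF z Q v y i p a s d)
include S

theorem vecs : v (prodW (gen9 i p a s d) wa1) = 15 ∧ v (prodW (gen9 i p a s d) wb1) = 10 ∧
    v (prodW (gen9 i p a s d) wa2) = 2 ∧ v (prodW (gen9 i p a s d) wb2) = 8 := by
  have H := S.co
  obtain ⟨-, -, -, -, -, -, -, -, -, -, s3, p3, s13, -, e15, e10, -, -, -, -, e2, e8⟩ := exist_facts
  have si : s⁻¹ = s := inv_eq_of_mul_eq_one_right S.ss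
  have iQ := S.iQ.1
  have sz := (mem_Cz.mp S.sC).1
  have pz := (mem_Cz.mp S.pC).1
  set j := p * i * p⁻¹ with hj
  set k := s * i * s⁻¹ with hk
  set l := s * j * s⁻¹ with hl
  have jQ : j ∈ Q := H.conj_mem pz iQ
  have kQ : k ∈ Q := H.conj_mem sz iQ
  have lQ : l ∈ Q := H.conj_mem sz jQ
  have vj : v j = 13 := by rw [hj, S.pA i iQ, S.iv, p3]
  have vk : v k = 12 := by rw [hk, S.sA i iQ, S.iv, s3]
  have vl : v l = 7 := by rw [hl, S.sA j jQ, vj, s13]
  have a1 : prodW (gen9 i p a s d) wa1 = i * k := by simp [wa1, prodW, gen9, hk, si, mul_assoc]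
  have b1 : prodW (gen9 i p a s d) wb1 = j * l := by simp [wb1, prodW, gen9, hj, hl, si, mul_assoc]
  have a2 : prodW (gen9 i p a s d) wa2 = i * j * k := by simp [wa2, prodW, gen9, hj, hk, si, mul_assoc]
  have b2 : prodW (gen9 i p a s d) wb2 = k * l * i := by simp [wb2, prodW, gen9, hj, hl, hk, si, mul_assoc, S.ss]
  refine ⟨?_, ?_, ?_, ?_⟩
  · rw [a1, H.mul _ iQ _ kQ, S.iv, vk, e15]
  · rw [b1, H.mul _ jQ _ lQ, vj, vl, e10]
  · rw [a2, H.mul _ (mul_mem iQ jQ) _ kQ, H.mul _ iQ _ jQ, S.iv, vj, vk, e2]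
  · rw [b2, H.mul _ (mul_mem kQ lQ) _ iQ, H.mul _ kQ _ lQ, vk, vl, S.iv, e8]

theorem eD1 : ED z Q v y (prodW (gen9 i p a s d) wa1) (prodW (gen9 i p a s d) wb1) (prodW (gen9 i p a s d) wt1) 15 10
    SW23 [F1, F2, F3] := S.eD e_one S.vecs.1 S.vecs.2.1

theorem eD2 : ED z Q v y (prodW (gen9 i p a s d) wa2) (prodW (gen9 i p a s d) wb2) (prodW (gen9 i p a s d) wt2) 2 8
    T2 [F1, G2, G3] := S.eD e_two S.vecs.2.2.1 S.vecs.2.2.2

theorem a_inv_i : a * i * a⁻¹ = i⁻¹ := by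
  have e := S.exact_spec (show exact1 [4, 0, 5, 0] = true by decide +kernel)
  refine eq_inv_of_mul_eq_one_left ?_
  simpa [prodW, gen9, mul_assoc] using e

theorem a_conj_s : a * s * a⁻¹ = z * s := by
  have e := S.exact_spec (show exact1 [4, 6, 5, 6, 1, 1] = true by decide +kernel)
  simp [prodW, gen9] at e
  calc a * s * a⁻¹ = (a * (s * (a⁻¹ * (s * (i⁻¹ * i⁻¹))))) * ((i * i) * s⁻¹) := by group
    _ = z * s := by rw [e, one_mul, S.ii, inv_eq_of_mul_eq_one_right S.ss]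

theorem exists_v1 : ∃ v1, IsV z y (prodW (gen9 i p a s d) wa1) (prodW (gen9 i p a s d) wb1) v1 ∧ Act Q v v1 F1 := by
  have H := S.co
  obtain ⟨hG, hGM, g35, g15, q16t, m16, r16, b3, b12, b32, s3, -, -, e35, e15, -, f1, f2, f3, e0, -, -⟩ := exist_facts
  have si : s⁻¹ = s := inv_eq_of_mul_eq_one_right S.ss
  have zz : z * z = 1 := H.st.zz
  obtain ⟨haz, hay⟩ := mem_Cz.mp S.aC
  have sz := (mem_Cz.mp S.sC).1
  have yz : Commute y z := S.yd.yz
  obtain ⟨q, hq, hqv⟩ := H.surj 16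
  have hqq : q * q = z := (H.st.sq_cases hq).resolve_left fun h => by
    have := H.singular hq h
    rw [hqv, q16t] at this
    exact absurd this (by decide)
  set q1 := y * q * y⁻¹ with hq1
  have hq1Q : q1 ∈ Q := H.conj_mem yz hq
  have hq1v : v q1 = 32 := by rw [hq1, S.yd.act q hq, hqv, r16]
  have ayz : Commute a y⁻¹ := hay.inv_right
  have conjy : ∀ x, a * (y * x * y⁻¹) * a⁻¹ = y * (a * x * a⁻¹) * y⁻¹ := fun x => by
    calc a * (y * x * y⁻¹) * a⁻¹ = (a * y) * x * (a * y)⁻¹ := by group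
      _ = (y * a) * x * (y * a)⁻¹ := by rw [hay.eq]
      _ = _ := by group
  have hzq : ∀ {x}, x ∈ Q → x * z = z * x := fun hx => H.commute_z hx
  have haq : a * q * a⁻¹ = q := by
    rcases H.eq_or (H.conj_mem haz hq) hq (by rw [S.aA q hq, hqv]; exact m16) with e | e
    · exact e
    exfalso
    set q2 := y * q1 * y⁻¹ with hq2
    have hq2Q : q2 ∈ Q := H.conj_mem yz hq1Q
    have hyzc : ∀ x, y * (z * x) * y⁻¹ = z * (y * x * y⁻¹) := fun x => by
      rw [← mul_assoc y z x, yz.eq]; group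
    have e1 : a * q1 * a⁻¹ = z * q1 := by rw [hq1, conjy, e, hyzc]
    have e2 : a * q2 * a⁻¹ = z * q2 := by rw [hq2, conjy, e1, hyzc]
    set c := q * q1 * q2 with hc
    have hcv : v c = 0 := by
      rw [hc, H.mul _ (mul_mem hq hq1Q) _ hq2Q, H.mul _ hq _ hq1Q, hqv, hq1v, hq2, S.yd.act q1 hq1Q, hq1v, xr_assoc, e0]
    have hac : a * c * a⁻¹ = c := by
      rcases (H.zero c (mul_mem (mul_mem hq hq1Q) hq2Q)).mp hcv with h | h <;> rw [h]
      · group
      · rw [haz, mul_inv_cancel_right]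
    have : a * c * a⁻¹ = z * c := by
      calc a * c * a⁻¹ = (a * q * a⁻¹) * (a * q1 * a⁻¹) * (a * q2 * a⁻¹) := by rw [hc]; group
        _ = z * (q * z) * q1 * (z * q2) := by rw [e, e1, e2]; group
        _ = z * z * q * (q1 * z) * q2 := by rw [hzq hq]; group
        _ = (q * z) * q1 * q2 := by rw [zz, hzq hq1Q]; group
        _ = z * c := by rw [hzq hq, hc]; group
    rw [hac] at this
    exact H.st.ne_one (mul_eq_right.mp this.symm)
  set x := a * q with hx
  have hx2 : x * x = 1 := by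
    have haq' : Commute a q := commute_of_conj_eq haq
    rw [hx, haq'.symm.mul_mul_mul_comm, S.aa, hqq, zz]
  have hxz : Commute x z := (show Commute a z from haz).mul_left (hzq hq)
  have hxA : Act Q v x MA := by
    have := act_mul H (hzq hq) S.aA (act_inner H hq)
    rwa [comp_L1] at this
  have qconj : ∀ g, g ∈ Q → bf 16 (v g) = false → x * g * x⁻¹ = a * g * a⁻¹ := fun g hg hb => by
    have c : Commute q g := (H.comm _ hq _ hg).mp (by rw [hqv]; exact hb)
    rw [hx, show a * q * g * (a * q)⁻¹ = a * (q * g * q⁻¹) * a⁻¹ by group, c.eq, mul_inv_cancel_right]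
  have iinv : i⁻¹ = z * i := inv_eq_of_mul_eq_one_right (by
    rw [← mul_assoc, hzq S.iQ.1, mul_assoc, S.ii, zz])
  set k := s * i * s⁻¹ with hk
  have kQ : k ∈ Q := H.conj_mem sz S.iQ.1
  have kv : v k = 12 := by rw [hk, S.sA i S.iQ.1, S.iv, s3]
  have xi : x * i * x⁻¹ = z * i := by rw [qconj i S.iQ.1 (by rw [S.iv]; exact b3), S.a_inv_i, iinv]
  have xk : x * k * x⁻¹ = z * k := by
    rw [qconj k kQ (by rw [kv]; exact b12), hk,
      show a * (s * i * s⁻¹) * a⁻¹ = (a * s * a⁻¹) * (a * i * a⁻¹) * (a * s * a⁻¹)⁻¹ by group, S.a_conj_s, S.a_inv_i, iinv]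
    calc z * s * (z * i) * (z * s)⁻¹ = z * ((s * z) * i * s⁻¹) * z⁻¹ := by group
      _ = z * (z * (s * i * s⁻¹)) * z⁻¹ := by rw [sz]; group
      _ = z * (s * i * s⁻¹) := by
        rw [← mul_assoc, zz, one_mul, inv_eq_of_mul_eq_one_right zz, hzq kQ]
  have xq1 : x * q1 * x⁻¹ = z * q1 := by
    have hb : q * q1 * q⁻¹ = z * q1 := (H.st.comm_cases hq hq1Q).resolve_left fun h => by
      have := (H.comm _ hq _ hq1Q).mpr (mul_inv_eq_iff_eq_mul.mp h)
      rw [hqv, hq1v, b32] at this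
      exact absurd this (by decide)
    rw [hx, show a * q * q1 * (a * q)⁻¹ = a * (q * q1 * q⁻¹) * a⁻¹ by group, hb, ← mul_assoc a z q1, haz,
      show z * a * q1 * a⁻¹ = z * (a * q1 * a⁻¹) by group, hq1, conjy, haq]
  have pairc : ∀ g h, g ∈ Q → h ∈ Q → x * g * x⁻¹ = z * g → x * h * x⁻¹ = z * h → Commute x (g * h) := by
    intro g h hg hh e e'
    refine commute_of_conj_eq ?_
    calc x * (g * h) * x⁻¹ = (x * g * x⁻¹) * (x * h * x⁻¹) := by group
      _ = z * (g * z) * h := by rw [e, e']; group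
      _ = z * z * (g * h) := by rw [hzq hg]; group
      _ = g * h := by rw [zz, one_mul]
  obtain ⟨c, hcz, hcA⟩ := H.real GX hG
  set v0 := c * x * c⁻¹ with hv0
  have hv0A : Act Q v v0 F1 := act_conj H hcz hxz.eq hG hcA hxA (rel_eq hGM)
  have hv0z : Commute v0 z := ((show Commute c z from hcz).mul_left hxz).mul_left (show Commute c z from hcz).inv_left
  have hv02 : v0 * v0 = 1 := by
    rw [hv0, show c * x * c⁻¹ * (c * x * c⁻¹) = c * (x * x) * c⁻¹ by group, hx2]; group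
  have conjc : ∀ g h w, g ∈ Q → Commute x g → v (c * g * c⁻¹) = w → h ∈ Q → v h = w → Commute v0 h := by
    intro g h w hg hxg hw hh hhw
    have h0 : Commute v0 (c * g * c⁻¹) := by
      have := hxg.map (MulAut.conj c)
      rwa [MulAut.conj_apply, MulAut.conj_apply] at this
    rcases H.eq_or hh (H.conj_mem hcz hg) (hhw.trans hw.symm) with e | e <;> rw [e]
    · exact h0
    · exact hv0z.mul_right h0
  have E := S.eD1
  have ca : Commute v0 (prodW (gen9 i p a s d) wa1) :=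
    conjc (i * q1) _ 15 (mul_mem S.iQ.1 hq1Q) (pairc i q1 S.iQ.1 hq1Q xi xq1)
      (by rw [hcA _ (mul_mem S.iQ.1 hq1Q), H.mul _ S.iQ.1 _ hq1Q, S.iv, hq1v, e35, g35]) E.aQ.1 S.vecs.1
  have cb : Commute v0 (prodW (gen9 i p a s d) wb1) :=
    conjc (i * k) _ 10 (mul_mem S.iQ.1 kQ) (pairc i k S.iQ.1 kQ xi xk)
      (by rw [hcA _ (mul_mem S.iQ.1 kQ), H.mul _ S.iQ.1 _ kQ, S.iv, kv, e15, g15]) E.bQ.1 S.vecs.2.1
  obtain ⟨v1, h, hA⟩ := E.exists_isV hv02 hv0z ca cb (M := F1) (by simp [nine]) hv0A (rel_eq f1) (rel_eq f2) f3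
  exact ⟨v1, h, hA⟩

end SF

end CfsgLib.SuzUnique
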