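import Cfsg.Agent.Lib.SuzUnique.Words
import Cfsg.Agent.Lib.SuzUnique.FourData

/-!
Four-groups centralising an elementary group of order sixteen.
-/

set_option autoImplicit false
set_option maxRecDepth 100000
set_option maxHeartbeats 1000000

namespace CfsgLib.SuzUnique

open CfsgLib.SuzType CfsgLib.SuzThree CfsgLib.Extraspecial

variable {G : Type*} [Group G] [Finite G] {z y : G} {Q : Subgroup G} {v : G → V6}

/-- the elementary group -/
structure ED (z : G) (Q : Subgroup G) (v : G → V6) (y qa qb t : G) (va vb : V6) (T : Lin) (reps : List Lin) : Prop where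
  yd : YD z Q v y
  aQ : qa ∈ Qy Q y
  bQ : qb ∈ Qy Q y
  av : v qa = va
  bv : v qb = vb
  tC : t ∈ Cz z y
  t2 : t * t = 1
  tA : Act Q v t T
  ta : Commute t qa
  tb : Commute t qb
  ok : fourOK va vb T reps = true

/-- the defining properties of an involution of the four-group -/
def IsV (z y qa qb v0 : G) : Prop :=
  v0 * v0 = 1 ∧ v0 ≠ 1 ∧ Commute v0 z ∧ Commute v0 qa ∧ Commute v0 qb ∧
    v0 * (y * v0 * y⁻¹) = y * y * v0 * (y * y)⁻¹

/-- membership in the four-group -/
def InV (y v0 x : G) : Prop := x = v0 ∨ x = y * v0 * y⁻¹ ∨ x = y * y * v0 * (y * y)⁻¹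

omit [Finite G] in
theorem IsV.shift {qa qb v0 : G} (h : IsV z y qa qb v0) (hyz : Commute y z) (ha : Commute y qa) (hb : Commute y qb) :
    IsV z y qa qb (y * v0 * y⁻¹) := by
  obtain ⟨h1, h2, hz, ca, cb, hp⟩ := h
  refine ⟨?_, fun e => h2 (conj_eq_one_iff.mp e), (hyz.mul_left hz).mul_left hyz.inv_left, (ha.mul_left ca).mul_left ha.inv_left,
    (hb.mul_left cb).mul_left hb.inv_left, ?_⟩
  · rw [show y * v0 * y⁻¹ * (y * v0 * y⁻¹) = y * (v0 * v0) * y⁻¹ by group, h1]; group
  · calc y * v0 * y⁻¹ * (y * (y * v0 * y⁻¹) * y⁻¹) = y * (v0 * (y * v0 * y⁻¹)) * y⁻¹ := by group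
      _ = y * (y * y * v0 * (y * y)⁻¹) * y⁻¹ := by rw [hp]
      _ = _ := by group

namespace ED

variable {qa qb t : G} {va vb : V6} {T : Lin} {reps : List Lin} (E : ED z Q v y qa qb t va vb T reps)
include E

theorem co : Co z Q v := E.yd.co

theorem parts : nineOK va vb (nine reps) = true ∧
    (va ≠ 0 ∧ vb ≠ 0 ∧ va ≠ vb ∧ qf va = false ∧ qf vb = false ∧ bf va vb = false ∧ va.1 < 16 ∧ vb.1 < 16) ∧
    (∀ M ∈ nine reps, comp M T = comp T M ∧ app M va = va ∧ app M vb = vb) ∧
    comp T L0 = comp L0 T ∧ comp T T = L1 ∧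
    (∀ w, perp va vb w = true → app T w = w ∧ (qf w = false → inSpan va vb w = true) ∧
      (app L0 w = w → inSpan va vb w = true)) ∧
    (∀ M ∈ nine reps, ∀ w, perp va vb w = true → (app M w = app L0 w → inSpan va vb w = true) ∧
      (app M w = w → ∀ w', perp va vb w' = true → app M w' = w' →
        inSpan va vb w = true ∨ inSpan va vb w' = true ∨ inSpan va vb (xr w w') = true)) := by
  have h := E.ok
  simp only [fourOK, all64, Bool.and_eq_true, List.all_eq_true, List.mem_finRange, forall_const, Bool.or_eq_true,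
    Bool.not_eq_true', beq_iff_eq, beq_eq_false_iff_ne, ne_eq, decide_eq_true_eq] at h
  obtain ⟨⟨⟨⟨⟨⟨h1, h2⟩, h3⟩, h4⟩, h5⟩, h6⟩, h7⟩ := h
  obtain ⟨⟨⟨⟨⟨⟨⟨a1, a2⟩, a3⟩, a4⟩, a5⟩, a6⟩, a7⟩, a8⟩ := h2
  refine ⟨h1, ⟨a1, a2, a3, a4, a5, a6, a7, a8⟩, fun M hM => ⟨rel_eq (h3 M hM).1.1, (h3 M hM).1.2, (h3 M hM).2⟩,
    rel_eq h4, rel_eq h5, fun w hw => ?_, fun M hM w hw => ?_⟩
  · rcases h6 w with h | ⟨⟨hT, hq⟩, hl⟩
    · rw [hw] at h; simp at h
    · refine ⟨hT, fun e => hq.resolve_left (by rw [e]; simp), fun e => hl.resolve_left fun h => h e⟩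
  · rcases h7 M hM w with h | ⟨hl, hp⟩
    · rw [hw] at h; simp at h
    · refine ⟨fun e => hl.resolve_left fun h => h e, fun e w' hw' e' => ?_⟩
      rcases hp with (h | h) | h
      · exact absurd e h
      · exact Or.inl h
      · rcases h w' with ((h' | h') | h') | h'
        · rw [hw'] at h'; simp at h'
        · exact absurd e' h'
        · exact Or.inr (Or.inl h')
        · exact Or.inr (Or.inr h')

theorem ya : Commute y qa := (Subgroup.mem_centralizer_singleton_iff.mp E.aQ.2 : qa * y = y * qa).symm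

theorem yb : Commute y qb := (Subgroup.mem_centralizer_singleton_iff.mp E.bQ.2 : qb * y = y * qb).symm

theorem yt : Commute y t := (mem_Cz.mp E.tC).2.symm

theorem perp_of {r : G} (hr : r ∈ Q) (ha : Commute r qa) (hb : Commute r qb) : perp va vb (v r) = true := by
  have H := E.co
  have h1 := (H.comm r hr qa E.aQ.1).mpr ha
  have h2 := (H.comm r hr qb E.bQ.1).mpr hb
  rw [E.av] at h1; rw [E.bv] at h2
  simp [perp, h1, h2]

/-- elements of the orthogonal part with singular image lie in the low part and square to one -/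
theorem span_spec {r : G} (hr : r ∈ Q) (h : inSpan va vb (v r) = true) : Commute y r ∧ r * r = 1 := by
  have H := E.co
  obtain ⟨-, ⟨-, -, -, qa', qb', ab, la, lb⟩, -⟩ := E.parts
  simp only [inSpan, Bool.or_eq_true, beq_iff_eq] at h
  have hlow : (v r).1 < 16 ∧ qf (v r) = false := by
    rcases h with ((h | h) | h) | h <;> rw [h]
    · exact ⟨by decide, qf_zero⟩
    · exact ⟨la, qa'⟩
    · exact ⟨lb, qb'⟩
    · refine ⟨?_, by rw [qf_xr, qa', qb', ab]; rfl⟩
      exact Nat.xor_lt_two_pow (n := 4) la lb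
  exact ⟨(E.yd.commute_iff hr).mpr hlow.1, (H.sq r hr).mp hlow.2⟩

theorem mem_nine {M : Lin} (hM : Good M) (h2 : comp M M = L1) (hne : comp M L0 ≠ comp L0 M)
    (hp : comp M (rotC M) = rotC (rotC M)) (ha : app M va = va) (hb : app M vb = vb) : M ∈ nine reps := by
  obtain ⟨u1, u2, u3, u4, u5⟩ := app_units M
  have hqb := Iso.bf_eq hM.1
  have hnz : ∀ w : V6, w ≠ 0 → app M w ≠ 0 := fun w hw e => hw (iso_inj hM.1 (e.trans (app_zero M).symm))
  have hlow : ∀ w : V6, w.1 < 16 → app ⟨M.c0, M.c1, M.c2, M.c3, 0, 0⟩ w = app M w := by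
    have key : ∀ w : V6, w.1 < 16 → cb w 4 = false ∧ cb w 5 = false := by decide +kernel
    intro w hw
    obtain ⟨k4, k5⟩ := key w hw
    simp only [app, k4, k5, sel, cond_false]
  obtain ⟨hN, ⟨-, -, -, -, -, -, la, lb⟩, -⟩ := E.parts
  simp only [nineOK, all64, List.all_eq_true, List.mem_finRange, forall_const, Bool.or_eq_true,
    Bool.not_eq_true', beq_iff_eq, beq_eq_false_iff_ne, ne_eq] at hN
  have f0 : qf M.c0 = false := by rw [← app_one, hM.1]; decide
  have f1 : qf M.c1 = false := by rw [← u1, hM.1]; decide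
  have f2 : qf M.c2 = false := by rw [← u2, hM.1]; decide
  have f3 : qf M.c3 = false := by rw [← u3, hM.1]; decide
  have f4 : qf M.c4 = true := by rw [← u4, hM.1]; decide
  have f5 : qf M.c5 = true := by rw [← u5, hM.1]; decide
  have n0 : M.c0 ≠ 0 := by rw [← app_one]; exact hnz 1 (by decide)
  have n2 : M.c2 ≠ 0 := by rw [← u2]; exact hnz 4 (by decide)
  have b01 : bf M.c0 M.c1 = true := by rw [← app_one, ← u1, hqb]; decide
  have b02 : bf M.c0 M.c2 = false := by rw [← app_one, ← u2, hqb]; decide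
  have b12 : bf M.c1 M.c2 = false := by rw [← u1, ← u2, hqb]; decide
  have b23 : bf M.c2 M.c3 = true := by rw [← u2, ← u3, hqb]; decide
  have b03 : bf M.c0 M.c3 = false := by rw [← app_one, ← u3, hqb]; decide
  have b13 : bf M.c1 M.c3 = false := by rw [← u1, ← u3, hqb]; decide
  have b04 : bf M.c0 M.c4 = false := by rw [← app_one, ← u4, hqb]; decide
  have b14 : bf M.c1 M.c4 = false := by rw [← u1, ← u4, hqb]; decide
  have b24 : bf M.c2 M.c4 = false := by rw [← u2, ← u4, hqb]; decide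
  have b34 : bf M.c3 M.c4 = false := by rw [← u3, ← u4, hqb]; decide
  have b05 : bf M.c0 M.c5 = false := by rw [← app_one, ← u5, hqb]; decide
  have b15 : bf M.c1 M.c5 = false := by rw [← u1, ← u5, hqb]; decide
  have b25 : bf M.c2 M.c5 = false := by rw [← u2, ← u5, hqb]; decide
  have b35 : bf M.c3 M.c5 = false := by rw [← u3, ← u5, hqb]; decide
  have b45 : bf M.c4 M.c5 = true := by rw [← u4, ← u5, hqb]; decide
  have a0 := (hlow va la).trans ha
  have a1 := (hlow vb lb).trans hb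
  have k := hN M.c0
  simp only [f0, n0, Bool.false_eq_true, false_or] at k
  have k := k M.c1
  simp only [f1, b01, Bool.false_eq_true, Bool.true_eq_false, false_or] at k
  have k := k M.c2
  simp only [f2, n2, b02, b12, Bool.false_eq_true, false_or] at k
  have k := k M.c3
  simp only [f3, b23, b03, b13, a0, a1, not_true_eq_false, Bool.false_eq_true, Bool.true_eq_false, false_or] at k
  have k := k M.c4
  simp only [f4, b04, b14, b24, b34, Bool.false_eq_true, Bool.true_eq_false, false_or] at k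
  have k := k M.c5
  simp only [f5, b45, b05, b15, b25, b35, Bool.false_eq_true, Bool.true_eq_false, false_or] at k
  simp only [candOK, Bool.or_eq_true, Bool.not_eq_true', List.any_eq_true] at k
  rcases k with ((k | k) | k) | ⟨N, hN', k⟩
  · exact absurd (eqL_iff.mpr h2) (by simpa using k)
  · exact absurd (rel_eq k) hne
  · exact absurd (eqL_iff.mpr hp) (by simpa using k)
  · exact (show M = N from rel_eq k) ▸ hN'

theorem act_v {v0 : G} (h : IsV z y qa qb v0) : ∃ M ∈ nine reps, Act Q v v0 M ∧ comp M M = L1 := by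
  have H := E.co
  obtain ⟨h1, hne, hz, ca, cb, hp⟩ := h
  obtain ⟨M, hMg, hM⟩ := act_exists H hz.eq
  have hMM : comp M M = L1 := act_unique H (act_mul H hz.eq hM hM) (by rw [h1]; exact act_inner H (one_mem Q))
  have hfa : ∀ q, q ∈ Q → Commute v0 q → app M (v q) = v q := fun q hq c => by
    rw [← hM q hq, c.eq, mul_inv_cancel_right]
  have ha : app M va = va := by rw [← E.av]; exact hfa _ E.aQ.1 ca
  have hb : app M vb = vb := by rw [← E.bv]; exact hfa _ E.bQ.1 cb
  have hyi : Commute y⁻¹ z := (show Commute y z from E.yd.yz).inv_left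
  have hyy : (y * y) * z = z * (y * y) := ((show Commute y z from E.yd.yz).mul_left E.yd.yz).eq
  have hy2 : Act Q v y⁻¹ (comp L0 L0) := by
    rw [show y⁻¹ = y * y from (eq_inv_of_mul_eq_one_left E.yd.cube).symm]
    exact act_mul H E.yd.yz E.yd.act E.yd.act
  have hr1 : Act Q v (y * v0 * y⁻¹) (rotC M) := act_mul H hyi.eq (act_mul H hz.eq E.yd.act hM) hy2
  have hr1z : Commute (y * v0 * y⁻¹) z := ((show Commute y z from E.yd.yz).mul_left hz).mul_left hyi
  have hr2 : Act Q v (y * y * v0 * (y * y)⁻¹) (rotC (rotC M)) := by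
    rw [show y * y * v0 * (y * y)⁻¹ = y * (y * v0 * y⁻¹) * y⁻¹ by group]
    exact act_mul H hyi.eq (act_mul H hr1z.eq E.yd.act hr1) hy2
  have hprod : comp M (rotC M) = rotC (rotC M) :=
    act_unique H (act_mul H hr1z.eq hM hr1) (by rw [hp]; exact hr2)
  refine ⟨M, E.mem_nine hMg hMM (fun hc => ?_) hprod ha hb, hM, hMM⟩
  have hY : rotC M = M := by
    refine lin_ext fun w => ?_
    have e := congrArg (fun A => app A (app L0 (app L0 w))) hc.symm
    simp only [app_comp] at e
    rw [rotC]; simp only [app_comp]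
    rw [e, act_cube H E.yd.yz E.yd.cube E.yd.act]
  rw [hY, hY, hMM] at hprod
  have hq : v0 ∈ Q := act_mem H hz.eq (hprod.symm ▸ hM)
  obtain ⟨-, -, -, -, -, hperp, -⟩ := E.parts
  obtain ⟨-, hsp, -⟩ := hperp _ (E.perp_of hq ca cb)
  obtain ⟨hy', -⟩ := E.span_spec hq (hsp ((H.sq _ hq).mpr h1))
  refine hne ?_
  rw [hy'.eq, mul_inv_cancel_right, h1, (hy'.mul_left hy').eq, mul_inv_cancel_right] at hp
  exact hp.symm

/-- an element of the orthogonal part fixed by the third generator -/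
theorem t_fix {q : G} (hq : q ∈ Q) (ha : Commute q qa) (hb : Commute q qb) (h2 : q * q = 1) : inSpan va vb (v q) = true := by
  obtain ⟨-, -, -, -, -, hperp, -⟩ := E.parts
  exact (hperp _ (E.perp_of hq ha hb)).2.1 ((E.co.sq q hq).mpr h2)

theorem t_comm_perp {q : G} (hq : q ∈ Q) (ha : Commute q qa) (hb : Commute q qb) : Commute t q := by
  have H := E.co
  obtain ⟨-, -, -, -, -, hperp, -⟩ := E.parts
  have yy := E.yt
  have htz := (mem_Cz.mp E.tC).1
  have fixed : ∀ r, r ∈ Q → Commute r qa → Commute r qb → t * r * t⁻¹ = r ∨ t * r * t⁻¹ = z * r := by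
    intro r hr ra rb
    refine H.eq_or (H.conj_mem htz hr) hr ?_
    rw [E.tA r hr, (hperp _ (E.perp_of hr ra rb)).1]
  set q1 := y * q * y⁻¹ with hq1
  have hq1Q : q1 ∈ Q := H.conj_mem E.yd.yz hq
  have h1a : Commute q1 qa := (E.ya.mul_left ha).mul_left E.ya.inv_left
  have h1b : Commute q1 qb := (E.yb.mul_left hb).mul_left E.yb.inv_left
  rcases fixed q hq ha hb with e | e
  · exact commute_of_conj_eq e
  exfalso
  have e1 : t * q1 * t⁻¹ = z * q1 := by
    have hyz : y * z = z * y := E.yd.yz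
    have h' : t * q1 * t⁻¹ = y * (t * q * t⁻¹) * y⁻¹ := by
      calc t * q1 * t⁻¹ = (t * y) * q * (t * y)⁻¹ := by rw [hq1]; group
        _ = (y * t) * q * (y * t)⁻¹ := by rw [yy.eq]
        _ = _ := by group
    rw [h', e, show y * (z * q) * y⁻¹ = (y * z) * q * y⁻¹ by group, hyz, hq1]
    group
  set m := q * q1 with hm
  have em : t * m * t⁻¹ = m := by
    have cq : q * z = z * q := H.commute_z hq
    calc t * m * t⁻¹ = (t * q * t⁻¹) * (t * q1 * t⁻¹) := by rw [hm]; group
      _ = z * (q * z) * q1 := by rw [e, e1]; group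
      _ = z * z * (q * q1) := by rw [cq]; group
      _ = m := by rw [H.st.zz, one_mul]
  have hmQ : m ∈ Q := mul_mem hq hq1Q
  have hma : Commute m qa := ha.mul_left h1a
  have hmb : Commute m qb := hb.mul_left h1b
  -- the product with the second rotation image lies in the span
  set r := m * (y * q1 * y⁻¹) with hr
  have hq2Q : y * q1 * y⁻¹ ∈ Q := H.conj_mem E.yd.yz hq1Q
  have hrQ : r ∈ Q := mul_mem hmQ hq2Q
  have e2 : t * (y * q1 * y⁻¹) * t⁻¹ = z * (y * q1 * y⁻¹) := by
    calc t * (y * q1 * y⁻¹) * t⁻¹ = (t * y) * q1 * (t * y)⁻¹ := by group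
      _ = (y * t) * q1 * (y * t)⁻¹ := by rw [yy.eq]
      _ = y * (t * q1 * t⁻¹) * y⁻¹ := by group
      _ = (y * z) * q1 * y⁻¹ := by rw [e1]; group
      _ = _ := by rw [E.yd.yz]; group
  have er : t * r * t⁻¹ = z * r := by
    calc t * r * t⁻¹ = (t * m * t⁻¹) * (t * (y * q1 * y⁻¹) * t⁻¹) := by rw [hr]; group
      _ = m * z * (y * q1 * y⁻¹) := by rw [em, e2, ← mul_assoc]
      _ = _ := by rw [H.commute_z hmQ, hr, mul_assoc]
  have hra : Commute r qa := hma.mul_left ((E.ya.mul_left h1a).mul_left E.ya.inv_left)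
  have hrb : Commute r qb := hmb.mul_left ((E.yb.mul_left h1b).mul_left E.yb.inv_left)
  have hvy : ∀ g ∈ Q, v (y * g * y⁻¹) = app L0 (v g) := E.yd.act
  have hfix : app L0 (v r) = v r := by
    have c3 := act_cube H E.yd.yz E.yd.cube E.yd.act (v q)
    rw [hr, hm, H.mul _ (mul_mem hq hq1Q) _ hq2Q, H.mul _ hq _ hq1Q, hvy _ hq1Q, hq1, hvy _ hq]
    simp only [app_xr, c3]
    haveI : Std.Associative xr := ⟨xr_assoc⟩
    haveI : Std.Commutative xr := ⟨xr_comm⟩
    ac_rfl
  have hin := (hperp _ (E.perp_of hrQ hra hrb)).2.2 hfix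
  have hc : Commute t r := by
    simp only [inSpan, Bool.or_eq_true, beq_iff_eq] at hin
    have key : ∀ g ∈ Q, Commute t g → v r = v g → Commute t r := fun g hg c e => by
      rcases H.eq_or hrQ hg e with e' | e' <;> rw [e']
      · exact c
      · exact (show Commute t z from htz).mul_right c
    rcases hin with ((h | h) | h) | h
    · exact key 1 (one_mem Q) (Commute.one_right t) (h.trans H.v_one.symm)
    · exact key qa E.aQ.1 E.ta (h.trans E.av.symm)
    · exact key qb E.bQ.1 E.tb (h.trans E.bv.symm)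
    · exact key (qa * qb) (mul_mem E.aQ.1 E.bQ.1) (E.ta.mul_right E.tb)
        (h.trans (by rw [H.mul _ E.aQ.1 _ E.bQ.1, E.av, E.bv]))
  rw [hc.eq, mul_inv_cancel_right] at er
  exact H.st.ne_one (mul_eq_right.mp er.symm)

theorem comm_t {v0 : G} (h : IsV z y qa qb v0) : Commute v0 t := by
  have H := E.co
  obtain ⟨M, hM, hMA, hMM⟩ := E.act_v h
  obtain ⟨-, -, h9, -, hTT, hperp, -⟩ := E.parts
  obtain ⟨h1, -, hz, ca, cb, hp⟩ := h
  have htz : Commute t z := (mem_Cz.mp E.tC).1
  have htt := E.t2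
  set r := v0 * t * v0 * t with hr
  have hrz : Commute r z := ((hz.mul_left htz).mul_left hz).mul_left htz
  have hrA : Act Q v r L1 := by
    have h := act_mul H htz.eq (act_mul H hz.eq (act_mul H htz.eq hMA E.tA) hMA) E.tA
    have e : comp (comp (comp M T) M) T = L1 := by
      rw [(h9 M hM).1, comp_assoc T M M, hMM, comp_L1, hTT]
    rwa [e] at h
  have hrQ : r ∈ Q := act_mem H hrz.eq hrA
  have hra : Commute r qa := ((ca.mul_left E.ta).mul_left ca).mul_left E.ta
  have hrb : Commute r qb := ((cb.mul_left E.tb).mul_left cb).mul_left E.tb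
  have hrt : Commute t r := E.t_comm_perp hrQ hra hrb
  have hr2 : r * r = 1 := by
    have e : t * r * t = r := by rw [hrt.eq, mul_assoc, htt, mul_one]
    calc r * r = r * (t * r * t) := by rw [e]
      _ = (v0 * t * v0) * (t * t) * (v0 * t * v0) * (t * t) := by rw [hr]; group
      _ = v0 * t * (v0 * v0) * t * v0 := by rw [htt]; group
      _ = v0 * (t * t) * v0 := by rw [h1]; group
      _ = 1 := by rw [htt, mul_one, h1]
  have hry : Commute y r := (E.span_spec hrQ (E.t_fix hrQ hra hrb hr2)).1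
  have hrv : Commute v0 r := by
    refine commute_of_conj_eq ?_
    calc v0 * r * v0⁻¹ = (v0 * v0) * t * v0 * t * v0⁻¹ := by rw [hr]; group
      _ = t * v0 * t * v0 := by rw [h1, inv_eq_of_mul_eq_one_right h1, one_mul]
      _ = (v0 * t * v0 * t)⁻¹ := by
        simp only [mul_inv_rev, inv_eq_of_mul_eq_one_right h1, inv_eq_of_mul_eq_one_right htt, mul_assoc]
      _ = r := by rw [← hr]; exact inv_eq_of_mul_eq_one_right hr2
  set w := y * v0 * y⁻¹ with hw
  have hrw : w * t * w * t = r := by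
    calc w * t * w * t = y * v0 * (y⁻¹ * t) * y * v0 * (y⁻¹ * t) := by rw [hw]; group
      _ = y * v0 * (t * y⁻¹) * y * v0 * (t * y⁻¹) := by rw [E.yt.inv_left.eq]
      _ = y * r * y⁻¹ := by rw [hr]; group
      _ = r := by rw [hry.eq, mul_inv_cancel_right]
  have hrx : (v0 * w) * t * (v0 * w) * t = r := by
    rw [hp]
    have hyy : Commute (y * y) t := E.yt.mul_left E.yt
    calc y * y * v0 * (y * y)⁻¹ * t * (y * y * v0 * (y * y)⁻¹) * t
        = y * y * v0 * ((y * y)⁻¹ * t) * (y * y) * v0 * ((y * y)⁻¹ * t) := by group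
      _ = y * y * v0 * (t * (y * y)⁻¹) * (y * y) * v0 * (t * (y * y)⁻¹) := by rw [hyy.inv_left.eq]
      _ = y * y * r * (y * y)⁻¹ := by rw [hr]; group
      _ = r := by rw [(hry.mul_left hry).eq, mul_inv_cancel_right]
  have h' : (v0 * w) * t * (v0 * w) * t = r * r := by
    have e1 : w * t = r * (t * w) := by
      have hwi : w * w = 1 := by rw [hw, show y * v0 * y⁻¹ * (y * v0 * y⁻¹) = y * (v0 * v0) * y⁻¹ by group, h1]; group
      calc w * t = (w * t * w * t) * (t⁻¹ * w⁻¹) := by group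
        _ = _ := by rw [hrw, inv_eq_of_mul_eq_one_right hwi, inv_eq_of_mul_eq_one_right htt]
    calc (v0 * w) * t * (v0 * w) * t = v0 * (w * t) * (v0 * w) * t := by group
      _ = (v0 * r) * t * (w * v0) * w * t := by rw [e1]; group
      _ = (r * v0) * t * (v0 * w) * w * t := by
        have hwv : w * v0 = v0 * w := by
          have hwi : w * w = 1 := by rw [hw, show y * v0 * y⁻¹ * (y * v0 * y⁻¹) = y * (v0 * v0) * y⁻¹ by group, h1]; group
          have hx2 : (v0 * w) * (v0 * w) = 1 := by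
            rw [hp, show y * y * v0 * (y * y)⁻¹ * (y * y * v0 * (y * y)⁻¹) = y * y * (v0 * v0) * (y * y)⁻¹ by group, h1]
            group
          calc w * v0 = w⁻¹ * v0⁻¹ := by rw [inv_eq_of_mul_eq_one_right hwi, inv_eq_of_mul_eq_one_right h1]
            _ = (v0 * w)⁻¹ := by group
            _ = v0 * w := inv_eq_of_mul_eq_one_right hx2
        rw [hrv.eq, hwv]
      _ = r * (v0 * t * v0) * (w * w) * t := by group
      _ = r * r := by
        rw [show w * w = y * (v0 * v0) * y⁻¹ by rw [hw]; group, h1, hr]; group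
  rw [hrx, hr2] at h'
  refine mul_inv_eq_iff_eq_mul.mp ?_
  rw [inv_eq_of_mul_eq_one_right h1]
  calc v0 * t * v0 = r * t⁻¹ := by rw [hr]; group
    _ = t := by rw [h', one_mul, inv_eq_of_mul_eq_one_right htt]

/-- Three involutions with the same action cannot be distinct. -/
theorem three {v1 v2 v3 : G} {M : Lin} (h1 : IsV z y qa qb v1) (h2 : IsV z y qa qb v2) (h3 : IsV z y qa qb v3)
    (a1 : Act Q v v1 M) (a2 : Act Q v v2 M) (a3 : Act Q v v3 M) : v1 = v2 ∨ v1 = v3 ∨ v2 = v3 := by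
  have H := E.co
  obtain ⟨M', hM', hA', -⟩ := E.act_v h1
  obtain rfl : M' = M := act_unique H hA' a1
  obtain ⟨-, -, -, -, -, -, hmov⟩ := E.parts
  have diff : ∀ u u', IsV z y qa qb u → IsV z y qa qb u' → Act Q v u M' → Act Q v u' M' →
      ∃ r ∈ Q, u' = u * r ∧ perp va vb (v r) = true ∧ app M' (v r) = v r ∧ (inSpan va vb (v r) = true → u = u') := by
    rintro u u' ⟨hu2, -, huz, ua, ub, hup⟩ ⟨hu'2, -, hu'z, u'a, u'b, hu'p⟩ hA hA'
    set r := u * u' with hr
    have hrA : Act Q v r L1 := by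
      have := act_mul H hu'z.eq hA hA'
      rwa [act_unique H (act_mul H huz.eq hA hA) (by rw [hu2]; exact act_inner H (one_mem Q))] at this
    have hrQ : r ∈ Q := act_mem H (huz.mul_left hu'z).eq hrA
    have hra := ua.mul_left u'a
    have hrb := ub.mul_left u'b
    have e' : u' = u * r := by rw [hr, ← mul_assoc, hu2, one_mul]
    have hur : u * r * u⁻¹ = r⁻¹ := by
      rw [← e', hr, mul_inv_rev, inv_eq_of_mul_eq_one_right hu2, inv_eq_of_mul_eq_one_right hu'2]
    refine ⟨r, hrQ, e', E.perp_of hrQ hra hrb, by rw [← hA r hrQ, hur, H.v_inv hrQ], fun hin => ?_⟩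
    obtain ⟨hy', hr2⟩ := E.span_spec hrQ hin
    have cu : Commute r u := (commute_of_conj_eq (by rw [hur, inv_eq_of_mul_eq_one_right hr2]) : Commute u r).symm
    have cw : Commute r (y * u * y⁻¹) := (hy'.symm.mul_right cu).mul_right hy'.symm.inv_right
    have el : y * (u * r) * y⁻¹ = y * u * y⁻¹ * r := by
      calc y * (u * r) * y⁻¹ = y * u * (r * y⁻¹) := by group
        _ = y * u * (y⁻¹ * r) := by rw [hy'.symm.inv_right.eq]
        _ = _ := by group
    have er : y * y * (u * r) * (y * y)⁻¹ = y * y * u * (y * y)⁻¹ * r := by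
      calc y * y * (u * r) * (y * y)⁻¹ = y * y * u * (r * (y * y)⁻¹) := by group
        _ = y * y * u * ((y * y)⁻¹ * r) := by rw [(hy'.mul_left hy').symm.inv_right.eq]
        _ = _ := by group
    rw [e', el, er, ← hup, show u * r * (y * u * y⁻¹ * r) = u * (r * (y * u * y⁻¹)) * r by group, cw.eq] at hu'p
    have hr1 : r = 1 := by
      have h' : u * (y * u * y⁻¹) * (r * r) = u * (y * u * y⁻¹) * r := by
        rw [← hu'p]; group
      rw [mul_left_cancel_iff, hr2] at h'
      exact h'.symm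
    rw [e', hr1, mul_one]
  obtain ⟨r, hrQ, e2, hp2, hf2, hs2⟩ := diff v1 v2 h1 h2 a1 a2
  obtain ⟨r', hr'Q, e3, hp3, hf3, hs3⟩ := diff v1 v3 h1 h3 a1 a3
  obtain ⟨r'', hr''Q, e23, -, -, hs23⟩ := diff v2 v3 h2 h3 a2 a3
  rcases (hmov M' hM' _ hp2).2 hf2 _ hp3 hf3 with h | h | h
  · exact Or.inl (hs2 h)
  · exact Or.inr (Or.inl (hs3 h))
  · refine Or.inr (Or.inr (hs23 ?_))
    have : r' = r * r'' := mul_left_cancel (a := v1) (by rw [← e3, e23, e2, mul_assoc])
    rw [this, H.mul _ hrQ _ hr''Q, xr_cancel] at h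
    exact h

/-- A near four-group becomes a four-group. -/
theorem exists_isV {v0 : G} {M : Lin} (h1 : v0 * v0 = 1) (hz : Commute v0 z) (ca : Commute v0 qa) (cb : Commute v0 qb)
    (hM : M ∈ nine reps) (hA : Act Q v v0 M) (hM2 : comp M (rotC M) = rotC (rotC M))
    (hM3 : comp (rotC (rotC M)) (rotC (rotC M)) = L1) (hne : eqL M L1 = false) :
    ∃ v1, IsV z y qa qb v1 ∧ Act Q v v1 M := by
  have H := E.co
  obtain ⟨-, -, -, -, -, -, hmov⟩ := E.parts
  have hyz : Commute y z := E.yd.yz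
  have y3 := E.yd.cube
  have hy2 : Act Q v y⁻¹ (comp L0 L0) := by
    rw [show y⁻¹ = y * y from (eq_inv_of_mul_eq_one_left y3).symm]
    exact act_mul H E.yd.yz E.yd.act E.yd.act
  set v1 := y * v0 * y⁻¹ with hv1
  set v2 := y * v1 * y⁻¹ with hv2
  have z1 : Commute v1 z := (hyz.mul_left hz).mul_left hyz.inv_left
  have z2 : Commute v2 z := (hyz.mul_left z1).mul_left hyz.inv_left
  have A1 : Act Q v v1 (rotC M) := act_mul H hyz.inv_left.eq (act_mul H hz.eq E.yd.act hA) hy2
  have A2 : Act Q v v2 (rotC (rotC M)) := act_mul H hyz.inv_left.eq (act_mul H z1.eq E.yd.act A1) hy2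
  have hv02 : y * v2 * y⁻¹ = v0 := by
    rw [hv2, hv1, show y * (y * (y * v0 * y⁻¹) * y⁻¹) * y⁻¹ = (y * y * y) * v0 * (y * y * y)⁻¹ by group, y3]; group
  have sq1 : v1 * v1 = 1 := by rw [hv1, show y * v0 * y⁻¹ * (y * v0 * y⁻¹) = y * (v0 * v0) * y⁻¹ by group, h1]; group
  have sq2 : v2 * v2 = 1 := by rw [hv2, show y * v1 * y⁻¹ * (y * v1 * y⁻¹) = y * (v1 * v1) * y⁻¹ by group, sq1]; group
  have c1a := (E.ya.mul_left ca).mul_left E.ya.inv_left
  have c1b := (E.yb.mul_left cb).mul_left E.yb.inv_left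
  have c2a := (E.ya.mul_left c1a).mul_left E.ya.inv_left
  have c2b := (E.yb.mul_left c1b).mul_left E.yb.inv_left
  set r := v0 * v1 * v2 with hr
  have hrQ : r ∈ Q := by
    refine act_mem H ((hz.mul_left z1).mul_left z2).eq ?_
    have := act_mul H z2.eq (act_mul H z1.eq hA A1) A2
    rwa [hM2, hM3] at this
  have hra : Commute r qa := (ca.mul_left c1a).mul_left c2a
  have hrb : Commute r qb := (cb.mul_left c1b).mul_left c2b
  have hcyc : v0 * r * v0⁻¹ = y * r * y⁻¹ := by
    calc v0 * r * v0⁻¹ = (v0 * v0) * v1 * v2 * v0⁻¹ := by rw [hr]; group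
      _ = v1 * v2 * v0 := by rw [h1, one_mul, inv_eq_of_mul_eq_one_right h1]
      _ = (y * v0 * y⁻¹) * (y * v1 * y⁻¹) * (y * v2 * y⁻¹) := by rw [hv02]
      _ = _ := by rw [hr]; group
  have hin : inSpan va vb (v r) = true := by
    refine (hmov M hM _ (E.perp_of hrQ hra hrb)).1 ?_
    rw [← hA r hrQ, hcyc, E.yd.act r hrQ]
  obtain ⟨hyr, hr2⟩ := E.span_spec hrQ hin
  have c0 : Commute v0 r := commute_of_conj_eq (by rw [hcyc, hyr.eq, mul_inv_cancel_right])
  have hrzc : Commute r z := H.commute_z hrQ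
  have hA' : Act Q v (v0 * r) M := by
    have := act_mul H hrzc.eq hA (act_inner H hrQ)
    rwa [comp_L1] at this
  have hsq : v0 * r * (v0 * r) = 1 := by
    rw [c0.symm.mul_mul_mul_comm, h1, one_mul, hr2]
  refine ⟨v0 * r, ⟨hsq, fun e => ?_, hz.mul_left hrzc, ca.mul_left hra, cb.mul_left hrb, ?_⟩, hA'⟩
  · rw [e] at hA'
    rw [act_unique H hA' (act_inner H (one_mem Q))] at hne
    exact absurd hne (by decide)
  · have cr1 : Commute r v1 := (hyr.symm.mul_right c0.symm).mul_right hyr.symm.inv_right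
    have cr2 : Commute r v2 := (hyr.symm.mul_right cr1).mul_right hyr.symm.inv_right
    have e1 : y * (v0 * r) * y⁻¹ = v1 * r := by
      calc y * (v0 * r) * y⁻¹ = y * v0 * (r * y⁻¹) := by group
        _ = y * v0 * (y⁻¹ * r) := by rw [hyr.symm.inv_right.eq]
        _ = _ := by rw [hv1]; group
    have e2 : y * y * (v0 * r) * (y * y)⁻¹ = v2 * r := by
      calc y * y * (v0 * r) * (y * y)⁻¹ = y * y * v0 * (r * (y * y)⁻¹) := by group
        _ = y * y * v0 * ((y * y)⁻¹ * r) := by rw [(hyr.mul_left hyr).symm.inv_right.eq]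
        _ = _ := by rw [hv2, hv1]; group
    rw [e1, e2]
    calc v0 * r * (v1 * r) = v0 * (r * v1) * r := by group
      _ = v0 * v1 * (r * r) := by rw [cr1.eq]; group
      _ = v0 * v1 * v2 * (v2 * (r * r)) := by
        calc v0 * v1 * (r * r) = v0 * v1 * (v2 * v2) * (r * r) := by rw [sq2, mul_one]
          _ = _ := by group
      _ = r * v2 := by rw [hr2, mul_one, ← hr]
      _ = v2 * r := cr2.eq

end ED

end CfsgLib.SuzUnique
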