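import Cfsg.Agent.Lib.SuzThree.Class
import Cfsg.Agent.Lib.SuzThree.Quot
import Cfsg.Agent.Lib.SuzThree.Quasi

/-!
Lifts of the nine generators of the centraliser of the element of order three.
-/

set_option autoImplicit false
set_option maxRecDepth 100000
set_option maxHeartbeats 1000000
set_option linter.style.haveILetI false

namespace CfsgLib.SuzUnique

open CfsgLib.SuzType CfsgLib.SuzThree CfsgLib.Extraspecial CfsgLib.CosetEnum
open CfsgLib.UFourType (SL23 sI sU sl_z gen9 triv9 inv9)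

/-- the inversion of the two rotations -/
def MA : Lin := ⟨2, 1, 8, 4, 16, 32⟩

/-- the action of a letter -/
def linG : ℕ → Lin
  | 2 => L2 | 3 => comp L2 L2 | 4 => MA | 5 => MA | 6 => SW23 | _ => L1

/-- the action of a word -/
def linW : List ℕ → Lin
  | [] => L1
  | l :: w => comp (linG l) (linW w)

/-- the lifts and what is used about them -/
structure SF {G : Type*} [Group G] (z : G) (Q : Subgroup G) (v : G → V6) (y i p a s d : G) : Prop where
  yd : YD z Q v y
  iQ : i ∈ Qy Q y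
  iv : v i = 3
  ii : i * i = z
  pC : p ∈ Cz z y
  p3 : p * p * p = 1
  pA : Act Q v p L2
  aC : a ∈ Cz z y
  aa : a * a = z
  aA : Act Q v a MA
  sC : s ∈ Cz z y
  ss : s * s = 1
  sA : Act Q v s SW23
  dy : Commute d y
  eval : ∀ u, triv9 u = true → prodW (gen9 i p a s d) u ∈ Subgroup.zpowers y
  nontriv : ∀ u, (∀ l ∈ u, l < 9) → prodW (gen9 i p a s d) u ∈ Subgroup.zpowers y → triv9 u = true
  gen : ∀ c, Commute c y → ∃ u, (∀ l ∈ u, l < 9) ∧ (prodW (gen9 i p a s d) u)⁻¹ * c ∈ Subgroup.zpowers y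

theorem s_unique : centL.all (fun L => !(eqL (comp L L) L1 && eqL (comp L L2) (comp L3 L)) ||
    eqL L SW23 || eqL (comp (comp L3 L) (comp L3 L3)) SW23 || eqL (comp (comp (comp L3 L3) L) L3) SW23) = true := by
  unfold centL
  decide +kernel

theorem i_unique : centL.all (fun L => !(eqL (comp L L) L1 && eqL (comp L L3) (comp L3 L)) || eqL L L1) = true := by
  unfold centL
  decide +kernel

theorem a_unique : centL.all (fun L => !(eqL (comp L L) L1 && eqL (comp L L2) (comp (comp L2 L2) L) &&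
    (app L 3).1 == 3 && eqL (comp L SW23) (comp SW23 L)) || eqL L MA) = true := by
  unfold centL
  decide +kernel

theorem frame_facts : eqL (comp L3 L2) (comp L2 L3) = true ∧ eqL (comp L3 L0) (comp L0 L3) = true ∧
    eqL (comp L2 L0) (comp L0 L2) = true ∧ app L3 3 = 3 ∧ app (comp L3 L3) 3 = 3 ∧ Good L3 ∧ Good (comp L3 L3) ∧
    eqL (comp L3 (comp L3 L3)) L1 = true ∧ Good L2 ∧ Good (comp L2 L2) ∧
    eqL (comp L2 (comp L2 L2)) L1 = true ∧ eqL (comp (comp L3 L3) L3) L1 = true ∧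
    (∀ w : V6, w.1 < 16 → app L3 w = w → w = 0 ∨ w = 3 ∨ app L2 w = 3 ∨ app (comp L2 L2) w = 3) ∧
    nfix (comp L3 L0) ≠ 16 ∧ nfix (comp L3 (comp L0 L0)) ≠ 16 ∧
    nfix (comp (comp L2 L2) L0) ≠ 16 ∧ nfix (comp (comp L2 L2) (comp L0 L0)) ≠ 16 ∧ nfix L2 = 16 ∧
    eqL (comp (comp L2 L2) L0) (comp L0 (comp L2 L2)) = true ∧
    eqL (comp (comp L3 L3) L0) (comp L0 (comp L3 L3)) = true ∧
    eqL (comp (comp L3 L3) L2) (comp L2 (comp L3 L3)) = true ∧
    eqL (comp (comp L2 L2) L3) (comp L3 (comp L2 L2)) = true := by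
  decide +kernel

theorem as_commute : centL.all (fun M => !(eqL (comp M M) L1) ||
    (!(eqL (comp M SW23) (comp (comp SW23 M) L0)) && !(eqL (comp M SW23) (comp (comp SW23 M) (comp L0 L0))))) = true := by
  unfold centL
  decide +kernel

variable {G : Type*} [Group G] {y : G}

theorem pow_cases (y3 : y * y * y = 1) {n : G} (hn : n ∈ Subgroup.zpowers y) : n = 1 ∨ n = y ∨ n = y * y := by
  obtain ⟨m, rfl⟩ := Subgroup.mem_zpowers_iff.mp hn
  have hm : y ^ m = y ^ (m % 3) := zpow_eq_zpow_emod' m (show y ^ 3 = 1 by rw [pow_succ, pow_two, y3])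
  rcases (by omega : m % 3 = 0 ∨ m % 3 = 1 ∨ m % 3 = 2) with h | h | h <;> rw [hm, h]
  · exact Or.inl (zpow_zero y)
  · exact Or.inr (Or.inl (zpow_one y))
  · exact Or.inr (Or.inr (zpow_two y))

theorem pow_commute {c n : G} (hc : Commute c y) (hn : n ∈ Subgroup.zpowers y) : Commute c n := by
  obtain ⟨m, rfl⟩ := Subgroup.mem_zpowers_iff.mp hn
  exact hc.zpow_right m

theorem pow_cube (y3 : y * y * y = 1) {n : G} (hn : n ∈ Subgroup.zpowers y) : n * n * n = 1 := by
  rcases pow_cases y3 hn with rfl | rfl | rfl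
  · simp
  · exact y3
  · rw [show y * y * (y * y) * (y * y) = y * y * y * (y * y * y) by group, y3, one_mul]

/-- The lift of order two is unique. -/
theorem lift_unique (y3 : y * y * y = 1) {a b : G} (hby : Commute b y) (ha : a * a = 1) (hb : b * b = 1)
    (h : b⁻¹ * a ∈ Subgroup.zpowers y) : a = b := by
  have hn2 : b⁻¹ * a * (b⁻¹ * a) = 1 := by
    have e : Commute b⁻¹ (b⁻¹ * a) := pow_commute hby.inv_left h
    have e2 : Commute a (b⁻¹ * a) := by
      have := (pow_commute hby h).mul_left (Commute.refl (b⁻¹ * a))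
      rwa [mul_inv_cancel_left] at this
    calc b⁻¹ * a * (b⁻¹ * a) = b⁻¹ * (a * (b⁻¹ * a)) := mul_assoc _ _ _
      _ = b⁻¹ * (b⁻¹ * a * a) := by rw [e2.eq]
      _ = (b * b)⁻¹ * (a * a) := by group
      _ = 1 := by rw [ha, hb]; group
  have h3 := pow_cube y3 h
  rw [hn2, one_mul] at h3
  exact (inv_mul_eq_one.mp h3).symm

variable [Finite G] {z : G} {Q : Subgroup G} {v : G → V6}

/-- The action in conjugated coordinates. -/
theorem act_moved (H : Co z Q v) {k x : G} {K X M : Lin} (hkz : k * z = z * k) (hxz : x * z = z * x)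
    (hKg : Good K) (hK : Act Q v k K) (hX : Act Q v x X) (h : comp K X = comp M K) :
    Act Q (fun g => v (k * g * k⁻¹)) x M := fun g hg => by
  show v (k * (x * g * x⁻¹) * k⁻¹) = app M (v (k * g * k⁻¹))
  rw [show k * (x * g * x⁻¹) * k⁻¹ = k * x * k⁻¹ * (k * g * k⁻¹) * (k * x * k⁻¹)⁻¹ by group]
  exact act_conj H hkz hxz hKg hK hX h _ (H.conj_mem hkz hg)

theorem co_moved (H : Co z Q v) {k : G} (hk : k * z = z * k) : Co z Q (fun g => v (k * g * k⁻¹)) := by
  have := co_conj H (c := k⁻¹) (show Commute k z from hk).inv_left.eq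
  simpa only [inv_inv] using this

theorem word_facts :
    ([[0, 0, 0, 0], [2, 2, 2], [4, 4, 1, 1], [6, 6], [4, 6, 5, 6, 1, 1], [4, 0, 5, 0], [4, 2, 5, 2],
      [0, 6, 2, 6, 1, 6, 3, 6], [6, 0, 0, 6, 1, 1], [0, 0, 2, 1, 1, 3], [0, 0, 4, 1, 1, 5]].all triv9) = true := by
  decide +kernel

theorem exists_sf {v : G → V6} (D : YD z Q v y) {K : Type} [Field K] [Fintype K] (hK : Fintype.card K = 9) :
    ∃ (v' : G → V6) (i p a s d : G), SF z Q v' y i p a s d := by
  classical
  obtain ⟨α, β, GDd⟩ := D.exists_gd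
  have H := D.co
  set B := Subgroup.zpowers y with hBdef
  set C := Subgroup.centralizer (B : Set G) with hC
  have memC : ∀ g, g ∈ C ↔ Commute g y := by
    intro g
    rw [hC, hBdef, Subgroup.zpowers_eq_closure, Subgroup.centralizer_closure,
      Subgroup.mem_centralizer_singleton_iff]
    rfl
  haveI hnorm : (B.subgroupOf C).Normal := ⟨fun n hn g => by
    have h := Subgroup.mem_centralizer_iff.mp g.2 _ (show (n : G) ∈ B from hn)
    have e : g * n * g⁻¹ = n := Subtype.ext (by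
      show (g : G) * (n : G) * (g : G)⁻¹ = (n : G)
      rw [← h, mul_inv_cancel_right])
    rw [e]; exact hn⟩
  set N := B.subgroupOf C with hN
  set mk : ↥C →* ↥C ⧸ N := QuotientGroup.mk' N with hmkdef
  obtain ⟨αq, βq, zb, Qb, huC, hwC, hzC, hαu, hβu, hzb, hyp⟩ := GDd.hyp (B := B) rfl
  change αq sU = mk ⟨α sU, huC⟩ at hαu
  change βq sU = mk ⟨β sU, hwC⟩ at hβu
  change zb = mk ⟨z, hzC⟩ at hzb
  have hsurj : Function.Surjective mk := QuotientGroup.mk'_surjective N
  have hmk1 : ∀ g : ↥C, mk g = 1 ↔ (g : G) ∈ B := fun g => QuotientGroup.eq_one_iff g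
  obtain ⟨ib, pb, ab, sb, d0, hpb, hspb, SD⟩ := hyp.exists_sdata
  obtain ⟨db, M⟩ := SD.exists_mdata
  obtain ⟨f, hinj, I⟩ := M.exists_embedding hK
  have htop := M.eq_top I hK (MonoidHom.ofInjective hinj)
  have y3 := D.cube
  have hmk2 : ∀ g g' : ↥C, mk g = mk g' → (g : G)⁻¹ * g' ∈ B := fun g g' h =>
    (QuotientGroup.eq.mp h : g⁻¹ * g' ∈ N)
  have hB : ∀ {n}, n ∈ B → Commute n z ∧ n * n * n = 1 := fun {n} hn =>
    ⟨(pow_commute (show Commute z y from D.yz.symm) hn).symm, pow_cube y3 hn⟩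
  have zz : z * z = 1 := H.st.zz
  have zy : Commute z y := D.yz.symm
  -- centralising lifts
  have central : ∀ l : ↥C, mk l ∈ Subgroup.centralizer ({zb} : Set (↥C ⧸ N)) → (l : G) ∈ Cz z y := by
    intro l hl
    have hly := (memC _).mp l.2
    refine mem_Cz.mpr ⟨?_, hly⟩
    rw [Subgroup.mem_centralizer_singleton_iff, hzb, ← map_mul, ← map_mul] at hl
    have hb : ((l : G) * z)⁻¹ * (z * l) ∈ B := hmk2 _ _ hl
    have e : (l : G)⁻¹ * z * l = z := by
      refine lift_unique y3 zy ?_ zz ?_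
      · rw [show (l : G)⁻¹ * z * l * ((l : G)⁻¹ * z * l) = (l : G)⁻¹ * (z * z) * l by group, zz]; group
      · rwa [show ((l : G) * z)⁻¹ * (z * l) = z⁻¹ * ((l : G)⁻¹ * z * l) by group] at hb
    calc (l : G) * z = l * ((l : G)⁻¹ * z * l) := by rw [e]
      _ = z * l := by group
  have lift2 : ∀ (xb : ↥C ⧸ N) (r : G) (hr : r ∈ C), xb ∈ Subgroup.centralizer ({zb} : Set (↥C ⧸ N)) →
      xb * xb = mk ⟨r, hr⟩ → r * r = 1 → ∃ l : ↥C, mk l = xb ∧ (l : G) ∈ Cz z y ∧ (l : G) * l = r := by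
    intro xb r hr hx hxx hr2
    obtain ⟨l, rfl⟩ := hsurj xb
    rw [← map_mul] at hxx
    have hn : r⁻¹ * ((l : G) * l) ∈ B := hmk2 _ _ hxx.symm
    set n := r⁻¹ * ((l : G) * l) with hnd
    have hll : (l : G) * l = r * n := by rw [hnd]; group
    have hln : Commute (l : G) n := pow_commute ((memC _).mp l.2) hn
    have hnC : n ∈ C := (memC _).mpr (pow_commute (Commute.refl y) hn).symm
    refine ⟨l * ⟨n, hnC⟩, ?_, central _ ?_, ?_⟩
    · rw [map_mul, (hmk1 ⟨n, hnC⟩).mpr hn, mul_one]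
    · rw [map_mul, (hmk1 ⟨n, hnC⟩).mpr hn, mul_one]; exact hx
    · show (l : G) * n * ((l : G) * n) = r
      calc (l : G) * n * ((l : G) * n) = (l : G) * (n * l) * n := by group
        _ = (l : G) * l * (n * n) := by rw [← hln.eq]; group
        _ = r * (n * n * n) := by rw [hll]; group
        _ = r := by rw [(hB hn).2, mul_one]
  have T : ∀ u, triv9 u = true → prodW (gen9 ib pb ab sb db) u = 1 := I.eval
  have hw := word_facts
  simp only [List.all_cons, List.all_nil, Bool.and_eq_true] at hw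
  obtain ⟨w0, w2, w4, w6, wc, wi, wp, wij, wsz, wzp, wza, -⟩ := hw
  have hcent := SD.dat.gen
  have hib : ib ∈ Subgroup.centralizer ({zb} : Set (↥C ⧸ N)) := by rw [hcent]; exact Subgroup.subset_closure (by simp)
  have hab : ab ∈ Subgroup.centralizer ({zb} : Set (↥C ⧸ N)) := by rw [hcent]; exact Subgroup.subset_closure (by simp)
  have hsb : sb ∈ Subgroup.centralizer ({zb} : Set (↥C ⧸ N)) := by rw [hcent]; exact Subgroup.subset_closure (by simp)
  have hb5 := CfsgLib.UFourType.q_basic ⟨5, by norm_num⟩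
  have hzi : ib * ib = zb := by
    rw [← SD.dat.z_eq, ← Nat.eq_of_beq_eq_true hb5.2.2.1, ← CfsgLib.UFourType.prodW_val SD.dat.rel (by simp)]
    simp [prodW, CfsgLib.UFourType.gen8]
  -- nfix separates the lifts
  have fix_k : ∀ {v : G → V6}, YD z Q v y → ∀ {L M : Lin} {n : G}, n ∈ B → Act Q v n M → nfix (comp L M) = 16 →
      nfix (comp L L0) ≠ 16 → nfix (comp L (comp L0 L0)) ≠ 16 → n = 1 := by
    intro v D L M n hn hM h16 h1 h2
    have H := D.co
    rcases pow_cases y3 hn with rfl | rfl | rfl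
    · rfl
    · exact absurd (by rw [← act_unique H hM D.act]; exact h16) h1
    · exact absurd (by rw [← act_unique H hM (act_mul H D.yz D.act D.act)]; exact h16) h2
  obtain ⟨c32, c30, c20, f3, f33, g3, g33, cu3, g2, g22, cu2, cu3', -, n3, n3', n22, n22', n2, c220, c330, c332, c223⟩ :=
    frame_facts
  obtain ⟨huz, huy⟩ := mem_Cz.mp GDd.au
  obtain ⟨hwz, hwy⟩ := mem_Cz.mp GDd.bu
  set u := α sU with hu
  set w := β sU with hw'
  have hmku : pb = mk ⟨u, huC⟩ := hpb.trans hαu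
  have hmkw : sb * pb * sb⁻¹ = mk ⟨w, hwC⟩ := hspb.trans hβu
  -- conjugates of the two rotations
  have conjLin : ∀ {v : G → V6}, YD z Q v y → ∀ (l : ↥C) (x x' : G) (hx : x ∈ C) (hx' : x' ∈ C) (L X X' : Lin), (l : G) ∈ Cz z y →
      x * z = z * x → x' * z = z * x' → Act Q v (l : G) L → Good L → Act Q v x X → Act Q v x' X' →
      nfix X = 16 → nfix (comp X' L0) ≠ 16 → nfix (comp X' (comp L0 L0)) ≠ 16 →
      mk l * mk ⟨x, hx⟩ * (mk l)⁻¹ = mk ⟨x', hx'⟩ → comp L X = comp X' L ∧ (l : G) * x * (l : G)⁻¹ = x' := by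
    intro v D l x x' hx hx' L X X' hl hxz hx'z hL hLg hX hX' h16 h1 h2 e
    have H := D.co
    rw [← map_inv, ← map_mul, ← map_mul] at e
    have hn : x'⁻¹ * ((l : G) * x * (l : G)⁻¹) ∈ B := hmk2 _ _ e.symm
    set n := x'⁻¹ * ((l : G) * x * (l : G)⁻¹) with hnd
    obtain ⟨hlz, -⟩ := mem_Cz.mp hl
    have hcz : (l : G) * x * (l : G)⁻¹ * z = z * ((l : G) * x * (l : G)⁻¹) :=
      (((show Commute (l : G) z from hlz).mul_left hxz).mul_left (show Commute (l : G) z from hlz).inv_left).eq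
    obtain ⟨M, hMg, hM⟩ := act_exists H hcz
    obtain ⟨Mn, -, hMn⟩ := act_exists H (hB hn).1.eq
    have e1 : (l : G) * x * (l : G)⁻¹ = x' * n := by rw [hnd]; group
    have hMc : M = comp X' Mn := act_unique H hM (by rw [e1]; exact act_mul H (hB hn).1.eq hX' hMn)
    have hc' := act_mul H hlz hM hL
    rw [inv_mul_cancel_right] at hc'
    have hcomp : comp L X = comp M L := act_unique H (act_mul H hxz hL hX) hc'
    have hn1 : n = 1 := fix_k D hn hMn (hMc ▸ (nfix_conj hLg.1 hcomp).trans h16) h1 h2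
    rw [hn1, mul_one] at e1
    refine ⟨?_, e1⟩
    rw [hcomp, act_unique H hM (e1 ▸ hX')]
  -- the lift of `i`
  have h3n : nfix L3 = 16 := by decide +kernel
  obtain ⟨li, hlimk, hliC, hli2⟩ := lift2 ib z hzC hib (hzi.trans hzb) zz
  obtain ⟨IA, hIg, hIA⟩ := act_exists H (mem_Cz.mp hliC).1
  have hsi : sb⁻¹ = sb := inv_eq_of_mul_eq_one_left (by simpa [prodW, gen9] using T _ w6)
  obtain ⟨hI3, hiw⟩ := conjLin D li w w hwC hwC IA L3 L3 hliC hwz hwz hIA hIg GDd.ba GDd.ba h3n n3 n3'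
    (by
      rw [hlimk, ← hmkw]
      have e := T _ wij
      simp only [prodW, gen9, List.map_cons, List.map_nil, List.prod_cons, List.prod_nil, mul_one] at e
      rw [hsi, ← mul_inv_eq_one]
      refine Eq.trans ?_ e
      simp only [mul_inv_rev, hsi, mul_assoc])
  have hIc : IA ∈ centL := D.act_cent (mem_Cz.mp hliC).1 (mem_Cz.mp hliC).2 hIg hIA
  have hII : comp IA IA = L1 := act_unique H (act_mul H (mem_Cz.mp hliC).1 hIA hIA)
    (by rw [hli2]; exact act_inner H H.z_mem)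
  have hI1 : IA = L1 := by
    have h := i_unique
    simp only [List.all_eq_true, Bool.or_eq_true, Bool.not_eq_true', Bool.and_eq_false_iff] at h
    rcases h IA hIc with (h | h) | h
    · rw [eqL_iff.mpr hII] at h; exact absurd h (by simp)
    · rw [eqL_iff.mpr hI3] at h; exact absurd h (by simp)
    · exact rel_eq h
  have hliQ : (li : G) ∈ Q := act_mem H (mem_Cz.mp hliC).1 (hI1 ▸ hIA)
  have hlow : (v li).1 < 16 := (D.commute_iff hliQ).mp (mem_Cz.mp hliC).2.symm
  have hvw : app L3 (v li) = v li := by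
    rw [← GDd.ba _ hliQ, ← hw']
    exact congrArg v (show w * li * w⁻¹ = li from mul_inv_eq_iff_eq_mul.mpr (mul_inv_eq_iff_eq_mul.mp hiw).symm)
  have assoc : ∀ A B C : Lin, comp (comp A B) C = comp A (comp B C) := fun A B C => lin_ext fun x => by
    simp only [app_comp]
  obtain ⟨-, -, -, -, -, -, -, -, -, -, -, -, hsel, -⟩ := frame_facts
  obtain ⟨k', K', hk'z, hk'y, hK'g, hK', hK'2, hK'0, hK'3, hvi⟩ : ∃ (k : G) (K : Lin), k * z = z * k ∧ Commute k y ∧
      Good K ∧ Act Q v k K ∧ comp K L2 = comp L2 K ∧ comp K L0 = comp L0 K ∧ comp K L3 = comp L3 K ∧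
      app K (v li) = 3 := by
    rcases hsel _ hlow hvw with h | h | h | h
    · exfalso
      rcases (H.zero _ hliQ).mp h with e | e
      · rw [e, one_mul] at hli2; exact H.st.ne_one hli2.symm
      · rw [e, zz] at hli2; exact H.st.ne_one hli2.symm
    · refine ⟨1, L1, by simp, Commute.one_left y, ⟨fun x => by rw [app_L1], Or.inr (Or.inr (Or.inr (by decide +kernel)))⟩,
        act_inner H (one_mem Q), ?_, ?_, ?_, by rw [app_L1, h]⟩ <;> refine lin_ext fun x => ?_ <;>
        simp only [app_comp, app_L1]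
    · exact ⟨u, L2, huz, huy, g2, GDd.aa, rfl, rel_eq c20, (rel_eq c32).symm, h⟩
    · exact ⟨u * u, comp L2 L2, ((show Commute u z from huz).mul_left huz).eq, huy.mul_left huy, g22,
        act_mul H huz GDd.aa GDd.aa, assoc _ _ _, rel_eq c220, rel_eq c223, h⟩
  set v1 : G → V6 := fun g => v (k' * g * k'⁻¹) with hv1
  have H1 : Co z Q v1 := co_moved H hk'z
  have D1 : YD z Q v1 y := ⟨H1, y3, D.yz, act_moved H hk'z D.yz hK'g hK' D.act hK'0⟩
  have au1 : Act Q v1 u L2 := act_moved H hk'z huz hK'g hK' GDd.aa hK'2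
  have bu1 : Act Q v1 w L3 := act_moved H hk'z hwz hK'g hK' GDd.ba hK'3
  have hvi1 : v1 li = 3 := by
    show v (k' * li * k'⁻¹) = 3
    rw [hK' _ hliQ, hvi]
  -- the lift of `s`
  have hzC1 : (1 : G) ∈ C := one_mem C
  have T' : ∀ u, triv9 u = true → prodW (gen9 ib pb ab sb db) u = 1 := I.eval
  have hs2 : sb * sb = mk ⟨1, hzC1⟩ := by
    rw [show (⟨1, hzC1⟩ : ↥C) = 1 from rfl, map_one]
    simpa [prodW, gen9] using T' _ w6
  obtain ⟨ls, hlsmk, hlsC, hls2⟩ := lift2 sb 1 hzC1 hsb hs2 (mul_one 1)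
  obtain ⟨SA, hSg, hSA⟩ := act_exists H1 (mem_Cz.mp hlsC).1
  have hSc : SA ∈ centL := D1.act_cent (mem_Cz.mp hlsC).1 (mem_Cz.mp hlsC).2 hSg hSA
  have hSS : comp SA SA = L1 := act_unique H1 (act_mul H1 (mem_Cz.mp hlsC).1 hSA hSA)
    (by rw [hls2]; exact act_inner H1 (one_mem Q))
  have h2n : nfix L2 = 16 := n2
  obtain ⟨hS23, hsw⟩ := conjLin D1 ls u w huC hwC SA L2 L3 hlsC huz hwz hSA hSg au1 bu1 h2n n3 n3'
    (by rw [hlsmk, ← hmku, hmkw])
  -- move the coordinates by a power of `w`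
  obtain ⟨k, K, hkz, hky, hKg, hK, hKu, hKS, hK0, hK3, hK3'⟩ : ∃ (k : G) (K : Lin), k * z = z * k ∧ Commute k y ∧ Good K ∧
      Act Q v1 k K ∧ comp K L2 = comp L2 K ∧ comp K SA = comp SW23 K ∧ comp K L0 = comp L0 K ∧ comp K L3 = comp L3 K ∧
      app K 3 = 3 := by
    have hc := s_unique
    simp only [List.all_eq_true, Bool.or_eq_true, Bool.not_eq_true', Bool.and_eq_false_iff] at hc
    have cancel : ∀ {A B : Lin}, comp B A = L1 → ∀ X, comp X (comp B A) = X := fun h X => by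
      rw [h]; exact lin_ext fun x => by rw [app_comp, app_L1]
    have assoc : ∀ A B C : Lin, comp (comp A B) C = comp A (comp B C) := fun A B C => lin_ext fun x => by
      simp only [app_comp]
    rcases hc SA hSc with (((h | h) | h) | h) | h
    · rw [hSS] at h; exact absurd h (by decide)
    · rw [hS23] at h; rw [eqL_iff.mpr rfl] at h; exact absurd h (by simp)
    · refine ⟨1, L1, by simp, Commute.one_left y, ⟨fun x => by rw [app_L1], Or.inr (Or.inr (Or.inr (by decide +kernel)))⟩,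
        act_inner H1 (one_mem Q), ?_, ?_, ?_, ?_, app_L1 _⟩ <;> refine lin_ext fun x => ?_ <;>
        simp only [app_comp, app_L1, rel_eq h]
    · exact ⟨w, L3, hwz, hwy, g3, bu1, rel_eq c32, by
        rw [← rel_eq h, assoc, assoc, cancel (A := L3) (B := comp L3 L3) (rel_eq cu3') SA], rel_eq c30, rfl, f3⟩
    · exact ⟨w * w, comp L3 L3, ((show Commute w z from hwz).mul_left hwz).eq, hwy.mul_left hwy, g33,
        act_mul H1 hwz bu1 bu1, rel_eq c332, by
        refine lin_ext fun x => ?_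
        rw [← rel_eq h]
        simp only [app_comp]
        have c := fun x => congrArg (fun M => app M x) (rel_eq cu3)
        simp only [app_comp, app_L1] at c
        rw [c], rel_eq c330, assoc _ _ _, f33⟩
  set v2 : G → V6 := fun g => v1 (k * g * k⁻¹) with hv2
  have H2 : Co z Q v2 := co_moved H1 hkz
  have D2 : YD z Q v2 y := ⟨H2, y3, D.yz, act_moved H1 hkz D.yz hKg hK D1.act hK0⟩
  have au2 : Act Q v2 u L2 := act_moved H1 hkz huz hKg hK au1 hKu
  have bu2 : Act Q v2 w L3 := act_moved H1 hkz hwz hKg hK bu1 hK3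
  have hs2A : Act Q v2 ls SW23 := act_moved H1 hkz (mem_Cz.mp hlsC).1 hKg hK hSA hKS
  have hi2 : v2 li = 3 := by
    show v1 (k * li * k⁻¹) = 3
    rw [hK _ hliQ, hvi1, hK3']
  have hi2A : Act Q v2 li L1 := act_inner H2 hliQ
  have hBQ : ∀ {n}, n ∈ B → n ∈ Q → n = 1 := fun {n} hn hq => by
    have h4 := pow_four H hq
    rw [← mul_assoc (n * n) n n, (hB hn).2, one_mul] at h4
    exact h4
  have exactQ : ∀ (g g' : ↥C), (g : G) ∈ Q → (g' : G) ∈ Q → mk g = mk g' → (g : G) = g' := fun g g' hg hg' e =>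
    inv_mul_eq_one.mp (hBQ (hmk2 g g' e) (mul_mem (inv_mem hg) hg'))
  -- the lift of `a`
  have ha2 : ab * ab = mk ⟨z, hzC⟩ := by
    have e := T _ w4
    simp only [prodW, gen9, List.map_cons, List.map_nil, List.prod_cons, List.prod_nil, mul_one] at e
    rw [← hzb, ← hzi]
    calc ab * ab = ab * (ab * (ib⁻¹ * ib⁻¹)) * (ib * ib) := by group
      _ = ib * ib := by rw [e, one_mul]
  obtain ⟨la, hlamk, hlaC, hla2⟩ := lift2 ab z hzC hab ha2 zz
  obtain ⟨hlaz, hlay⟩ := mem_Cz.mp hlaC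
  obtain ⟨AA, hAg, hAA⟩ := act_exists H2 hlaz
  have hAc : AA ∈ centL := D2.act_cent hlaz hlay hAg hAA
  have hAA2 : comp AA AA = L1 := act_unique H2 (act_mul H2 hlaz hAA hAA)
    (by rw [hla2]; exact act_inner H2 H.z_mem)
  have huuz : u * u * z = z * (u * u) := ((show Commute u z from huz).mul_left huz).eq
  have huuC : u * u ∈ C := mul_mem huC huC
  have hai : ab * ib * ab⁻¹ = ib⁻¹ := by
    have e := T _ wi
    simp only [prodW, gen9, List.map_cons, List.map_nil, List.prod_cons, List.prod_nil, mul_one] at e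
    exact eq_inv_of_mul_eq_one_left (by simpa only [mul_assoc] using e)
  obtain ⟨hA2, -⟩ := conjLin D2 la u (u * u) huC huuC AA L2 (comp L2 L2) hlaC huz huuz hAA hAg au2
    (act_mul H2 huz au2 au2) h2n n22 n22' (by
      have e := T _ wp
      simp only [prodW, gen9, List.map_cons, List.map_nil, List.prod_cons, List.prod_nil, mul_one] at e
      have u3 : u * u * u = 1 := GDd.cube_u
      rw [hlamk, ← hmku, show (⟨u * u, huuC⟩ : ↥C) = (⟨u, huC⟩ : ↥C)⁻¹ from
        Subtype.ext (eq_inv_of_mul_eq_one_left u3), map_inv, ← hmku]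
      exact eq_inv_of_mul_eq_one_left (by simpa only [mul_assoc] using e))
  have hliy := (mem_Cz.mp hliC).2
  have hconjQ : (la : G) * li * (la : G)⁻¹ ∈ Q := H.conj_mem hlaz hliQ
  have hai' : (la : G) * li * (la : G)⁻¹ = (li : G)⁻¹ :=
    exactQ (la * li * la⁻¹) li⁻¹ hconjQ (inv_mem hliQ) (by rw [map_mul, map_mul, map_inv, map_inv, hlamk, hlimk, hai])
  have hA3 : app AA 3 = 3 := by
    rw [← hi2, ← hAA _ hliQ, hai', H2.v_inv hliQ, hi2]
  obtain ⟨hlsz, hlsy⟩ := mem_Cz.mp hlsC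
  have hzs : z * ls * (z * ls) = 1 := by
    calc z * ls * (z * ls) = z * ((ls : G) * z) * ls := by group
      _ = z * z * ((ls : G) * ls) := by rw [hlsz]; group
      _ = 1 := by rw [zz, hls2, one_mul]
  have has : (la : G) * ls * (la : G)⁻¹ = z * ls := by
    refine lift_unique y3 (zy.mul_left hlsy) ?_ hzs ?_
    · rw [show (la : G) * ls * (la : G)⁻¹ * ((la : G) * ls * (la : G)⁻¹) = la * ((ls : G) * ls) * (la : G)⁻¹ by group, hls2]
      group
    · refine hmk2 (⟨z, hzC⟩ * ls) (la * ls * la⁻¹) ?_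
      have e := T _ wc
      simp only [prodW, gen9, List.map_cons, List.map_nil, List.prod_cons, List.prod_nil, mul_one] at e
      rw [map_mul, map_mul, map_mul, map_inv, hlamk, hlsmk, ← hzb, ← hzi]
      calc ib * ib * sb = ib * ib * sb⁻¹ := by rw [hsi]
        _ = (ab * (sb * (ab⁻¹ * (sb * (ib⁻¹ * ib⁻¹)))))⁻¹ * (ab * sb * ab⁻¹) := by simp only [mul_inv_rev, mul_assoc, inv_mul_cancel_left, inv_mul_cancel, mul_one]; rw [inv_inv]
        _ = _ := by rw [e]; group
  have hAS : comp AA SW23 = comp SW23 AA := by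
    have h1 := act_mul H2 hlsz hAA hs2A
    have h2 := act_mul H2 hlaz (act_mul H2 hlsz (act_inner H2 H.z_mem) hs2A) hAA
    have e : (la : G) * ls = z * ls * la := by rw [← has]; group
    rw [e] at h1
    have := act_unique H2 h1 h2
    rw [this]
    exact lin_ext fun x => by simp only [app_comp, app_L1]
  have hAMA : AA = MA := by
    have h := a_unique
    simp only [List.all_eq_true, Bool.or_eq_true, Bool.not_eq_true', Bool.and_eq_false_iff] at h
    rcases h AA hAc with (((h | h) | h) | h) | h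
    · rw [eqL_iff.mpr hAA2] at h; exact absurd h (by simp)
    · rw [eqL_iff.mpr hA2] at h; exact absurd h (by simp)
    · rw [hA3] at h; exact absurd h (by decide)
    · rw [eqL_iff.mpr hAS] at h; exact absurd h (by simp)
    · exact rel_eq h
  obtain ⟨ld, hldmk⟩ := hsurj db
  let F : ℕ → ↥C := gen9 li ⟨u, huC⟩ la ls ld
  have hF : ∀ n, mk (F n) = gen9 ib pb ab sb db n := fun n => by
    rw [CfsgLib.UFourType.map_gen9, hlimk, hlamk, hlsmk, hldmk, ← hmku]
  have hG : ∀ n, ((F n : ↥C) : G) = gen9 (li : G) u la ls ld n := fun n =>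
    CfsgLib.UFourType.map_gen9 C.subtype li ⟨u, huC⟩ la ls ld n
  have hW : ∀ u', ((prodW F u' : ↥C) : G) = prodW (gen9 (li : G) u la ls ld) u' := fun u' => by
    rw [show ((prodW F u' : ↥C) : G) = C.subtype (prodW F u') from rfl, map_prodW]
    exact prodW_congr fun n _ => hG n
  have hWm : ∀ u', mk (prodW F u') = prodW (gen9 ib pb ab sb db) u' := fun u' => by
    rw [map_prodW]
    exact prodW_congr fun n _ => hF n
  refine ⟨v2, li, u, la, ls, ld, ⟨D2, ⟨hliQ, Subgroup.mem_centralizer_singleton_iff.mpr hliy.eq⟩, hi2, hli2,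
    GDd.au, GDd.cube_u, au2, hlaC, hla2, hAMA ▸ hAA, hlsC, hls2, hs2A, (memC _).mp ld.2, fun u' hu' => ?_,
    fun u' hl hu' => ?_, fun c hc => ?_⟩⟩
  · rw [← hW]; exact (hmk1 _).mp (by rw [hWm]; exact T _ hu')
  · refine I.nontriv u' hl ?_
    rw [← hWm]; exact (hmk1 _).mpr (by rw [hW]; exact hu')
  · have hcm : mk ⟨c, (memC c).mpr hc⟩ ∈ Subgroup.closure {g | ∃ n < 9, gen9 ib pb ab sb db n = g} := by
      rw [← I.generated, htop]; exact Subgroup.mem_top _
    obtain ⟨u', hl, e⟩ : ∃ u', (∀ l ∈ u', l < 9) ∧ prodW (gen9 ib pb ab sb db) u' = mk ⟨c, (memC c).mpr hc⟩ := by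
      clear_value mk
      refine Subgroup.closure_induction (p := fun g _ => ∃ u', (∀ l ∈ u', l < 9) ∧ prodW (gen9 ib pb ab sb db) u' = g)
        ?_ ⟨[], by simp, rfl⟩ ?_ ?_ hcm
      · rintro _ ⟨n, hn, rfl⟩; exact ⟨[n], by simpa using hn, by simp [prodW]⟩
      · rintro _ _ _ _ ⟨a1, h1, rfl⟩ ⟨a2, h2, rfl⟩
        exact ⟨a1 ++ a2, fun l hl => (List.mem_append.mp hl).elim (h1 l) (h2 l), prodW_append _ _ _⟩
      · rintro _ _ ⟨a1, h1, rfl⟩
        refine ⟨inv9 a1, ?_, CfsgLib.UFourType.inv9_spec (by simpa [prodW, gen9] using T _ w6) h1⟩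
        intro l hl
        simp only [inv9, List.mem_reverse, List.mem_map] at hl
        obtain ⟨m, hm, rfl⟩ := hl
        have := h1 m hm
        interval_cases m <;> simp
    exact ⟨u', hl, by rw [← hW]; exact hmk2 (prodW F u') ⟨c, (memC c).mpr hc⟩ (by rw [hWm, e])⟩

end CfsgLib.SuzUnique
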