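import Cfsg.Agent.Lib.SuzUnique.Tree
import Cfsg.Agent.Lib.SuzUnique.CaseWords
import Cfsg.Agent.Lib.SuzUnique.Cong

/-!
The generators other than the four-group involution and their relations.
-/

set_option autoImplicit false
set_option maxRecDepth 100000
set_option maxHeartbeats 2000000

namespace CfsgLib.SuzUnique

open CfsgLib.SuzType CfsgLib.SuzThree CfsgLib.Extraspecial CfsgLib.CosetEnum
open CfsgLib.UFourType (gen9 triv9 inv9)

/-- the elements centralising the four-group and the element of order three -/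
def uG {G : Type*} [Group G] (y v0 : G) : Subgroup G :=
  Subgroup.centralizer ({y} : Set G) ⊓ Subgroup.centralizer ({v0} : Set G)

theorem mem_uG {G : Type*} [Group G] {y v0 k : G} : k ∈ uG y v0 ↔ Commute k y ∧ Commute k v0 := by
  simp only [uG, Subgroup.mem_inf, Subgroup.mem_centralizer_singleton_iff]
  exact Iff.rfl

theorem uG_meet {G : Type*} [Group G] {z y qa qb v0 n : G} (y3 : y * y * y = 1) (hv : IsV z y qa qb v0)
    (hn : n ∈ uG y v0) (hy : n ∈ Subgroup.zpowers y) : n = 1 := by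
  obtain ⟨hv2, hv1, -, -, -, hp⟩ := hv
  have bad : Commute y v0 → False := fun hc => by
    rw [hc.eq, mul_inv_cancel_right, hv2, (hc.mul_left hc).eq, mul_inv_cancel_right] at hp
    exact hv1 hp.symm
  rcases pow_cases y3 hy with rfl | rfl | rfl
  · rfl
  · exact (bad (mem_uG.mp hn).2).elim
  · refine (bad ?_).elim
    have e := (mem_uG.mp hn).2
    have := e.mul_left e
    rwa [show y * y * (y * y) = y * (y * y * y) by group, y3, mul_one] at this

/-- what is known about the four-group -/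
structure VD {G : Type*} [Group G] (z : G) (Q : Subgroup G) (v : G → V6) (y i p a s d e : G) (C : UCase) : Prop where
  sf : SF z Q v y i p a s d
  v1 : IsV z y (prodW (gen9 i p a s d) wa1) (prodW (gen9 i p a s d) wb1) e
  v2 : IsV z y (prodW (gen9 i p a s d) wa2) (prodW (gen9 i p a s d) wb2) e
  act : Act Q v e F1
  f1 : prodW (gen9 i p a s d) C.g1 ∈ Fix y e
  f2 : prodW (gen9 i p a s d) C.g2 ∈ Fix y e
  ok : caseOK C = true

/-- the relations of the generators -/
structure Six {G : Type*} [Group G] (z y e b c d f g x : G) : Prop where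
  zy : Commute z y
  b_y : Commute b y
  c_y : Commute c y
  f_y : Commute f y
  g_y : Commute g y
  x_y : Commute x y
  dyd : d * y * d = y⁻¹
  ye : e * (y * e * y⁻¹) = y * y * e * (y * y)⁻¹
  zz : z * z = 1
  bb : b * b = 1
  cc : c * c = 1
  dd : d * d = 1
  ee : e * e = 1
  ff : f * f = 1
  gg : g * g = 1
  ab : (z * b) ^ 5 = 1
  bc : (b * c) ^ 3 = 1
  bf : (b * f) ^ 3 = 1
  gb : (g * b) ^ 3 = 1
  cd : (c * d) ^ 4 = z
  fg : (f * g) ^ 2 = z
  de : (d * e) ^ 3 = 1
  abcf : (z * b * c * f) ^ 5 = 1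
  bfg : (b * f * g) ^ 5 = 1
  ac : Commute z c
  ad : Commute z d
  ae : Commute z e
  af : Commute z f
  ag : Commute z g
  bd : Commute b d
  be : Commute b e
  ce : Commute c e
  cf : Commute c f
  cg : Commute c g
  df : Commute d f
  dg : Commute d g
  ef : Commute e f
  eg : Commute e g
  xeq : x = d * c * d
  p_mem : (b * c * x) ^ 5 ∈ Subgroup.zpowers y

variable {G : Type*} [Group G] [Finite G] {z y i p a s d e : G} {Q : Subgroup G} {v : G → V6}

local notation "W" => prodW (gen9 i p a s d)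

namespace SF

variable (S : SF z Q v y i p a s d)
include S

theorem exists_vd : ∃ e C, C ∈ ([caseAA, caseAB, caseBA, caseBB] : List UCase) ∧ VD z Q v y i p a s d e C := by
  obtain ⟨e, g1, h1, g2, h2, hv, hv2, hA, hf1, hf2⟩ := S.exists_stab
  simp only [List.mem_cons, List.not_mem_nil, or_false] at h1 h2
  rcases h1 with rfl | rfl <;> rcases h2 with rfl | rfl
  · exact ⟨e, caseAA, by simp, S, hv, hv2, hA, hf1, hf2, case_ok_AA⟩
  · exact ⟨e, caseAB, by simp, S, hv, hv2, hA, hf1, hf2, case_ok_AB⟩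
  · exact ⟨e, caseBA, by simp, S, hv, hv2, hA, hf1, hf2, case_ok_BA⟩
  · exact ⟨e, caseBB, by simp, S, hv, hv2, hA, hf1, hf2, case_ok_BB⟩

/-- coordinates of a product of conjugates of the first letter -/
theorem v_blocks : ∀ xs : List (List ℕ), (∀ u ∈ xs, low u = true) →
    W ((xs.map fun u => u ++ [0] ++ inv9 u).flatten) ∈ Q ∧
      v (W ((xs.map fun u => u ++ [0] ++ inv9 u).flatten)) = xs.foldr (fun u w => xr (app (linW u) 3) w) 0
  | [], _ => by simp [prodW_nil, S.co.v_one]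
  | u :: xs, h => by
    obtain ⟨hm, hv⟩ := v_blocks xs fun u' hu' => h u' (List.mem_cons_of_mem _ hu')
    have hu := h u List.mem_cons_self
    have hu9 : ∀ l ∈ u, l < 9 := fun l hl => by
      simp only [low, List.all_eq_true, Nat.blt_eq] at hu
      exact (hu l hl).trans (by norm_num)
    have hq := S.co.conj_mem (S.low_z hu) S.iQ.1
    rw [List.map_cons, List.flatten_cons, prodW_append, prodW_append, prodW_append, S.w_inv hu9,
      show W [0] = i by simp [prodW, gen9]]
    refine ⟨mul_mem hq hm, ?_⟩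
    rw [S.co.mul _ hq _ hm, hv, S.low_act hu _ S.iQ.1, S.iv, List.foldr_cons]

end SF

namespace VD

variable {C : UCase} (D : VD z Q v y i p a s d e C)
include D

theorem gens_u : ∀ u ∈ C.gens, ∃ k ∈ uG y e, Cg y i p a s d u k := by
  have S := D.sf
  have E1 := S.eD1
  have E2 := S.eD2
  have hcomm : ∀ u, Commute e (W u) → ∃ k ∈ uG y e, Cg y i p a s d u k := fun u hu =>
    ⟨W u, mem_uG.mpr ⟨S.w_comm u, hu.symm⟩, S.cg_self u⟩
  have hfix : ∀ u, W u ∈ Fix y e → ∃ k ∈ uG y e, Cg y i p a s d u k := by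
    intro u hu
    obtain ⟨hy, hV⟩ := hu
    have key : ∀ m ∈ Subgroup.zpowers y, Commute m y → W u * e * (W u)⁻¹ = m * e * m⁻¹ →
        ∃ k ∈ uG y e, Cg y i p a s d u k := by
      intro m hm hmy he
      refine ⟨m⁻¹ * W u, mem_uG.mpr ⟨hmy.inv_left.mul_left hy, commute_of_conj_eq ?_⟩,
        hmy.inv_left.mul_left hy, ?_⟩
      · rw [show m⁻¹ * W u * e * (m⁻¹ * W u)⁻¹ = m⁻¹ * (W u * e * (W u)⁻¹) * m by group, he]; group
      · rw [← mul_assoc, (pow_commute hy (inv_mem hm)).inv_left.eq, mul_assoc, inv_mul_cancel, mul_one]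
        exact inv_mem hm
    rcases hV with h | h | h
    · exact key 1 (one_mem _) (Commute.one_left y) (by simpa using h)
    · exact key y (Subgroup.mem_zpowers y) (Commute.refl y) h
    · exact key (y * y) (mul_mem (Subgroup.mem_zpowers y) (Subgroup.mem_zpowers y))
        ((Commute.refl y).mul_left (Commute.refl y)) h
  have hlt : ∀ u ∈ [C.g1, C.g2], ∀ l ∈ u, l < 9 := by
    have h := D.ok
    simp only [caseOK, Bool.and_eq_true, List.all_eq_true, Nat.blt_eq] at h
    intro u hu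
    exact h.1.1.1.1.1.1.1.1.1.1.1.1.1.1.1.1.2 u (by simp [UCase.gens] at hu ⊢; tauto)
  have hinv : ∀ u, (∀ l ∈ u, l < 9) → W u ∈ Fix y e → ∃ k ∈ uG y e, Cg y i p a s d (inv9 u) k := by
    intro u hu hf
    obtain ⟨k, hk, h⟩ := hfix u hf
    exact ⟨k⁻¹, inv_mem hk, S.cg_inv hu h⟩
  intro u hu
  simp only [UCase.gens, List.mem_cons, List.not_mem_nil, or_false] at hu
  rcases hu with rfl | rfl | rfl | rfl | rfl | rfl | rfl | rfl | rfl
  · exact hcomm _ (by rw [S.z_word]; exact D.v1.2.2.1)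
  · exact hcomm _ D.v1.2.2.2.2.1
  · exact hcomm _ (E1.comm_t D.v1)
  · exact hcomm _ D.v2.2.2.2.1
  · exact hcomm _ (E2.comm_t D.v2)
  · exact hfix _ D.f1
  · exact hfix _ D.f2
  · exact hinv _ (hlt _ (by simp)) D.f1
  · exact hinv _ (hlt _ (by simp)) D.f2

theorem u_unit {u : List ℕ} {k : G} (h : Cg y i p a s d u k) (hk : k ∈ uG y e) (ht : triv9 u = true) : k = 1 :=
  uG_meet D.sf.y3 D.v1 hk (D.sf.cg_triv h ht)

theorem exists_six : ∃ b d' g x : G, Six z y e b (W wb1) d' (W wa2) g x ∧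
    Cg y i p a s d C.wB b ∧ Cg y i p a s d C.wG g ∧ Cg y i p a s d C.wX x ∧ Act Q v d' C.dM ∧
    d' = e * (W C.hw * e * (W C.hw)⁻¹) * e ∧
    b ∈ uG y e ∧ g ∈ uG y e ∧ W wb1 ∈ uG y e ∧ W wa2 ∈ uG y e := by
  have S := D.sf
  have H := S.co
  have y3 := S.y3
  have ok := D.ok
  simp only [caseOK, uRels, Bool.and_eq_true, List.all_cons, List.all_nil, Bool.and_true, Bool.not_eq_true',
    List.all_eq_true, beq_iff_eq, Nat.blt_eq] at ok
  obtain ⟨⟨⟨⟨⟨⟨⟨⟨⟨⟨⟨⟨⟨⟨⟨⟨⟨⟨rb, rg, rab, rbc, rbf, rfg, rgb, rcf, rcg, rag, rabcf, rbfg, -⟩, h9⟩, rne⟩, hlow⟩, hkb⟩,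
    hkf⟩, hkg⟩, hxs⟩, hxlow⟩, hxlin⟩, hxvc⟩, rbad⟩, rcx⟩, rp⟩, hdL⟩, hde3⟩, -⟩, -⟩ := ok
  obtain ⟨b, hbU, (cb : Cg y i p a s d C.wB b)⟩ := S.cg_flat D.gens_u C.bw
  obtain ⟨g, hgU, (cg : Cg y i p a s d C.wG g)⟩ := S.cg_flat D.gens_u C.gw
  obtain ⟨he2, -, hez, -, hecb, hep⟩ := D.v1
  have hecf : Commute e (W wa2) := D.v2.2.2.2.1
  set c := W wb1 with hc
  set f := W wa2 with hf
  have zy := S.zy
  have hzU : z ∈ uG y e := mem_uG.mpr ⟨zy, hez.symm⟩
  have hcU : c ∈ uG y e := mem_uG.mpr ⟨S.w_comm _, hecb.symm⟩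
  have hfU : f ∈ uG y e := mem_uG.mpr ⟨S.w_comm _, hecf.symm⟩
  have E1 := S.eD1
  have E2 := S.eD2
  have cc : c * c = 1 := (H.sq _ E1.bQ.1).mp (by rw [E1.bv]; exact E1.parts.2.1.2.2.2.2.1)
  have ff : f * f = 1 := (H.sq _ E2.aQ.1).mp (by rw [E2.av]; exact E2.parts.2.1.2.2.2.1)
  have cz : Cg y i p a s d [0, 0] z := by have := S.cg_self [0, 0]; rwa [S.z_word] at this
  have cC : Cg y i p a s d wb1 c := S.cg_self _
  have cF : Cg y i p a s d wa2 f := S.cg_self _
  have unit : ∀ {u : List ℕ} {k : G} (n : ℕ), triv9 (rep n u) = true → Cg y i p a s d u k → k ∈ uG y e → k ^ n = 1 :=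
    fun n ht h hk => D.u_unit (S.cg_rep h n) (pow_mem hk n) ht
  have bb : b * b = 1 := by rw [← pow_two]; exact unit 2 rb cb hbU
  have gg : g * g = 1 := by rw [← pow_two]; exact unit 2 rg cg hgU
  have ab := unit 5 rab (S.cg_mul cz cb) (mul_mem hzU hbU)
  have fgz : (f * g) ^ 2 = z := by
    have h := D.u_unit (S.cg_mul cz (S.cg_rep (S.cg_mul cF cg) 2)) (mul_mem hzU (pow_mem (mul_mem hfU hgU) 2)) rfg
    rw [eq_inv_of_mul_eq_one_right h, H.st.inv_z]
  have comm2 : ∀ {k k' : G}, k * k = 1 → k' * k' = 1 → (k * k') ^ 2 = 1 → Commute k k' := by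
    intro k k' h1 h2 h
    rw [pow_two] at h
    calc k * k' = (k * k')⁻¹ := (inv_eq_of_mul_eq_one_right h).symm
      _ = k' * k := by rw [mul_inv_rev, inv_eq_of_mul_eq_one_right h1, inv_eq_of_mul_eq_one_right h2]
  have hne : ¬ Commute z b := fun hc' => by
    have h : Cg y i p a s d (rep 2 ([0, 0] ++ C.wB)) ((z * b) ^ 2) := S.cg_rep (S.cg_mul cz cb) 2
    rw [hc'.mul_pow, pow_two, pow_two, H.st.zz, bb, mul_one] at h
    have hm := inv_mem h.2
    rw [mul_one, inv_inv] at hm
    have h9' : ∀ l ∈ rep 2 ([0, 0] ++ C.wB), l < 9 := by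
      intro l hl
      simp only [rep, List.mem_flatten, List.mem_replicate] at hl
      obtain ⟨t, ⟨-, rfl⟩, hl⟩ := hl
      simp only [UCase.wB, UCase.flat, List.mem_append, List.mem_flatten, List.mem_map] at hl
      rcases hl with hl | ⟨t, ⟨j, -, rfl⟩, hl⟩
      · simp at hl; omega
      · by_cases hj : j < C.gens.length
        · rw [List.getD_eq_getElem _ _ hj] at hl; exact h9 _ (List.getElem_mem hj) l hl
        · rw [List.getD_eq_default _ _ (by omega)] at hl; simp at hl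
    rw [S.nontriv _ h9' hm] at rne
    exact absurd rne (by decide)
  -- the moving element
  set h := W C.hw with hh
  have hhy : Commute h y := S.w_comm _
  have hhz : Commute h z := S.low_z hlow
  have hlow7 : ∀ l ∈ C.hw, l < 7 := by simpa [low, List.all_eq_true, Nat.blt_eq] using hlow
  have hw9 : ∀ l ∈ C.hw, l < 9 := fun l hl => (hlow7 l hl).trans (by norm_num)
  have hA : Act Q v h (linW C.hw) := S.low_act hlow
  have hiA : Act Q v h⁻¹ (linW (inv9 C.hw)) := by
    have := (S.w_low (inv9_low hlow7)).2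
    rwa [S.w_inv hw9] at this
  have moved : ∀ {u : List ℕ} {k : G} {ix : List ℕ}, Cg y i p a s d u k → k * k = 1 →
      eqv (inv9 C.hw ++ u ++ C.hw) (C.flat ix) = true → Commute k (h * e * h⁻¹) := by
    intro u k ix hk hk2 heq
    obtain ⟨k', hk'U, (hk' : Cg y i p a s d (C.flat ix) k')⟩ := S.cg_flat D.gens_u ix
    have h1 : Cg y i p a s d (C.flat ix) (h⁻¹ * k * h) :=
      S.cg_eqv (S.cg_mul (S.cg_mul (S.cg_inv hw9 (S.cg_self C.hw)) hk) (S.cg_self C.hw)) heq
    have hdiff : k'⁻¹ * (h⁻¹ * k * h) ∈ Subgroup.zpowers y := by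
      have := mul_mem (inv_mem hk'.2) h1.2
      rwa [show ((W (C.flat ix))⁻¹ * k')⁻¹ * ((W (C.flat ix))⁻¹ * (h⁻¹ * k * h)) = k'⁻¹ * (h⁻¹ * k * h) by group] at this
    have h2 : h⁻¹ * k * h * (h⁻¹ * k * h) = 1 := by
      rw [show h⁻¹ * k * h * (h⁻¹ * k * h) = h⁻¹ * (k * k) * h by group, hk2]; group
    have hk'y := (mem_uG.mp hk'U).1
    have k2 : k' * k' = 1 := by
      refine uG_meet y3 D.v1 (mul_mem hk'U hk'U) ?_
      have e2 : Commute k' (k'⁻¹ * (h⁻¹ * k * h)) := pow_commute hk'y hdiff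
      have := mul_mem hdiff hdiff
      set m := k'⁻¹ * (h⁻¹ * k * h) with hm
      have e3 : h⁻¹ * k * h = k' * m := by rw [hm]; group
      rw [e3] at h2
      have e4 : k' * k' * (m * m) = 1 := by
        calc k' * k' * (m * m) = k' * (k' * m) * m := by group
          _ = k' * (m * k') * m := by rw [e2.eq]
          _ = k' * m * (k' * m) := by group
          _ = 1 := h2
      rw [eq_inv_of_mul_eq_one_left e4]
      exact inv_mem this
    have eq := lift_unique y3 hk'y h2 k2 hdiff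
    rw [← eq] at hk'U
    have := (mem_uG.mp hk'U).2.map (MulAut.conj h)
    rwa [MulAut.conj_apply, MulAut.conj_apply, show h * (h⁻¹ * k * h) * h⁻¹ = k by group] at this
  have bw := moved cb bb hkb
  have fw := moved cF ff hkf
  have gw := moved cg gg hkg
  set e' := h * e * h⁻¹ with he'
  have he'z : Commute e' z := (hhz.mul_left hez).mul_left hhz.inv_left
  have he'A : Act Q v e' C.hM := act_mul H hhz.inv_left.eq (act_mul H hez.eq hA D.act) hiA
  set d' := e * e' * e with hd'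
  have he'2 : e' * e' = 1 := by rw [he', show h * e * h⁻¹ * (h * e * h⁻¹) = h * (e * e) * h⁻¹ by group, he2]; group
  have dd : d' * d' = 1 := by
    calc d' * d' = e * e' * (e * e) * e' * e := by rw [hd']; group
      _ = e * (e' * e') * e := by rw [he2]; group
      _ = 1 := by rw [he'2, mul_one, he2]
  have hdz : Commute d' z := (hez.mul_left he'z).mul_left hez
  have hdA : Act Q v d' C.dM := act_mul H hez.eq (act_mul H he'z.eq D.act he'A) D.act
  have hdk : ∀ {k}, k ∈ uG y e → Commute k e' → Commute k d' := fun hk hk' =>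
    ((mem_uG.mp hk).2.mul_right hk').mul_right (mem_uG.mp hk).2
  have bd := hdk hbU bw
  have fd := hdk hfU fw
  have gd := hdk hgU gw
  have hby := (mem_uG.mp hbU).1
  have hbe := (mem_uG.mp hbU).2
  have dinv : d'⁻¹ = d' := inv_eq_of_mul_eq_one_right dd
  have hyi : y⁻¹ = y * y := (eq_inv_of_mul_eq_one_left y3).symm
  have hdd : comp C.dM C.dM = L1 := act_unique H (act_mul H hdz.eq hdA hdA) (by rw [dd]; exact act_inner H (one_mem Q))
  have hyz : Commute y z := S.yd.yz
  have dyd : d' * y * d' = y⁻¹ := by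
    refine zb_eq H bb ab hne ((hdz.mul_left hyz).mul_left hdz) ((bd.symm.mul_left hby.symm).mul_left bd.symm)
      (act_mul H hdz.eq (act_mul H hyz.eq hdA S.yd.act) hdA) hyz.inv_left hby.symm.inv_left ?_
    have e1 : comp (comp C.dM L0) C.dM = comp L0 L0 := by rw [rel_eq hdL, comp_assoc, hdd, comp_L1]
    rw [e1, hyi]
    exact act_mul H hyz.eq S.yd.act S.yd.act
  have de : (d' * e) ^ 3 = 1 := by
    have hk : Commute (d' * e) z := hdz.mul_left hez
    have hkA : Act Q v (d' * e) (comp C.dM F1) := act_mul H hez.eq hdA D.act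
    rw [pow_succ, pow_two]
    refine zb_eq H bb ab hne ((hk.mul_left hk).mul_left hk)
      (((bd.symm.mul_left hbe.symm).mul_left (bd.symm.mul_left hbe.symm)).mul_left (bd.symm.mul_left hbe.symm))
      ?_ (Commute.one_left z) (Commute.one_left b) (act_inner H (one_mem Q))
    have h3 := rel_eq hde3
    rw [← comp_assoc] at h3
    rw [← h3]
    exact act_mul H hk.eq (act_mul H hk.eq hkA hkA) hkA
  -- the conjugate of the third generator
  set x := d' * c * d' with hx
  have hxQ : x ∈ Q := by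
    have := H.conj_mem hdz.eq E1.bQ.1
    rwa [dinv] at this
  have hcy : Commute c y := S.w_comm _
  have hyd : y * d' = d' * y⁻¹ := by
    calc y * d' = (d' * d') * y * d' := by rw [dd, one_mul]
      _ = d' * (d' * y * d') := by group
      _ = _ := by rw [dyd]
  have hdy' : d' * y = y⁻¹ * d' := by
    calc d' * y = d' * y * (d' * d') := by rw [dd, mul_one]
      _ = (d' * y * d') * d' := by group
      _ = _ := by rw [dyd]
  have hxy : Commute x y := by
    show d' * c * d' * y = y * (d' * c * d')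
    calc d' * c * d' * y = d' * c * (d' * y) := by group
      _ = d' * (c * y⁻¹) * d' := by rw [hdy']; group
      _ = (d' * y⁻¹) * c * d' := by rw [hcy.inv_right.eq]; group
      _ = _ := by rw [← hyd]; group
  have hxv : v x = app C.dM 10 := by
    have := hdA c E1.bQ.1
    rw [dinv] at this
    rw [hx, this, show v c = 10 from E1.bv]
  obtain ⟨(hwQ : W C.wX ∈ Q), (hwv : v (W C.wX) = _)⟩ := S.v_blocks C.xs hxs
  have hxv0 := hxvc
  have hxy' : Cg y i p a s d C.wX x := by
    rcases H.eq_or hxQ (show W C.wX ∈ Q from hwQ) (by rw [hxv, ← hxv0]; exact hwv.symm) with hw | hw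
    · exact hw ▸ S.cg_self _
    exfalso
    have hbx : b * x = d' * (b * c) * d' := by
      rw [hx]
      calc b * (d' * c * d') = (b * d') * c * d' := by group
        _ = _ := by rw [bd.eq]; group
    have h3 : (b * x) ^ 3 = 1 := by
      rw [hbx, ← dinv, show (d'⁻¹ * (b * c) * d'⁻¹) = d' * (b * c) * d'⁻¹ by rw [dinv], conj_pow,
        unit 3 rbc (S.cg_mul cb cC) (mul_mem hbU hcU)]
      group
    have hc3 : Cg y i p a s d (rep 3 (C.wB ++ C.wX ++ [0, 0])) ((b * x) ^ 3) := by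
      refine S.cg_rep ?_ 3
      have h1 := S.cg_mul (S.cg_mul cb (S.cg_self C.wX)) cz
      rwa [mul_assoc b, H.commute_z hwQ, ← hw] at h1
    rw [h3] at hc3
    have hm := inv_mem hc3.2
    rw [mul_one, inv_inv] at hm
    have h9x : ∀ l ∈ rep 3 (C.wB ++ C.wX ++ [0, 0]), l < 9 := by
      intro l hl
      simp only [rep, List.mem_flatten, List.mem_replicate] at hl
      obtain ⟨t, ⟨-, rfl⟩, hl⟩ := hl
      simp only [UCase.wB, UCase.flat, List.mem_append] at hl
      rcases hl with (hl | hl) | hl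
      · simp only [List.mem_flatten, List.mem_map] at hl
        obtain ⟨t, ⟨j, -, rfl⟩, hl⟩ := hl
        by_cases hj : j < C.gens.length
        · rw [List.getD_eq_getElem _ _ hj] at hl; exact h9 _ (List.getElem_mem hj) l hl
        · rw [List.getD_eq_default _ _ (by omega)] at hl; simp at hl
      · simp only [low, List.all_eq_true, Nat.blt_eq] at hxlow
        exact (hxlow l hl).trans (by norm_num)
      · simp at hl; omega
    rw [S.nontriv _ h9x hm] at rbad
    exact absurd rbad (by decide)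
  have cd4 : (c * d') ^ 4 = z := by
    have h0 : (c * d') ^ 4 = (c * x) ^ 2 := by
      rw [show 4 = 2 * 2 from rfl, pow_mul, pow_two (c * d'), hx]; group
    have hxe : x = W C.wX := by
      have := mul_mem (inv_mem (S.cg_self C.wX).2) hxy'.2
      rw [inv_mul_cancel, inv_one, one_mul] at this
      rcases H.eq_or hxQ hwQ (by rw [hxv, ← hxv0]; exact hwv.symm) with hw | hw
      · exact hw
      · exfalso
        rw [hw, ← mul_assoc, H.commute_z (inv_mem hwQ), mul_assoc, inv_mul_cancel, mul_one] at this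
        exact H.st.ne_one (eq_one_of_cube_sq (pow_cube y3 this) H.st.zz)
    have e0 := S.exact_spec rcx
    rw [prodW_append, S.z_word, rep, show (List.replicate 2 (wb1 ++ C.wX)).flatten = wb1 ++ C.wX ++ (wb1 ++ C.wX) by
      simp [List.replicate_succ], prodW_append, prodW_append, ← hc, ← hxe, ← pow_two] at e0
    rw [h0, eq_inv_of_mul_eq_one_right e0, H.st.inv_z]
  have hp : (b * c * x) ^ 5 ∈ Subgroup.zpowers y := S.cg_triv (S.cg_rep (S.cg_mul (S.cg_mul cb cC) hxy') 5) rp
  refine ⟨b, d', g, x, ⟨zy, hby, hcy, S.w_comm _, (mem_uG.mp hgU).1, hxy, dyd, hep, H.st.zz, bb, cc, dd, he2, ff, gg,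
    ab, unit 3 rbc (S.cg_mul cb cC) (mul_mem hbU hcU), unit 3 rbf (S.cg_mul cb cF) (mul_mem hbU hfU),
    unit 3 rgb (S.cg_mul cg cb) (mul_mem hgU hbU), cd4, fgz, de,
    unit 5 rabcf (S.cg_mul (S.cg_mul (S.cg_mul cz cb) cC) cF) (mul_mem (mul_mem (mul_mem hzU hbU) hcU) hfU),
    unit 5 rbfg (S.cg_mul (S.cg_mul cb cF) cg) (mul_mem (mul_mem hbU hfU) hgU),
    (H.commute_z E1.bQ.1 : Commute c z).symm, hdz.symm, hez.symm, (H.commute_z E2.aQ.1 : Commute f z).symm,
    comm2 H.st.zz gg (unit 2 rag (S.cg_mul cz cg) (mul_mem hzU hgU)), bd, hbe, hecb.symm,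
    comm2 cc ff (unit 2 rcf (S.cg_mul cC cF) (mul_mem hcU hfU)),
    comm2 cc gg (unit 2 rcg (S.cg_mul cC cg) (mul_mem hcU hgU)), fd.symm, gd.symm, hecf, (mem_uG.mp hgU).2.symm,
    rfl, hp⟩, cb, cg, hxy', hdA, rfl, hbU, hgU, hcU, hfU⟩

end VD

end CfsgLib.SuzUnique
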