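import Cfsg.Agent.Lib.SuzType.Main

/-!
Involutions of the second kind are conjugate inside the centraliser of the involution.
-/

set_option autoImplicit false

namespace CfsgLib.SuzUnique

open CfsgLib.SuzType CfsgLib.Extraspecial CfsgLib.Extraspecial.Pair

variable {G : Type*} [Group G] [Finite G] {z : G} {Q : Subgroup G} {v : G → V6} (H : Co z Q v)
include H

theorem odd1_conj_cent {g₁ u₁ g₂ u₂ t₁ t₂ : G} (F₁ : Fr z Q v g₁ u₁) (F₂ : Fr z Q v g₂ u₂)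
    (h₁ : Odd1 z Q v g₁ t₁) (h₂ : Odd1 z Q v g₂ t₂) : ∃ c, c * z = z * c ∧ c * t₁ * c⁻¹ = t₂ := by
  -- both are moved to the same pair
  obtain ⟨c, hc, hcs⟩ := H.trans F₁.pr.mem F₁.pr.s'.zz F₁.pr.ne_one' F₁.pr.ne F₂.pr.mem F₂.pr.s'.zz
    F₂.pr.ne_one' F₂.pr.ne
  suffices ∃ k, k * z = z * k ∧ k * (c * t₁ * c⁻¹) * k⁻¹ = t₂ by
    obtain ⟨k, hk, e⟩ := this
    exact ⟨k * c, ((show Commute k z from hk).mul_left hc).eq, by rw [← e]; group⟩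
  have h₁' := H.odd1_conj F₁.pr F₂.pr hc hcs h₁
  generalize c * t₁ * c⁻¹ = t at h₁'
  set s := g₂ * z * g₂⁻¹ with hsd
  obtain ⟨x, hx, y, hy, rfl, -, qx, qa, bxa⟩ := F₂.odd1_data h₁'
  obtain ⟨x₂, hx₂, y₂, hy₂, rfl, -, qx₂, qa₂, bxa₂⟩ := F₂.odd1_data h₂
  obtain ⟨k, hk, ks, ka, kb⟩ := H.normalise F₂.pr (F₂.mem_P.mp hx).1 (F₂.mem_P.mp (F₂.al_mem hy)).1
    (F₂.P_perp hx) (F₂.P_perp (F₂.al_mem hy)) qx qa bxa
  obtain ⟨k₂, hk₂, ks₂, ka₂, kb₂⟩ := H.normalise F₂.pr (F₂.mem_P.mp hx₂).1 (F₂.mem_P.mp (F₂.al_mem hy₂)).1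
    (F₂.P_perp hx₂) (F₂.P_perp (F₂.al_mem hy₂)) qx₂ qa₂ bxa₂
  obtain ⟨L, hL, hLv⟩ := H.par k₂ hk₂
  have hki : k⁻¹ * z = z * k⁻¹ := (show Commute k z from hk).inv_left.eq
  have hm : ∀ {p : G}, p ∈ Q → k⁻¹ * p * k ∈ Q := fun hp => by
    have := H.conj_mem hki hp; rwa [inv_inv] at this
  set d := k₂ * k⁻¹ with hd
  have hdz : d * z = z * d := (show Commute k₂ z from hk₂).mul_left (show Commute k⁻¹ z from hki)
  have hdv : ∀ {p : G}, p ∈ Q → v (d * p * d⁻¹) = app L (v (k⁻¹ * p * k)) := fun {p} hp => by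
    rw [show d * p * d⁻¹ = k₂ * (k⁻¹ * p * k) * k₂⁻¹ by rw [hd]; group, hLv _ (hm hp)]
  have hL1 : app L 1 = v s := by rw [← ks₂, H.v_conj_inv hk₂ F₂.pr.mem hLv]
  have hds : v (d * s * d⁻¹) = v s := by rw [hdv F₂.pr.mem, ks, hL1]
  obtain ⟨e, he, hes⟩ : ∃ e ∈ Q, (e * d) * s * (e * d)⁻¹ = s := by
    rcases H.eq_or (H.conj_mem hdz F₂.pr.mem) F₂.pr.mem hds with h | h
    · exact ⟨1, one_mem Q, by rw [one_mul]; exact h⟩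
    · refine ⟨u₂, F₂.uQ, ?_⟩
      rw [show u₂ * d * s * (u₂ * d)⁻¹ = u₂ * (d * s * d⁻¹) * u₂⁻¹ by group, h,
        show u₂ * (z * s) * u₂⁻¹ = (u₂ * z * u₂⁻¹) * (u₂ * s * u₂⁻¹) by group, F₂.us,
        H.commute_z F₂.uQ, mul_inv_cancel_right, ← mul_assoc, F₂.pr.s.zz, one_mul]
  set f := e * d with hf
  have hfz : f * z = z * f := (show Commute e z from H.commute_z he).mul_left hdz
  obtain ⟨M, hM, hMv⟩ := H.par f hfz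
  have hMw : ∀ {p : G}, p ∈ Q → app M (v p) = app L (v (k⁻¹ * p * k)) := fun {p} hp => by
    rw [← hMv p hp, show f * p * f⁻¹ = e * (d * p * d⁻¹) * e⁻¹ by rw [hf]; group,
      H.v_inner he (H.conj_mem hdz hp), hdv hp]
  have conv : ∀ {p p₂ : G} {w : V6}, p ∈ Q → p₂ ∈ Q → Eqm 1 (v (k⁻¹ * p * k)) w →
      Eqm 1 (v (k₂⁻¹ * p₂ * k₂)) w → Eqm (v s) (app M (v p)) (v p₂) := by
    intro p p₂ w hp hp₂ h h'
    have := Eqm.map L (h.trans h'.symm)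
    rw [hL1, ← hMw hp, H.v_conj_inv hk₂ hp₂ hLv] at this
    exact this
  obtain ⟨hy', htr⟩ := F₂.transport F₂ hfz hes hy
  have hx' : f * x * f⁻¹ ∈ P Q z g₂ := by
    refine F₂.mem_P.mpr ⟨H.conj_mem hfz (F₂.mem_P.mp hx).1, ?_⟩
    have := (show Commute x s from (F₂.mem_P.mp hx).2).map (MulAut.conj f)
    rw [MulAut.conj_apply, MulAut.conj_apply, hes] at this
    exact this
  have ex : Eqm (v s) (v (f * x * f⁻¹)) (v x₂) := by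
    rw [hMv x (F₂.mem_P.mp hx).1]
    exact conv (F₂.mem_P.mp hx).1 (F₂.mem_P.mp hx₂).1 ka ka₂
  have ey : Eqm (v s) (v (al u₂ (f * y * f⁻¹))) (v (al u₂ y₂)) :=
    (htr M hMv).trans (conv (F₂.mem_P.mp (F₂.al_mem hy)).1 (F₂.mem_P.mp (F₂.al_mem hy₂)).1 kb kb₂)
  have hεx : f * x * f⁻¹ * x₂⁻¹ ∈ V z g₂ :=
    F₂.mem_V_of (mul_mem (F₂.mem_P.mp hx').1 (inv_mem (F₂.mem_P.mp hx₂).1)) (by
      rw [H.mul _ (F₂.mem_P.mp hx').1 _ (inv_mem (F₂.mem_P.mp hx₂).1), H.v_inv (F₂.mem_P.mp hx₂).1]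
      have := Eqm.xr ex (Eqm.refl (v s) (v x₂))
      rwa [xr_self] at this)
  have hεy : y₂⁻¹ * (f * y * f⁻¹) ∈ V z g₂ := F₂.al_cancel hy₂ hy' ey.symm
  set ε := f * x * f⁻¹ * x₂⁻¹ * (y₂⁻¹ * (f * y * f⁻¹)) with hε
  have hc1 : Commute (y₂⁻¹ * (f * y * f⁻¹)) (x₂ * y₂) :=
    (F₂.V_central hεy (Or.inl hx₂)).mul_right (F₂.V_central hεy (Or.inr hy₂))
  have hft : f * (x * y) * f⁻¹ = ε * (x₂ * y₂) := by
    rw [hε, mul_assoc (f * x * f⁻¹ * x₂⁻¹), hc1.eq]; group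
  obtain ⟨p, hpQ, hp⟩ := F₂.translate h₂ (mul_mem hεx hεy)
  refine ⟨p⁻¹ * f, ((show Commute p z from H.commute_z hpQ).inv_left.mul_left hfz).eq, ?_⟩
  calc p⁻¹ * f * (x * y) * (p⁻¹ * f)⁻¹ = p⁻¹ * (f * (x * y) * f⁻¹) * p := by group
    _ = p⁻¹ * (p * (x₂ * y₂) * p⁻¹) * p := by rw [hft, hp]
    _ = x₂ * y₂ := by group

end CfsgLib.SuzUnique
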