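import Cfsg.Agent.Lib.SuzUnique.Gens
import Cfsg.Agent.Lib.SuzUnique.CheckF
import Cfsg.Agent.Lib.SuzUnique.CheckU
import Cfsg.Agent.Lib.SuzUnique.CheckW

/-!
The product of order fifteen has fifth power a generator of the group of order three.
-/

set_option autoImplicit false
set_option maxRecDepth 100000
set_option maxHeartbeats 1000000
set_option linter.style.haveILetI false

namespace CfsgLib.SuzUnique

open CfsgLib.SuzType CfsgLib.SuzThree CfsgLib.Extraspecial CfsgLib.CosetEnum
open CfsgLib.UFourType (gen9 triv9 inv9 gensW xWords)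

theorem letters_check : ((List.range 9).all fun l =>
    (gensW.getD l []).all (fun j => Nat.blt j 2) &&
      eqv [l] (((gensW.getD l []).map fun j => xWords.getD j []).flatten)) = true := by
  decide +kernel

/-- the letters of the certificates -/
def cgen {G : Type*} [Group G] (k : ℕ) (z c f g b d : G) (n : ℕ) : G :=
  if n < k then ([z, c, f, g, b, d] : List G).getD n 1 else 1

/-- The group of the five generators centralising the four-group is small. -/
theorem five_small {G : Type*} [Group G] [Finite G] {z y e b c d f g x : G} (R : Six z y e b c d f g x)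
    (hext : z * c * b * z * c * b * z * c * b * c * z * b * c * z * b = 1) :
    Nat.card (genSub (cgen 6 z c f g b d) 5) ≤ 20160 := by
  have sub_eq : ∀ k ≤ 6, genSub (cgen 6 z c f g b d) k = genSub (cgen k z c f g b d) k := by
    intro k hk
    refine congrArg Subgroup.closure (Set.ext fun w => ?_)
    constructor <;> rintro ⟨n, hn, rfl⟩ <;> exact ⟨n, hn, by simp only [cgen, hn, hn.trans_le hk, if_true]⟩
  have mem : ∀ n, n < 6 → cgen 6 z c f g b d n * cgen 6 z c f g b d n = 1 := by
    intro n hn
    interval_cases n <;> simp [cgen, R.zz, R.cc, R.ff, R.gg, R.bb, R.dd]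
  have inv_ok : ∀ k ≤ 6, ∀ n, cgen k z c f g b d n * cgen k z c f g b d n = 1 := by
    intro k hk n
    by_cases h : n < k
    · have := mem n (h.trans_le hk)
      simpa only [cgen, h, h.trans_le hk, if_true] using this
    · simp [cgen, h]
  have m4 : CfsgLib.CosetEnum.Model certF (⊥ : Subgroup G) (cgen 4 z c f g b d) := by
    refine ⟨by simp [cgen, certF], fun n => ?_, ?_, fun w hw => by simp [certF] at hw⟩
    · have : certF.inv n = n := by
        simp only [Cert.inv, certF]
        rcases Nat.lt_or_ge n 4 with h | h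
        · interval_cases n <;> rfl
        · rw [List.getD_eq_default _ _ (by simpa using h)]
      rw [this]; exact inv_ok 4 (by norm_num) n
    · intro r hr
      simp only [certF, List.mem_cons, List.not_mem_nil, or_false] at hr
      rcases hr with rfl | rfl | rfl | rfl | rfl | rfl | rfl | rfl | rfl | rfl | rfl <;>
        simp only [prodW, cgen, List.map_cons, List.map_nil, List.prod_cons, List.prod_nil, List.getD_cons_zero,
          List.getD_cons_succ, Nat.reduceLT, if_true, mul_one]
      · exact R.zz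
      · rw [← mul_assoc c z c, ← R.ac.eq, mul_assoc, R.cc, mul_one, R.zz]
      · rw [← mul_assoc f z f, ← R.af.eq, mul_assoc, R.ff, mul_one, R.zz]
      · rw [← mul_assoc g z g, ← R.ag.eq, mul_assoc, R.gg, mul_one, R.zz]
      · exact R.cc
      · rw [← mul_assoc f c f, ← R.cf.eq, mul_assoc, R.ff, mul_one, R.cc]
      · rw [← mul_assoc g c g, ← R.cg.eq, mul_assoc, R.gg, mul_one, R.cc]
      · exact R.ff
      · calc f * (g * (f * (g * (f * (g * (f * g)))))) = (f * g) ^ 2 * (f * g) ^ 2 := by
              simp only [pow_two, mul_assoc]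
          _ = 1 := by rw [R.fg, R.zz]
      · exact R.gg
      · calc z * (g * (f * (g * f))) = z * ((f⁻¹ * (f * g) ^ 2 * f)) := by rw [pow_two]; group
          _ = z * (f⁻¹ * (z * f)) := by rw [R.fg]; group
          _ = 1 := by rw [R.af.eq, inv_mul_cancel_left, R.zz]
  have h4 : Nat.card (genSub (cgen 6 z c f g b d) 4) ≤ 16 := by
    rw [sub_eq 4 (by norm_num)]
    have := (CfsgLib.CosetEnum.finite_card_le certF_complete m4 1 (by simp)).2
    simpa [genSub, certF] using this
  have abcf5 := R.abcf
  have bfg5 := R.bfg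
  have dcd : d * c * d * (d * c * d) = 1 := by
    rw [show d * c * d * (d * c * d) = d * c * (d * d) * c * d by group, R.dd, mul_one, mul_assoc d c c, R.cc, mul_one, R.dd]
  have m5 : CfsgLib.CosetEnum.Model certU (genSub (cgen 6 z c f g b d) 4) (cgen 5 z c f g b d) := by
    refine ⟨by simp [cgen, certU], fun n => ?_, ?_, ?_⟩
    · have : certU.inv n = n := by
        simp only [Cert.inv, certU]
        rcases Nat.lt_or_ge n 5 with h | h
        · interval_cases n <;> rfl
        · rw [List.getD_eq_default _ _ (by simpa using h)]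
      rw [this]; exact inv_ok 5 (by norm_num) n
    · intro r hr
      simp only [certU, List.mem_cons, List.not_mem_nil, or_false] at hr
      rcases hr with rfl | rfl | rfl | rfl | rfl | rfl | rfl | rfl | rfl | rfl | rfl | rfl | rfl | rfl | rfl | rfl |
        rfl | rfl | rfl <;>
        simp only [prodW, cgen, List.map_cons, List.map_nil, List.prod_cons, List.prod_nil, List.getD_cons_zero,
          List.getD_cons_succ, Nat.reduceLT, if_true, mul_one]
      · exact R.zz
      · simpa [pow_succ, mul_assoc] using R.ab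
      · rw [← mul_assoc c z c, ← R.ac.eq, mul_assoc, R.cc, mul_one, R.zz]
      · rw [← mul_assoc f z f, ← R.af.eq, mul_assoc, R.ff, mul_one, R.zz]
      · rw [← mul_assoc g z g, ← R.ag.eq, mul_assoc, R.gg, mul_one, R.zz]
      · exact R.bb
      · simpa [pow_succ, mul_assoc] using R.bc
      · simpa [pow_succ, mul_assoc] using R.bf
      · calc b * (g * (b * (g * (b * g)))) = g⁻¹ * (g * b) ^ 3 * g := by simp only [pow_succ, pow_zero, one_mul]; group
          _ = 1 := by rw [R.gb]; group
      · exact R.cc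
      · rw [← mul_assoc f c f, ← R.cf.eq, mul_assoc, R.ff, mul_one, R.cc]
      · rw [← mul_assoc g c g, ← R.cg.eq, mul_assoc, R.gg, mul_one, R.cc]
      · exact R.ff
      · calc f * (g * (f * (g * (f * (g * (f * g)))))) = (f * g) ^ 2 * (f * g) ^ 2 := by
              simp only [pow_two, mul_assoc]
          _ = 1 := by rw [R.fg, R.zz]
      · exact R.gg
      · calc z * (g * (f * (g * f))) = z * ((f⁻¹ * (f * g) ^ 2 * f)) := by rw [pow_two]; group
          _ = z * (f⁻¹ * (z * f)) := by rw [R.fg]; group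
          _ = 1 := by rw [R.af.eq, inv_mul_cancel_left, R.zz]
      · simpa [pow_succ, mul_assoc] using abcf5
      · simpa [pow_succ, mul_assoc] using bfg5
      · simpa [mul_assoc] using hext
    · intro w hw
      simp only [certU, List.mem_cons, List.not_mem_nil, or_false] at hw
      rcases hw with rfl | rfl | rfl | rfl <;> refine Subgroup.subset_closure ?_
      exacts [⟨0, by norm_num, by simp [prodW, cgen]⟩,
        ⟨1, by norm_num, by simp [prodW, cgen]⟩,
        ⟨2, by norm_num, by simp [prodW, cgen]⟩,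
        ⟨3, by norm_num, by simp [prodW, cgen]⟩]
  have h5 : Nat.card (genSub (cgen 6 z c f g b d) 5) ≤ 20160 := by
    rw [sub_eq 5 (by norm_num)]
    have := (CfsgLib.CosetEnum.finite_card_le certU_complete m5 16 h4).2
    simpa [genSub, certU] using this
  exact h5

/-- The group of the six generators is small when the fifth power is trivial. -/
theorem six_small {G : Type*} [Group G] [Finite G] {z y e b c d f g x : G} (R : Six z y e b c d f g x)
    (hp : (b * c * x) ^ 5 = 1) (hext : z * c * b * z * c * b * z * c * b * c * z * b * c * z * b = 1) :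
    Nat.card (genSub (cgen 6 z c f g b d) 6) ≤ 6531840 := by
  have h5 := five_small R hext
  have abcf5 := R.abcf
  have bfg5 := R.bfg
  have inv_ok : ∀ n, cgen 6 z c f g b d n * cgen 6 z c f g b d n = 1 := by
    intro n
    rcases Nat.lt_or_ge n 6 with h | h
    · interval_cases n <;> simp [cgen, R.zz, R.cc, R.ff, R.gg, R.bb, R.dd]
    · simp [cgen, Nat.not_lt.mpr h]
  have m6 : CfsgLib.CosetEnum.Model certW (genSub (cgen 6 z c f g b d) 5) (cgen 6 z c f g b d) := by
    refine ⟨by simp [cgen, certW], fun n => ?_, ?_, ?_⟩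
    · have : certW.inv n = n := by
        simp only [Cert.inv, certW]
        rcases Nat.lt_or_ge n 6 with h | h
        · interval_cases n <;> rfl
        · rw [List.getD_eq_default _ _ (by simpa using h)]
      rw [this]; exact inv_ok n
    · intro r hr
      simp only [certW, List.mem_cons, List.not_mem_nil, or_false] at hr
      rcases hr with rfl | rfl | rfl | rfl | rfl | rfl | rfl | rfl | rfl | rfl | rfl | rfl | rfl | rfl | rfl | rfl |
        rfl | rfl | rfl | rfl | rfl | rfl | rfl | rfl | rfl | rfl | rfl <;>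
        simp only [prodW, cgen, List.map_cons, List.map_nil, List.prod_cons, List.prod_nil, List.getD_cons_zero,
          List.getD_cons_succ, Nat.reduceLT, if_true, mul_one]
      · exact R.zz
      · simpa [pow_succ, mul_assoc] using R.ab
      · rw [← mul_assoc c z c, ← R.ac.eq, mul_assoc, R.cc, mul_one, R.zz]
      · rw [← mul_assoc d z d, ← R.ad.eq, mul_assoc, R.dd, mul_one, R.zz]
      · rw [← mul_assoc f z f, ← R.af.eq, mul_assoc, R.ff, mul_one, R.zz]
      · rw [← mul_assoc g z g, ← R.ag.eq, mul_assoc, R.gg, mul_one, R.zz]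
      · exact R.bb
      · simpa [pow_succ, mul_assoc] using R.bc
      · rw [← mul_assoc d b d, ← R.bd.eq, mul_assoc, R.dd, mul_one, R.bb]
      · simpa [pow_succ, mul_assoc] using R.bf
      · calc b * (g * (b * (g * (b * g)))) = g⁻¹ * (g * b) ^ 3 * g := by simp only [pow_succ, pow_zero, one_mul]; group
          _ = 1 := by rw [R.gb]; group
      · exact R.cc
      · calc c * (d * (c * (d * (c * (d * (c * (d * (c * (d * (c * (d * (c * (d * (c * d))))))))))))))
            = (c * d) ^ 4 * (c * d) ^ 4 := by simp only [pow_succ, pow_zero, one_mul, mul_assoc]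
          _ = 1 := by rw [R.cd, R.zz]
      · rw [← mul_assoc f c f, ← R.cf.eq, mul_assoc, R.ff, mul_one, R.cc]
      · rw [← mul_assoc g c g, ← R.cg.eq, mul_assoc, R.gg, mul_one, R.cc]
      · exact R.dd
      · rw [← mul_assoc f d f, ← R.df.eq, mul_assoc, R.ff, mul_one, R.dd]
      · rw [← mul_assoc g d g, ← R.dg.eq, mul_assoc, R.gg, mul_one, R.dd]
      · exact R.ff
      · calc f * (g * (f * (g * (f * (g * (f * g)))))) = (f * g) ^ 2 * (f * g) ^ 2 := by
              simp only [pow_two, mul_assoc]
          _ = 1 := by rw [R.fg, R.zz]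
      · exact R.gg
      · calc z * (d * (c * (d * (c * (d * (c * (d * c)))))))
            = z * (c⁻¹ * (c * d) ^ 4 * c) := by simp only [pow_succ, pow_zero, one_mul]; group
          _ = z * (c⁻¹ * (z * c)) := by rw [R.cd]; group
          _ = 1 := by rw [R.ac.eq, inv_mul_cancel_left, R.zz]
      · calc z * (g * (f * (g * f))) = z * ((f⁻¹ * (f * g) ^ 2 * f)) := by rw [pow_two]; group
          _ = z * (f⁻¹ * (z * f)) := by rw [R.fg]; group
          _ = 1 := by rw [R.af.eq, inv_mul_cancel_left, R.zz]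
      · simpa [pow_succ, mul_assoc] using abcf5
      · simpa [pow_succ, mul_assoc] using bfg5
      · rw [R.xeq] at hp
        simpa [pow_succ, mul_assoc] using hp
      · simpa [mul_assoc] using hext
    · intro w hw
      simp only [certW, List.mem_cons, List.not_mem_nil, or_false] at hw
      rcases hw with rfl | rfl | rfl | rfl | rfl <;> refine Subgroup.subset_closure ?_
      exacts [⟨0, by norm_num, by simp [prodW, cgen]⟩,
        ⟨1, by norm_num, by simp [prodW, cgen]⟩,
        ⟨2, by norm_num, by simp [prodW, cgen]⟩,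
        ⟨3, by norm_num, by simp [prodW, cgen]⟩,
        ⟨4, by norm_num, by simp [prodW, cgen]⟩]
  have := (CfsgLib.CosetEnum.finite_card_le certW_complete m6 20160 h5).2
  simpa [genSub, certW] using this

variable {G : Type*} [Group G] [Finite G] {z y i p a s d e : G} {Q : Subgroup G} {v : G → V6}

local notation "W" => prodW (gen9 i p a s d)

namespace SF

variable (S : SF z Q v y i p a s d)
include S

/-- A subgroup containing representatives of the two generators covers the centraliser. -/
theorem cover {K : Subgroup G} (h0 : ∃ k ∈ K, Cg y i p a s d (xWords.getD 0 []) k)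
    (h1 : ∃ k ∈ K, Cg y i p a s d (xWords.getD 1 []) k) {c : G} (hc : Commute c y) :
    ∃ k ∈ K, k⁻¹ * c ∈ Subgroup.zpowers y := by
  obtain ⟨u, hu, hm⟩ := S.gen c hc
  have hx : ∀ w ∈ xWords, ∃ k ∈ K, Cg y i p a s d w k := by
    intro w hw
    simp only [xWords, List.mem_cons, List.not_mem_nil, or_false] at hw
    rcases hw with rfl | rfl
    exacts [h0, h1]
  have hl : ∀ u : List ℕ, (∀ l ∈ u, l < 9) → ∃ k ∈ K, Cg y i p a s d u k := by
    intro u
    induction u with
    | nil => exact fun _ => ⟨1, one_mem K, by simpa using S.cg_self []⟩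
    | cons l u ih =>
      intro hu
      obtain ⟨k, hk, hku⟩ := ih fun m hm => hu m (List.mem_cons_of_mem _ hm)
      obtain ⟨k', hk', hkl⟩ := S.cg_flat hx (gensW.getD l [])
      have hl := hu l List.mem_cons_self
      have hcheck := letters_check
      simp only [List.all_eq_true, List.mem_range, Bool.and_eq_true] at hcheck
      have he := S.eqv_spec (hcheck l hl).2
      have hk2 : Cg y i p a s d [l] k' := by
        refine ⟨hkl.1, ?_⟩
        have := mul_mem he hkl.2
        rwa [show (W [l])⁻¹ * W ((gensW.getD l []).map fun j => xWords.getD j []).flatten *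
          ((W ((gensW.getD l []).map fun j => xWords.getD j []).flatten)⁻¹ * k') = (W [l])⁻¹ * k' by group] at this
      exact ⟨k' * k, mul_mem hk' hk, S.cg_mul hk2 hku⟩
  obtain ⟨k, hk, hku⟩ := hl u hu
  refine ⟨k, hk, ?_⟩
  have := mul_mem (inv_mem hku.2) hm
  rwa [show ((W u)⁻¹ * k)⁻¹ * ((W u)⁻¹ * c) = k⁻¹ * c by group] at this

/-- Perfection puts the centraliser inside every subgroup covering it modulo the centre. -/
theorem cent_le {F : Type} [Field F] [Fintype F] (hF : Fintype.card F = 9) {K : Subgroup G}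
    (h0 : ∃ k ∈ K, Cg y i p a s d (xWords.getD 0 []) k)
    (h1 : ∃ k ∈ K, Cg y i p a s d (xWords.getD 1 []) k) :
    (∀ c, Commute c y → c ∈ K) ∧
      Nat.card (Subgroup.centralizer ((Subgroup.zpowers y : Subgroup G) : Set G)) = 9797760 := by
  set B := Subgroup.zpowers y with hB
  set C := Subgroup.centralizer (B : Set G) with hC
  have memC : ∀ g, g ∈ C ↔ Commute g y := by
    intro g
    rw [hC, hB, Subgroup.zpowers_eq_closure, Subgroup.centralizer_closure, Subgroup.mem_centralizer_singleton_iff]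
    rfl
  haveI hnorm : (B.subgroupOf C).Normal := ⟨fun n hn g => by
    have h := Subgroup.mem_centralizer_iff.mp g.2 _ (show (n : G) ∈ B from hn)
    have e : g * n * g⁻¹ = n := Subtype.ext (by
      show (g : G) * (n : G) * (g : G)⁻¹ = (n : G)
      rw [← h, mul_inv_cancel_right])
    rw [e]; exact hn⟩
  obtain ⟨hqs, -, -⟩ := CfsgLib.SuzThree.conclusion S.yd rfl F hF
  have hle : commutator ↥C ≤ K.subgroupOf C := by
    rw [commutator_def, Subgroup.commutator_le]
    rintro ⟨g, hg⟩ - ⟨g', hg'⟩ -
    show g * g' * g⁻¹ * g'⁻¹ ∈ K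
    obtain ⟨k, hk, hm⟩ := S.cover h0 h1 ((memC g).mp hg)
    obtain ⟨k', hk', hm'⟩ := S.cover h0 h1 ((memC g').mp hg')
    set n := k⁻¹ * g with hn
    set n' := k'⁻¹ * g' with hn'
    have eg : g = k * n := by rw [hn]; group
    have eg' : g' = k' * n' := by rw [hn']; group
    have c1 : Commute g' n := pow_commute ((memC g').mp hg') hm
    have c2 : Commute n' n := pow_commute (pow_commute (Commute.refl y) hm').symm hm
    have c3 : Commute k' n := by
      have := c1.mul_left c2.inv_left
      rwa [eg', mul_inv_cancel_right] at this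
    have c4 : Commute k n' := by
      have d1 : Commute g n' := pow_commute ((memC g).mp hg) hm'
      have := d1.mul_left c2.symm.inv_left
      rwa [eg, mul_inv_cancel_right] at this
    have : g * g' * g⁻¹ * g'⁻¹ = k * k' * k⁻¹ * k'⁻¹ := by
      rw [eg, eg']
      calc k * n * (k' * n') * (k * n)⁻¹ * (k' * n')⁻¹ = k * (n * k') * (n' * n⁻¹) * k⁻¹ * n'⁻¹ * k'⁻¹ := by group
        _ = k * (k' * n) * (n⁻¹ * n') * k⁻¹ * n'⁻¹ * k'⁻¹ := by rw [c3.eq, c2.inv_right.eq]
        _ = k * k' * (n' * k⁻¹) * n'⁻¹ * k'⁻¹ := by group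
        _ = k * k' * (k⁻¹ * n') * n'⁻¹ * k'⁻¹ := by rw [c4.inv_left.eq]
        _ = _ := by group
    rw [this]
    exact mul_mem (mul_mem (mul_mem hk hk') (inv_mem hk)) (inv_mem hk')
  have hperf : commutator ↥C = ⊤ := hqs.1.commutator_eq_top
  refine ⟨fun c hc => hle (hperf ▸ Subgroup.mem_top (⟨c, (memC c).mpr hc⟩ : ↥C)), ?_⟩
  obtain ⟨α, β, GDd⟩ := S.yd.exists_gd
  obtain ⟨αq, βq, zb, Qb, huC, -, -, -, -, -, hyp⟩ := GDd.hyp (B := B) rfl
  obtain ⟨-, hcard, -⟩ := hyp.main hF
  have := Subgroup.card_eq_card_quotient_mul_card_subgroup (B.subgroupOf C)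
  rw [hcard, Nat.card_congr (Subgroup.subgroupOfEquivOfLe (show B ≤ C from fun n hn =>
    (memC n).mpr (pow_commute (Commute.refl y) hn).symm)).toEquiv, hB, Nat.card_zpowers,
    orderOf_eq_prime (p := 3) (by rw [pow_succ, pow_two, S.y3]) S.yd.ne_one] at this
  exact this

end SF

namespace VD

variable {C : UCase} (D : VD z Q v y i p a s d e C)
include D

theorem ext_rel {b d' g x : G} (R : Six z y e b (W wb1) d' (W wa2) g x) (cb : Cg y i p a s d C.wB b)
    (hbU : b ∈ uG y e) (hcU : W wb1 ∈ uG y e) :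
    z * W wb1 * b * z * W wb1 * b * z * W wb1 * b * W wb1 * z * b * W wb1 * z * b = 1 := by
  have S := D.sf
  have hext : triv9 (C.wSix [0, 2, 1, 0, 2, 1, 0, 2, 1, 2, 0, 1, 2, 0, 1]) = true := by
    have ok := D.ok
    simp only [caseOK, uRels, Bool.and_eq_true, List.all_cons, List.all_nil, Bool.and_true] at ok
    obtain ⟨⟨⟨⟨⟨⟨⟨⟨⟨⟨⟨⟨⟨⟨⟨⟨⟨⟨-, -, -, -, -, -, -, -, -, -, -, -, h⟩, -⟩, -⟩, -⟩, -⟩, -⟩, -⟩, -⟩, -⟩, -⟩, -⟩, -⟩, -⟩, -⟩, -⟩, -⟩, -⟩, -⟩ := ok
    exact h
  have hzU : z ∈ uG y e := mem_uG.mpr ⟨R.zy, R.ae⟩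
  set c := W wb1 with hc
  have cz : Cg y i p a s d [0, 0] z := by have := S.cg_self [0, 0]; rwa [S.z_word] at this
  have cC : Cg y i p a s d wb1 c := S.cg_self _
  refine D.u_unit (u := C.wSix [0, 2, 1, 0, 2, 1, 0, 2, 1, 2, 0, 1, 2, 0, 1]) ?_ ?_ hext
  · have h := S.cg_mul (S.cg_mul (S.cg_mul (S.cg_mul (S.cg_mul (S.cg_mul (S.cg_mul (S.cg_mul (S.cg_mul (S.cg_mul
      (S.cg_mul (S.cg_mul (S.cg_mul (S.cg_mul cz cC) cb) cz) cC) cb) cz) cC) cb) cC) cz) cb) cC) cz) cb
    simpa [UCase.wSix, UCase.six, List.append_assoc] using h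
  · have hb := hbU
    have hc := hcU
    repeat' first | exact hzU | exact hb | exact hc | apply mul_mem

theorem p_ne {F : Type} [Field F] [Fintype F] (hF : Fintype.card F = 9) {b d' g x : G}
    (R : Six z y e b (W wb1) d' (W wa2) g x) (cb : Cg y i p a s d C.wB b) (cg : Cg y i p a s d C.wG g)
    (cx : Cg y i p a s d C.wX x) (hbU : b ∈ uG y e) (hcU : W wb1 ∈ uG y e) :
    (b * W wb1 * x) ^ 5 ≠ 1 := by
  intro hp
  have S := D.sf
  set c := W wb1 with hc
  set f := W wa2 with hf
  have ok := D.ok
  simp only [caseOK, uRels, Bool.and_eq_true, List.all_cons, List.all_nil, Bool.and_true] at ok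
  obtain ⟨⟨hgx, hx0⟩, hx1⟩ := ok
  set Hw := genSub (cgen 6 z c f g b d') 6 with hHw
  set K := Hw ⊓ Subgroup.centralizer ({y} : Set G) with hK
  have mem : ∀ n < 6, ([z, c, f, g, b, d'] : List G).getD n 1 ∈ Hw := fun n hn =>
    Subgroup.subset_closure ⟨n, hn, by simp [cgen, hn]⟩
  have inK : ∀ {w : G}, w ∈ Hw → Commute w y → w ∈ K := fun h h' =>
    Subgroup.mem_inf.mpr ⟨h, Subgroup.mem_centralizer_singleton_iff.mpr h'.eq⟩
  have hd : d' ∈ Hw := by simpa using mem 5 (by norm_num)
  have hcH : c ∈ Hw := by simpa using mem 1 (by norm_num)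
  have six : ∀ u ∈ C.six, ∃ k ∈ K, Cg y i p a s d u k := by
    intro u hu
    simp only [UCase.six, List.mem_cons, List.not_mem_nil, or_false] at hu
    rcases hu with rfl | rfl | rfl | rfl | rfl | rfl
    · exact ⟨z, inK (by simpa using mem 0 (by norm_num)) R.zy, by have := S.cg_self [0, 0]; rwa [S.z_word] at this⟩
    · exact ⟨b, inK (by simpa using mem 4 (by norm_num)) R.b_y, cb⟩
    · exact ⟨c, inK hcH R.c_y, S.cg_self _⟩
    · exact ⟨f, inK (by simpa using mem 2 (by norm_num)) R.f_y, S.cg_self _⟩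
    · exact ⟨g, inK (by simpa using mem 3 (by norm_num)) R.g_y, cg⟩
    · exact ⟨x, inK (by rw [R.xeq]; exact mul_mem (mul_mem hd hcH) hd) R.x_y, cx⟩
  have h0 : ∃ k ∈ K, Cg y i p a s d (CfsgLib.UFourType.xWords.getD 0 []) k := by
    obtain ⟨k, hk, h⟩ := S.cg_flat six C.x0
    exact ⟨k, hk, S.cg_eqv h hx0⟩
  have h1 : ∃ k ∈ K, Cg y i p a s d (CfsgLib.UFourType.xWords.getD 1 []) k := by
    obtain ⟨k, hk, h⟩ := S.cg_flat six C.x1
    exact ⟨k, hk, S.cg_eqv h hx1⟩
  obtain ⟨hle, hcard⟩ := S.cent_le hF h0 h1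
  have hext' := D.ext_rel R cb hbU hcU
  have hsmall := six_small R hp hext'
  have hdK : d' ∉ K := fun h => by
    have hdy : Commute d' y := Subgroup.mem_centralizer_singleton_iff.mp h.2
    have := R.dyd
    rw [hdy.eq, mul_assoc, R.dd, mul_one] at this
    exact S.yd.ne_one (eq_one_of_cube_sq S.y3 (inv_eq_iff_mul_eq_one.mp this.symm))
  have hKlt : K ≠ Hw := fun e' => hdK (e'.symm ▸ hd)
  have hdvd := Subgroup.card_dvd_of_le (inf_le_left : K ≤ Hw)
  have hne : Nat.card K ≠ Nat.card Hw := fun e' => hKlt (Subgroup.eq_of_le_of_card_ge inf_le_left e'.ge)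
  have hge : 9797760 ≤ Nat.card K := hcard ▸ Subgroup.card_le_of_le fun c hc => hle c (by
    rw [Subgroup.zpowers_eq_closure, Subgroup.centralizer_closure, Subgroup.mem_centralizer_singleton_iff] at hc
    exact hc)
  obtain ⟨t, ht⟩ := hdvd
  have hsm : Nat.card Hw ≤ 6531840 := hsmall
  rcases t with _ | _ | t
  · rw [Nat.mul_zero] at ht; exact absurd ht Nat.card_pos.ne'
  · rw [Nat.zero_add, Nat.mul_one] at ht; exact hne ht.symm
  · nlinarith

end VD

end CfsgLib.SuzUnique
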