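import Cfsg.Agent.Lib.SuzUnique.Four

/-!
The stabiliser of a four-group among the elements normalising an elementary group.
-/

set_option autoImplicit false
set_option maxRecDepth 100000
set_option maxHeartbeats 1000000

namespace CfsgLib.SuzUnique

open CfsgLib.SuzType CfsgLib.SuzThree CfsgLib.Extraspecial CfsgLib.CosetEnum
open CfsgLib.UFourType (gen9 inv9)

/-- the words of the elements of an elementary group -/
def eList (wa wb wt : List ℕ) : List (List ℕ) :=
  [[], [0, 0]].flatMap fun a => [[], wa].flatMap fun b => [[], wb].flatMap fun c => [[], wt].map fun d => a ++ b ++ c ++ d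

/-- an elementary group in words -/
noncomputable def eOK (wa wb wt : List ℕ) (va vb : V6) (T : Lin) (reps : List Lin) : Bool :=
  exact1 ([0, 0] ++ [0, 0]) && (eqL (linW wa) L1 && eqL (linW wb) L1 && eqL (linW wt) T) &&
    (low wa && low wb && low wt) && exact1 (wt ++ wt) &&
    exact1 (wt ++ wa ++ inv9 wt ++ inv9 wa) && exact1 (wt ++ wb ++ inv9 wt ++ inv9 wb) &&
    ((eList wa wb wt).all fun e => exact1 (e ++ e) && e.all fun l => Nat.blt l 9) && fourOK va vb T reps

/-- a word normalising the elementary group -/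
noncomputable def normOK (wa wb wt u : List ℕ) : Bool :=
  u.all (fun l => Nat.blt l 9) &&
    [[0, 0], wa, wb].all fun e => (eList wa wb wt).any fun e' => eqv (inv9 u ++ e ++ u) e'

/-- a word in the given elements, up to the elementary group -/
noncomputable def expOK (gens : List (List ℕ)) (target : List ℕ) (ix : List ℕ) (f : List ℕ) : Bool :=
  eqv target ((ix.map fun j => gens.getD j []).flatten ++ f)

variable {G : Type*} [Group G] [Finite G] {z y i p a s d : G} {Q : Subgroup G} {v : G → V6}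

local notation "W" => prodW (gen9 i p a s d)

/-- stabilisers of a four-group -/
def Fix (y v0 : G) : Set G := {n | Commute n y ∧ InV y v0 (n * v0 * n⁻¹)}

omit [Finite G] in
theorem inV_shift (y3 : y * y * y = 1) {v0 x : G} (h : InV y v0 x) : InV y v0 (y * x * y⁻¹) := by
  rcases h with rfl | rfl | rfl
  · exact Or.inr (Or.inl rfl)
  · exact Or.inr (Or.inr (by group))
  · refine Or.inl ?_
    rw [show y * (y * y * v0 * (y * y)⁻¹) * y⁻¹ = y * y * y * v0 * (y * y * y)⁻¹ by group, y3]; group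

omit [Finite G] in
theorem fix_mul (y3 : y * y * y = 1) {v0 n m : G} (hn : n ∈ Fix y v0) (hm : m ∈ Fix y v0) : n * m ∈ Fix y v0 := by
  obtain ⟨hny, hnv⟩ := hn
  obtain ⟨hmy, hmv⟩ := hm
  refine ⟨hny.mul_left hmy, ?_⟩
  rw [show n * m * v0 * (n * m)⁻¹ = n * (m * v0 * m⁻¹) * n⁻¹ by group]
  have e : ∀ x, n * (y * x * y⁻¹) * n⁻¹ = y * (n * x * n⁻¹) * y⁻¹ := fun x => by
    calc n * (y * x * y⁻¹) * n⁻¹ = (n * y) * x * (n * y)⁻¹ := by group
      _ = (y * n) * x * (y * n)⁻¹ := by rw [hny.eq]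
      _ = _ := by group
  rcases hmv with h | h | h <;> rw [h]
  · exact hnv
  · rw [e]; exact inV_shift y3 hnv
  · rw [show y * y * v0 * (y * y)⁻¹ = y * (y * v0 * y⁻¹) * y⁻¹ by group, e, e]
    exact inV_shift y3 (inV_shift y3 hnv)

omit [Finite G] in
theorem fix_one (v0 : G) : (1 : G) ∈ Fix y v0 := ⟨Commute.one_left y, Or.inl (by group)⟩

/-- the stabiliser as a subgroup -/
def fixGrp (y v0 : G) (y3 : y * y * y = 1) : Subgroup G where
  carrier := Fix y v0
  mul_mem' := fix_mul y3
  one_mem' := fix_one v0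
  inv_mem' := fun {x} hx => by
    have hp : ∀ n : ℕ, x ^ n ∈ Fix y v0 := fun n => by
      induction n with
      | zero => rw [pow_zero]; exact fix_one v0
      | succ n ih => rw [pow_succ]; exact fix_mul y3 ih hx
    have e : x⁻¹ = x ^ (orderOf x - 1) := by
      refine inv_eq_of_mul_eq_one_right ?_
      rw [← pow_succ', Nat.sub_add_cancel (orderOf_pos x), pow_orderOf_eq_one]
    rw [e]; exact hp _

theorem mem_fixGrp {y3 : y * y * y = 1} {v0 n : G} : n ∈ fixGrp y v0 y3 ↔ n ∈ Fix y v0 := Iff.rfl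

omit [Finite G] in
theorem y_fix (v0 : G) : y ∈ Fix y v0 := ⟨Commute.refl y, Or.inr (Or.inl rfl)⟩

theorem pow_fix (y3 : y * y * y = 1) {v0 n : G} (hn : n ∈ Subgroup.zpowers y) : n ∈ fixGrp y v0 y3 :=
  (Subgroup.zpowers_le.mpr (show y ∈ fixGrp y v0 y3 from y_fix v0)) hn

omit [Finite G] in
/-- An involution stabilising the four-group centralises it. -/
theorem fix_invol {qa qb v0 n : G} (y3 : y * y * y = 1) (hv : IsV z y qa qb v0) (hn : n ∈ Fix y v0) (h2 : n * n = 1) :
    Commute n v0 := by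
  obtain ⟨hny, hnv⟩ := hn
  obtain ⟨hv2, hv1, -, -, -, hp⟩ := hv
  have e : n * (n * v0 * n⁻¹) * n⁻¹ = v0 := by
    rw [show n * (n * v0 * n⁻¹) * n⁻¹ = (n * n) * v0 * (n * n)⁻¹ by group, h2]; group
  have c : ∀ k : G, Commute n k → n * (k * v0 * k⁻¹) * n⁻¹ = k * (n * v0 * n⁻¹) * k⁻¹ := fun k hk => by
    calc n * (k * v0 * k⁻¹) * n⁻¹ = (n * k) * v0 * (n * k)⁻¹ := by group
      _ = (k * n) * v0 * (k * n)⁻¹ := by rw [hk.eq]
      _ = _ := by group
  have bad : Commute y v0 → False := fun hc => by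
    rw [hc.eq, mul_inv_cancel_right, hv2, (hc.mul_left hc).eq, mul_inv_cancel_right] at hp
    exact hv1 hp.symm
  rcases hnv with h | h | h
  · exact commute_of_conj_eq h
  · exfalso; refine bad ?_
    rw [h, c _ hny, h] at e
    have e' : Commute (y * y) v0 := commute_of_conj_eq (by
      rw [show y * y * v0 * (y * y)⁻¹ = y * (y * v0 * y⁻¹) * y⁻¹ by group]; exact e)
    have := (e'.mul_left e').mul_left (Commute.one_left v0)
    rwa [mul_one, show y * y * (y * y) = y * y * y * y by group, y3, one_mul] at this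
  · exfalso; refine bad ?_
    rw [h, c _ (hny.mul_right hny), h] at e
    refine commute_of_conj_eq ?_
    rw [show y * y * (y * y * v0 * (y * y)⁻¹) * (y * y)⁻¹ = (y * y * y) * (y * v0 * y⁻¹) * (y * y * y)⁻¹ by group,
      y3, one_mul, inv_one, mul_one] at e
    exact e

namespace SF

variable (S : SF z Q v y i p a s d)
include S

theorem eD {wa wb wt : List ℕ} {va vb : V6} {T : Lin} {reps : List Lin} (h : eOK wa wb wt va vb T reps = true)
    (hva : v (W wa) = va) (hvb : v (W wb) = vb) :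
    ED z Q v y (W wa) (W wb) (W wt) va vb T reps := by
  simp only [eOK, Bool.and_eq_true] at h
  obtain ⟨⟨⟨⟨⟨⟨⟨-, ⟨la, lb⟩, lt⟩, ⟨l1, l2⟩, l3⟩, ht⟩, hta⟩, htb⟩, -⟩, hF⟩ := h
  have h9 : ∀ {u : List ℕ}, low u = true → ∀ l ∈ u, l < 9 := fun {u} hu l hl => by
    simp only [low, List.all_eq_true, Nat.blt_eq] at hu
    exact (hu l hl).trans (by norm_num)
  have hcm : ∀ {u u' : List ℕ}, low u = true → low u' = true → exact1 (u ++ u' ++ inv9 u ++ inv9 u') = true →
      Commute (W u) (W u') := fun {u u'} hu hu' he => by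
    have e := S.exact_spec he
    rw [prodW_append, prodW_append, prodW_append, S.w_inv (h9 hu), S.w_inv (h9 hu')] at e
    exact mul_inv_eq_iff_eq_mul.mp (mul_inv_eq_one.mp e)
  refine ⟨S.yd, S.low_mem l1 la, S.low_mem l2 lb, hva, hvb, mem_Cz.mpr ⟨S.low_z l3, S.w_comm wt⟩, ?_,
    rel_eq lt ▸ S.low_act l3, hcm l3 l1 hta, hcm l3 l2 htb, hF⟩
  rw [← prodW_append]; exact S.exact_spec ht

variable {wa wb wt : List ℕ} {va vb : V6} {T : Lin} {reps : List Lin}

theorem e_comm (hE : eOK wa wb wt va vb T reps = true) (E : ED z Q v y (W wa) (W wb) (W wt) va vb T reps) {v0 : G}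
    (hv : IsV z y (W wa) (W wb) v0) {e : List ℕ} (he : e ∈ eList wa wb wt) :
    W e * W e = 1 ∧ Commute v0 (W e) ∧ Commute (W e) y := by
  have ct := E.comm_t hv
  obtain ⟨-, -, hz, ca, cb, -⟩ := hv
  have hz0 : Commute v0 (W [0, 0]) := by rw [S.z_word]; exact hz
  refine ⟨?_, ?_, S.w_comm e⟩
  · simp only [eOK, Bool.and_eq_true, List.all_eq_true] at hE
    rw [← prodW_append]; exact S.exact_spec (hE.1.2 e he).1
  · simp only [eList, List.mem_flatMap, List.mem_map, List.mem_cons, List.not_mem_nil, or_false] at he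
    obtain ⟨a', ha', b', hb', c', hc', d', hd', rfl⟩ := he
    rw [prodW_append, prodW_append, prodW_append]
    have one : Commute v0 (W []) := by rw [prodW_nil]; exact Commute.one_right v0
    refine (((?_ : Commute v0 (W a')).mul_right ?_).mul_right ?_).mul_right ?_
    · rcases ha' with rfl | rfl; exacts [one, hz0]
    · rcases hb' with rfl | rfl; exacts [one, ca]
    · rcases hc' with rfl | rfl; exacts [one, cb]
    · rcases hd' with rfl | rfl; exacts [one, ct]

theorem e_fix (hE : eOK wa wb wt va vb T reps = true) (E : ED z Q v y (W wa) (W wb) (W wt) va vb T reps) {v0 : G}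
    (hv : IsV z y (W wa) (W wb) v0) {e : List ℕ} (he : e ∈ eList wa wb wt) : W e ∈ fixGrp y v0 S.y3 := by
  obtain ⟨-, hc, hy⟩ := S.e_comm hE E hv he
  exact ⟨hy, Or.inl (by rw [hc.symm.eq, mul_inv_cancel_right])⟩

theorem conj_isV (hE : eOK wa wb wt va vb T reps = true) (E : ED z Q v y (W wa) (W wb) (W wt) va vb T reps) {v0 : G}
    (hv : IsV z y (W wa) (W wb) v0) {u : List ℕ} (hu : normOK wa wb wt u = true) :
    IsV z y (W wa) (W wb) (W u * v0 * (W u)⁻¹) := by
  simp only [normOK, Bool.and_eq_true, List.all_eq_true, List.any_eq_true, Nat.blt_eq] at hu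
  obtain ⟨hu9, hn⟩ := hu
  set n := W u with hnd
  have hny : Commute n y := S.w_comm u
  have hWe : ∀ e ∈ [[0, 0], wa, wb], W e * W e = 1 ∧ Commute (W e) y := by
    intro e he
    simp only [List.mem_cons, List.not_mem_nil, or_false] at he
    refine ⟨?_, S.w_comm e⟩
    rcases he with rfl | rfl | rfl
    · rw [S.z_word, S.co.st.zz]
    · exact (S.co.sq _ E.aQ.1).mp (by rw [E.av]; exact E.parts.2.1.2.2.2.1)
    · exact (S.co.sq _ E.bQ.1).mp (by rw [E.bv]; exact E.parts.2.1.2.2.2.2.1)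
  have key : ∀ e ∈ [[0, 0], wa, wb], Commute (n * v0 * n⁻¹) (W e) := by
    intro e he
    obtain ⟨e', he', hq⟩ := hn e he
    obtain ⟨h2', hc', hy'⟩ := S.e_comm hE E hv he'
    obtain ⟨h2, hy⟩ := hWe e he
    have := S.eqv_spec hq
    rw [prodW_append, prodW_append, S.w_inv hu9, ← hnd] at this
    have eq : W e' = n⁻¹ * W e * n := by
      refine lift_unique S.y3 ((hny.inv_left.mul_left hy).mul_left hny) h2' ?_ this
      rw [show n⁻¹ * W e * n * (n⁻¹ * W e * n) = n⁻¹ * (W e * W e) * n by group, h2]; group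
    rw [eq] at hc'
    have := hc'.map (MulAut.conj n)
    rwa [MulAut.conj_apply, MulAut.conj_apply, show n * (n⁻¹ * W e * n) * n⁻¹ = W e by group] at this
  obtain ⟨h1, hne, -, -, -, hp⟩ := hv
  refine ⟨?_, fun h => hne (conj_eq_one_iff.mp h), ?_, key wa (by simp), key wb (by simp), ?_⟩
  · rw [show n * v0 * n⁻¹ * (n * v0 * n⁻¹) = n * (v0 * v0) * n⁻¹ by group, h1]; group
  · rw [← S.z_word (v := v)]; exact key [0, 0] (by simp)
  · have e : ∀ x, y * (n * x * n⁻¹) * y⁻¹ = n * (y * x * y⁻¹) * n⁻¹ := fun x => by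
      calc y * (n * x * n⁻¹) * y⁻¹ = (y * n) * x * (y * n)⁻¹ := by group
        _ = (n * y) * x * (n * y)⁻¹ := by rw [hny.eq]
        _ = _ := by group
    rw [show y * y * (n * v0 * n⁻¹) * (y * y)⁻¹ = y * (y * (n * v0 * n⁻¹) * y⁻¹) * y⁻¹ by group, e, e,
      show n * v0 * n⁻¹ * (n * (y * v0 * y⁻¹) * n⁻¹) = n * (v0 * (y * v0 * y⁻¹)) * n⁻¹ by group, hp]
    group

/-- Among seven conjugates two give the same four-group. -/
theorem pigeon (hreps : reps.length = 3) (hE : eOK wa wb wt va vb T reps = true)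
    (E : ED z Q v y (W wa) (W wb) (W wt) va vb T reps) {v0 : G} (hv : IsV z y (W wa) (W wb) v0)
    (P : List (List ℕ)) (hP : 7 ≤ P.length) (hn : ∀ u ∈ P, normOK wa wb wt u = true) :
    ∃ j k, j < k ∧ k < P.length ∧ (W (P.getD k []))⁻¹ * W (P.getD j []) ∈ fixGrp y v0 S.y3 := by
  classical
  have H := S.co
  have y3 := S.y3
  have hmem : ∀ j : Fin P.length, P.getD j [] ∈ P := fun j => by
    rw [List.getD_eq_getElem _ _ j.2]; exact List.getElem_mem _
  -- a shifted conjugate with a representative action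
  have shift : ∀ j : Fin P.length, ∃ (k : G) (r : Fin 3), k ∈ fixGrp y v0 y3 ∧ Commute k y ∧ k ∈ Subgroup.zpowers y ∧
      IsV z y (W wa) (W wb) (k * (W (P.getD j [])) * v0 * (k * W (P.getD j []))⁻¹) ∧
      Act Q v (k * (W (P.getD j [])) * v0 * (k * W (P.getD j []))⁻¹) (reps.getD r L1) := by
    intro j
    have hc := S.conj_isV hE E hv (hn _ (hmem j))
    set n := W (P.getD (j : ℕ) []) with hnd
    obtain ⟨M, hM, hA, -⟩ := E.act_v hc
    have s1 := hc.shift (show Commute y z from E.yd.yz) E.ya E.yb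
    have s2 := s1.shift (show Commute y z from E.yd.yz) E.ya E.yb
    have hyz : Commute y z := E.yd.yz
    have hy2 : Act Q v y⁻¹ (comp L0 L0) := by
      rw [show y⁻¹ = y * y from (eq_inv_of_mul_eq_one_left y3).symm]
      exact act_mul H E.yd.yz E.yd.act E.yd.act
    have cube : ∀ N, rotC (rotC (rotC N)) = N := fun N => lin_ext fun w => by
      simp only [rotC, app_comp, act_cube H E.yd.yz E.yd.cube E.yd.act]
    have zc : Commute (n * v0 * n⁻¹) z := hc.2.2.1
    have A1 := act_mul H hyz.inv_left.eq (act_mul H zc.eq E.yd.act hA) hy2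
    have A2 := act_mul H hyz.inv_left.eq (act_mul H s1.2.2.1.eq E.yd.act A1) hy2
    have hix : ∀ N ∈ reps, ∃ r : Fin 3, reps.getD r L1 = N := fun N hN => by
      obtain ⟨m, hm, rfl⟩ := List.getElem_of_mem hN
      exact ⟨⟨m, hreps ▸ hm⟩, List.getD_eq_getElem _ _ hm⟩
    simp only [nine, List.mem_append, List.mem_map] at hM
    rcases hM with (hM | ⟨N, hN, rfl⟩) | ⟨N, hN, rfl⟩
    · obtain ⟨r, hr⟩ := hix M hM
      exact ⟨1, r, one_mem _, Commute.one_left y, one_mem _, by rw [one_mul]; exact hc, by rw [one_mul, hr]; exact hA⟩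
    · obtain ⟨r, hr⟩ := hix N hN
      refine ⟨y * y, r, mul_mem (y_fix v0) (y_fix v0), (Commute.refl y).mul_left (Commute.refl y),
        mul_mem (Subgroup.mem_zpowers y) (Subgroup.mem_zpowers y), ?_, ?_⟩
      · rwa [show y * y * n * v0 * (y * y * n)⁻¹ = y * (y * (n * v0 * n⁻¹) * y⁻¹) * y⁻¹ by group]
      · rw [hr, show y * y * n * v0 * (y * y * n)⁻¹ = y * (y * (n * v0 * n⁻¹) * y⁻¹) * y⁻¹ by group, ← cube N]
        exact A2
    · obtain ⟨r, hr⟩ := hix N hN
      refine ⟨y, r, y_fix v0, Commute.refl y, Subgroup.mem_zpowers y, ?_, ?_⟩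
      · rwa [show y * n * v0 * (y * n)⁻¹ = y * (n * v0 * n⁻¹) * y⁻¹ by group]
      · rw [hr, show y * n * v0 * (y * n)⁻¹ = y * (n * v0 * n⁻¹) * y⁻¹ by group, ← cube N]
        exact A1
  choose k r hk hky hkp hV hA using shift
  -- three indices with the same representative
  obtain ⟨r0, -, hr0⟩ := Finset.exists_lt_card_fiber_of_mul_lt_card_of_maps_to (n := 2)
    (s := (Finset.univ : Finset (Fin P.length))) (t := (Finset.univ : Finset (Fin 3))) (f := r)
    (fun _ _ => Finset.mem_univ _) (by simp; omega)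
  obtain ⟨a', b', c', ha', hb', hc', hab, hac, hbc⟩ := Finset.two_lt_card_iff.mp hr0
  simp only [Finset.mem_filter, Finset.mem_univ, true_and] at ha' hb' hc'
  have pair : ∀ j l : Fin P.length, j ≠ l →
      k j * W (P.getD j []) * v0 * (k j * W (P.getD j []))⁻¹ = k l * W (P.getD l []) * v0 * (k l * W (P.getD l []))⁻¹ →
      ∃ j k, j < k ∧ k < P.length ∧ (W (P.getD k []))⁻¹ * W (P.getD j []) ∈ fixGrp y v0 y3 := by
    intro j l hjl e
    set N := W (P.getD (j : ℕ) []) with hN
    set N' := W (P.getD (l : ℕ) []) with hN'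
    have hmem' : (k l * N')⁻¹ * (k j * N) ∈ fixGrp y v0 y3 :=
      ⟨(((hky l).mul_left (S.w_comm _)).inv_left.mul_left ((hky j).mul_left (S.w_comm _))), Or.inl (by
        rw [show (k l * N')⁻¹ * (k j * N) * v0 * ((k l * N')⁻¹ * (k j * N))⁻¹ =
          (k l * N')⁻¹ * (k j * N * v0 * (k j * N)⁻¹) * (k l * N') by group, e]; group)⟩
    set c := (k l)⁻¹ * k j with hc
    have hcy : Commute N' c :=
      (pow_commute (S.w_comm _) (inv_mem (hkp l))).mul_right (pow_commute (S.w_comm _) (hkp j))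
    have hmem : N'⁻¹ * N ∈ fixGrp y v0 y3 := by
      have h2 := mul_mem (pow_fix y3 (inv_mem (mul_mem (inv_mem (hkp l)) (hkp j)))) hmem'
      rwa [show ((k l)⁻¹ * k j)⁻¹ * ((k l * N')⁻¹ * (k j * N)) = c⁻¹ * (N'⁻¹ * c) * N by rw [hc]; group,
        hcy.inv_left.eq, inv_mul_cancel_left] at h2
    rcases lt_or_gt_of_ne hjl with h | h
    · exact ⟨j, l, h, l.2, hmem⟩
    · refine ⟨l, j, h, j.2, ?_⟩
      have := inv_mem hmem
      rwa [mul_inv_rev, inv_inv] at this
  rcases E.three (hV a') (hV b') (hV c') (hA a') (by rw [ha', ← hb']; exact hA b') (by rw [ha', ← hc']; exact hA c') with e | e | e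
  · exact pair a' b' hab e
  · exact pair a' c' hac e
  · exact pair b' c' hbc e

theorem exp_fix {v0 : G} {gens : List (List ℕ)} (hg : ∀ g ∈ gens, W g ∈ fixGrp y v0 S.y3) {target : List ℕ} {ix : List ℕ}
    {f : List ℕ} (hf : W f ∈ fixGrp y v0 S.y3) (h : expOK gens target ix f = true) : W target ∈ fixGrp y v0 S.y3 := by
  have e := S.eqv_spec h
  have hm : W ((ix.map fun j => gens.getD j []).flatten ++ f) ∈ fixGrp y v0 S.y3 := by
    rw [prodW_append]
    refine mul_mem ?_ hf
    clear e h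
    induction ix with
    | nil => simp only [List.map_nil, List.flatten_nil, prodW_nil]; exact one_mem _
    | cons j ix ih =>
      rw [List.map_cons, List.flatten_cons, prodW_append]
      refine mul_mem ?_ ih
      by_cases hj : j < gens.length
      · rw [List.getD_eq_getElem _ _ hj]; exact hg _ (List.getElem_mem _)
      · rw [List.getD_eq_default _ _ (by omega), prodW_nil]; exact one_mem _
  have := mul_mem hm (inv_mem (pow_fix S.y3 (v0 := v0) e))
  rwa [mul_inv_rev, inv_inv, ← mul_assoc, mul_inv_cancel, one_mul] at this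

theorem bad_fix {v0 : G} {M : Lin} (hz : Commute v0 z) (hA : Act Q v v0 M) {u : List ℕ} (hu : low u = true)
    (hbad : [M, rotC M, rotC (rotC M)].all (fun N => !(eqL (comp (comp (linW u) M) (linW (inv9 u))) N)) = true)
    (hfix : W u ∈ fixGrp y v0 S.y3) : False := by
  have H := S.co
  have hu7 : ∀ l ∈ u, l < 7 := by simpa [low, List.all_eq_true, Nat.blt_eq] using hu
  have hi := S.w_low (inv9_low hu7)
  rw [S.w_inv fun l hl => (hu7 l hl).trans (by norm_num)] at hi
  have hiz := (mem_Cz.mp hi.1).1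
  have hA' : Act Q v (W u * v0 * (W u)⁻¹) (comp (comp (linW u) M) (linW (inv9 u))) :=
    act_mul H hiz (act_mul H hz.eq (S.low_act hu) hA) hi.2
  have hyz : Commute y z := S.yd.yz
  have hy2 : Act Q v y⁻¹ (comp L0 L0) := by
    rw [show y⁻¹ = y * y from (eq_inv_of_mul_eq_one_left S.y3).symm]
    exact act_mul H S.yd.yz S.yd.act S.yd.act
  have A1 := act_mul H hyz.inv_left.eq (act_mul H hz.eq S.yd.act hA) hy2
  have A2 := act_mul H hyz.inv_left.eq (act_mul H ((hyz.mul_left hz).mul_left hyz.inv_left).eq S.yd.act A1) hy2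
  simp only [List.all_cons, List.all_nil, Bool.and_eq_true, Bool.not_eq_true', Bool.and_true] at hbad
  obtain ⟨b0, b1, b2⟩ := hbad
  rcases hfix.2 with h | h | h <;> rw [h] at hA'
  · rw [eqL_iff.mpr (act_unique H hA' hA)] at b0; simp at b0
  · rw [eqL_iff.mpr (show _ = rotC M from act_unique H hA' A1)] at b1; simp at b1
  · rw [show y * y * v0 * (y * y)⁻¹ = y * (y * v0 * y⁻¹) * y⁻¹ by group] at hA'
    rw [eqL_iff.mpr (show _ = rotC (rotC M) from act_unique H hA' A2)] at b2; simp at b2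

end SF

end CfsgLib.SuzUnique
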