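/-!
Trees of subgroups for the stabilisers of the four-group.
-/

set_option autoImplicit false

namespace CfsgLib.SuzUnique

/-- a node: representatives, generators of the subgroups and the expressions for the pairs -/
structure SNode where
  P : List (List Nat)
  K : List (List Nat)
  pairs : List (Nat × List Nat × Nat)

/-- a leaf: zero for a contradiction, or the target number plus one -/
structure SLeaf where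
  tag : Nat
  h : List Nat
  exps : List (List Nat × Nat)

/-- a tree of depth two -/
structure STree where
  root : SNode
  subs : List SNode
  leaves : List (List SLeaf)
  targets : List (List (List Nat))

/-- the tree for the first elementary group -/
def treeOne : STree where
  root :=
    { P := [[6, 2, 3], [0, 8, 4], [7, 0, 0, 4], [3, 6, 3, 7, 2, 6, 2], [3, 6, 3, 8, 2, 6, 2], [7, 2, 6, 2, 8, 0, 2, 6, 2], [7, 2, 6, 2, 7, 0, 3, 4, 6, 2], [8, 3, 6, 3, 8, 3, 0, 4, 6, 2], [8, 3, 6, 3, 7, 0, 3, 0, 4, 6, 2]], K := [[0, 8, 4], [3, 6, 3, 7, 2, 6, 2], [7, 2, 6, 2, 8, 0, 2, 6, 2], [7, 2, 6, 2, 7, 0, 3, 4, 6, 2]], pairs := [(0, [0, 0], 11), (0, [0], 10), (1, [0, 0], 10), (1, [0], 1), (2, [0, 0], 0), (3, [0, 0], 14), (2, [0], 3), (3, [0], 12), (0, [0, 0], 1), (3, [0, 0], 14), (2, [0, 0], 7), (3, [0], 10), (2,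 [0], 8), (1, [0, 0], 1), (1, [0], 1), (2, [0], 2), (3, [0], 6), (1, [0], 2), (1, [0, 0], 1), (3, [0, 0], 4), (2, [0, 0], 7), (1, [0, 0], 0), (3, [0, 0], 4), (0, [0], 2), (0, [0, 0], 9), (2, [0], 4), (0, [0], 14), (2, [0, 0], 5), (3, [0], 3), (0, [0, 0], 13), (1, [0], 13), (2, [0, 0], 7), (0, [0], 0), (0, [0], 8), (3, [0, 0], 14), (1, [0, 0], 1)] }
  subs := [{ P := [[7, 0], [0, 8], [6, 2, 3], [3, 6, 3, 8, 3, 4, 6, 2], [7, 3, 6, 3, 7, 2, 0, 6, 2], [3, 6, 3, 7, 0, 3, 4, 6, 2], [7, 3, 6, 3, 8, 2, 0, 6, 2], [8, 2, 6, 2, 6, 8, 0, 2, 0, 6, 2], [8, 2, 6, 2, 7, 0, 3, 0, 4, 6, 2]], K := [[7, 0], [3, 6, 3, 8, 3, 4, 6, 2], [7, 3, 6, 3, 7, 2, 0, 6, 2], [7, 3, 6, 3, 8, 2, 0, 6, 2]], pairs := [(0, [0, 0], 4), (0, [0], 6), (3, [0], 8), (1, [0, 0], 5), (2, [0], 15), (1, [0], 14), (3, [0, 0], 7), (2, [0, 0], 11), (0, [0,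 0], 9), (2, [0, 0], 9), (3, [0], 10), (3, [0, 0], 7), (2, [0], 2), (1, [0], 3), (1, [0, 0], 15), (1, [0, 0], 5), (2, [0, 0], 4), (1, [0], 12), (3, [0, 0], 7), (2, [0], 13), (3, [0], 14), (0, [0, 0], 13), (1, [0, 0], 15), (2, [0, 0], 6), (3, [0], 5), (0, [0], 3), (3, [0], 10), (1, [0, 0], 2), (2, [0, 0], 4), (0, [0, 0], 8), (0, [0, 0], 5), (0, [0], 5), (2, [0], 0), (0, [0, 0], 5), (3, [0, 0], 13), (1, [0], 4)] },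
    { P := [[6, 2, 3], [7, 2, 6, 2, 8], [7, 3, 6, 3, 8], [8, 3, 6, 3, 7, 4], [3, 6, 3, 7, 0, 2, 6, 2], [2, 6, 2, 8, 2, 4, 6, 3], [3, 6, 3, 8, 0, 3, 4, 6, 2], [8, 2, 6, 2, 6, 8, 3, 0, 2], [2, 6, 2, 7, 0, 2, 4, 6, 3]], K := [[7, 2, 6, 2, 8], [8, 3, 6, 3, 7, 4], [3, 6, 3, 7, 0, 2, 6, 2], [2, 6, 2, 8, 2, 4, 6, 3]], pairs := [(0, [0, 0], 6), (0, [0], 1), (1, [0, 0], 11), (2, [0, 0], 2), (3, [0, 0], 7), (2, [0], 2), (1, [0], 6), (3, [0], 14), (0, [0, 0], 15), (3, [0, 0], 8), (1, [0, 0], 0), (2, [0, 0], 12), (3, [0], 13), (2, [0], 5), (1, [0], 5), (2, [0, 0], 0), (3, [0, 0], 12), (1, [0, 0], 4), (1, [0], 13), (3, [0], 1), (2, [0], 13), (0, [0, 0], 15), (0, [0], 10), (3, [0, 0], 1), (1, [0, 0], 4), (2, [0, 0], 10), (0, [0, 0], 3), (2, [0, 0], 2), (3, [0, 0], 15), (1, [0, 0], 0), (1, [0, 0], 4), (2, [0, 0], 9),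 (3, [0, 0], 11), (0, [0, 0], 15), (0, [0], 0), (0, [0, 0], 15)] },
    { P := [[6, 2, 3], [7, 2, 6, 2, 8], [7, 3, 6, 3, 8], [8, 3, 6, 3, 7, 4], [3, 6, 3, 7, 0, 2, 6, 2], [2, 6, 2, 8, 2, 4, 6, 3], [3, 6, 3, 8, 0, 3, 4, 6, 2], [8, 2, 6, 2, 6, 8, 3, 0, 2], [2, 6, 2, 7, 0, 2, 4, 6, 3]], K := [[7, 2, 6, 2, 8], [8, 3, 6, 3, 7, 4], [3, 6, 3, 7, 0, 2, 6, 2], [2, 6, 2, 8, 2, 4, 6, 3]], pairs := [(0, [0, 0], 6), (0, [0], 1), (1, [0, 0], 11), (2, [0, 0], 2), (3, [0, 0], 7), (2, [0], 2), (1, [0], 6), (3, [0], 14), (0, [0, 0], 15), (3, [0, 0], 8), (1, [0, 0], 0), (2, [0, 0], 12), (3, [0], 13), (2, [0], 5), (1, [0], 5), (2, [0, 0], 0), (3, [0, 0], 12), (1, [0, 0], 4), (1, [0], 13), (3, [0], 1), (2, [0], 13), (0, [0, 0], 15), (0, [0], 10), (3, [0, 0], 1), (1, [0, 0], 4), (2, [0, 0], 10), (0, [0, 0], 3), (2, [0, 0], 2),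 (3, [0, 0], 15), (1, [0, 0], 0), (1, [0, 0], 4), (2, [0, 0], 9), (3, [0, 0], 11), (0, [0, 0], 15), (0, [0], 0), (0, [0, 0], 15)] },
    { P := [[6, 2, 3], [7, 2, 6, 2, 8], [7, 3, 6, 3, 8], [8, 3, 6, 3, 7, 4], [3, 6, 3, 7, 0, 2, 6, 2], [2, 6, 2, 8, 2, 4, 6, 3], [3, 6, 3, 8, 0, 3, 4, 6, 2], [8, 2, 6, 2, 6, 8, 3, 0, 2], [2, 6, 2, 7, 0, 2, 4, 6, 3]], K := [[7, 2, 6, 2, 8], [8, 3, 6, 3, 7, 4], [3, 6, 3, 7, 0, 2, 6, 2], [2, 6, 2, 8, 2, 4, 6, 3]], pairs := [(0, [0, 0], 6), (0, [0], 1), (1, [0, 0], 11), (2, [0, 0], 2), (3, [0, 0], 7), (2, [0], 2), (1, [0], 6), (3, [0], 14), (0, [0, 0], 15), (3, [0, 0], 8), (1, [0, 0], 0), (2, [0, 0], 12), (3, [0], 13), (2, [0], 5), (1, [0], 5), (2, [0, 0], 0), (3, [0, 0], 12), (1, [0, 0], 4), (1, [0], 13), (3, [0], 1), (2, [0], 13), (0, [0, 0], 15), (0, [0], 10), (3, [0, 0], 1),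 (1, [0, 0], 4), (2, [0, 0], 10), (0, [0, 0], 3), (2, [0, 0], 2), (3, [0, 0], 15), (1, [0, 0], 0), (1, [0, 0], 4), (2, [0, 0], 9), (3, [0, 0], 11), (0, [0, 0], 15), (0, [0], 0), (0, [0, 0], 15)] }]
  leaves := [[{ tag := 0, h := [5], exps := [([1, 0], 12)] },
     { tag := 1, h := [], exps := [([0, 1, 0, 1], 15), ([0, 1, 0, 0, 1, 1, 0, 1], 10), ([0, 1, 0, 0, 1, 1, 0, 1], 0)] },
     { tag := 0, h := [5], exps := [([0, 1, 0, 1, 1, 0, 1, 0, 0, 1, 1], 9)] },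
     { tag := 0, h := [5], exps := [([0, 1, 0, 1, 1, 0, 1, 0, 0, 1, 1], 7)] }],
    [{ tag := 0, h := [5], exps := [([0, 1, 0, 1, 0, 0, 1, 1, 0, 1, 0], 4)] },
     { tag := 0, h := [5], exps := [([1, 0, 1, 1, 0, 0, 1, 0, 1, 0, 0], 13)] },
     { tag := 0, h := [2, 5, 6, 3], exps := [([0, 1, 0], 3)] },
     { tag := 2, h := [], exps := [([1, 0, 1], 9), ([1, 0, 0, 1, 1, 0, 1], 5), ([1, 0, 0, 1, 1, 0, 1], 15)] }],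
    [{ tag := 0, h := [3, 6, 3, 0], exps := [([0, 0, 1], 8)] },
     { tag := 0, h := [5], exps := [([0, 1, 0, 0, 1], 13)] },
     { tag := 0, h := [5], exps := [([0, 1, 0, 1], 1)] },
     { tag := 0, h := [5], exps := [([0, 0, 1, 0, 1, 1, 0, 0, 1, 0, 1], 7)] }],
    [{ tag := 0, h := [0, 4], exps := [([0, 0, 1, 0, 1], 5)] },
     { tag := 0, h := [3, 6, 0, 3, 0], exps := [([0, 1], 2)] },
     { tag := 0, h := [5], exps := [([0, 1, 0, 1, 1, 0, 0, 1, 0, 1, 1], 2)] },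
     { tag := 0, h := [5], exps := [([1, 0, 1, 1, 0, 1, 0, 0, 1, 0], 10)] }]]
  targets := [[[3, 6, 3, 7, 0], [0, 2, 0, 3, 6, 0, 6], [6, 0, 6, 6, 2, 0, 3, 6, 0]], [[3, 6, 3, 7, 4], [0, 2, 0, 3, 6, 0, 6], [6, 0, 6, 6, 2, 0, 3, 6, 0]]]

/-- the tree for the second elementary group -/
def treeTwo : STree where
  root :=
    { P := [[6, 2, 3, 6], [3, 7, 3, 4], [6, 3, 8, 2, 6], [6, 3, 7, 2, 6], [3, 8, 0, 3, 4], [3, 7, 3, 6, 2, 7, 0, 2, 6], [3, 7, 3, 6, 2, 8, 0, 3, 4, 6], [3, 8, 1, 3, 6, 2, 7, 0, 2, 6], [3, 8, 3, 6, 2, 8, 8, 0, 3, 0, 4, 6]], K := [[3, 7, 3, 4], [6, 3, 8, 2, 6], [3, 7, 3, 6, 2, 7, 0, 2, 6], [3, 7, 3, 6, 2, 8, 0, 3, 4, 6]], pairs := [(0, [0, 0], 0), (1, [0, 0], 0), (1, [0], 0), (0, [0], 7), (2, [0, 0], 6), (3, [0, 0], 9), (3, [0], 5), (2, [0], 2), (2, [0], 3), (3, [0], 11), (0, [0, 0], 9), (1,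 [0], 6), (1, [0, 0], 1), (2, [0, 0], 8), (3, [0, 0], 9), (1, [0, 0], 0), (3, [0], 8), (3, [0, 0], 15), (0, [0, 0], 11), (2, [0], 14), (0, [0], 14), (2, [0], 5), (0, [0, 0], 3), (2, [0, 0], 8), (0, [0], 1), (3, [0], 6), (3, [0], 15), (2, [0], 5), (1, [0], 14), (1, [0, 0], 6), (1, [0], 15), (0, [0, 0], 0), (2, [0, 0], 1), (3, [0, 0], 15), (0, [0, 0], 1), (1, [0], 4)] }
  subs := [{ P := [[3, 7, 2], [3, 8, 2], [6, 2, 3, 6], [6, 3, 7, 3, 4, 6], [6, 3, 8, 0, 3, 4, 6], [3, 7, 2, 6, 3, 7, 3, 4, 6], [3, 8, 2, 6, 4, 2, 8, 2, 6], [3, 7, 2, 6, 0, 3, 7, 2, 0, 6], [3, 8, 2, 6, 3, 0, 7, 0, 2, 6]], K := [[3, 8, 2], [6, 3, 7, 3, 4, 6], [3, 7, 2, 6, 3, 7, 3, 4, 6], [3, 7, 2, 6, 0, 3, 7, 2, 0, 6]], pairs := [(0, [0], 0), (0, [0, 0], 0), (3, [0], 13), (2, [0], 6), (1, [0, 0], 0), (3, [0, 0], 12), (1, [0], 12), (2, [0, 0],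 4), (0, [0], 0), (2, [0, 0], 5), (3, [0, 0], 9), (3, [0], 13), (1, [0], 8), (2, [0], 0), (1, [0, 0], 4), (1, [0, 0], 0), (1, [0], 15), (2, [0, 0], 5), (2, [0], 12), (3, [0, 0], 15), (3, [0], 10), (1, [0, 0], 1), (0, [0], 12), (3, [0], 12), (2, [0, 0], 5), (0, [0, 0], 8), (3, [0, 0], 10), (0, [0, 0], 3), (0, [0], 11), (2, [0], 8), (2, [0, 0], 11), (1, [0, 0], 7), (0, [0], 4), (0, [0, 0], 7), (1, [0], 3), (3, [0, 0], 12)] },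
    { P := [[6, 2, 3, 6], [6, 3, 8, 0, 2, 6], [6, 3, 7, 0, 3, 4, 6], [2, 6, 2, 7, 2, 4, 6, 3], [2, 6, 2, 8, 0, 2, 4, 6, 3], [3, 8, 1, 3, 6, 2, 7, 3, 4], [3, 7, 3, 6, 2, 7, 0, 3, 0, 4], [3, 8, 2, 6, 4, 2, 8, 0, 3, 0, 4], [3, 7, 2, 6, 0, 3, 7, 0, 3, 0, 4]], K := [[6, 3, 8, 0, 2, 6], [2, 6, 2, 7, 2, 4, 6, 3], [3, 8, 1, 3, 6, 2, 7, 3, 4], [3, 7, 3, 6, 2, 7, 0, 3, 0, 4]], pairs := [(0, [0, 0], 0), (0, [0], 5), (1, [0, 0], 0), (1, [0], 13), (2, [0, 0], 4), (3, [0, 0], 0), (2, [0], 13), (3, [0], 7), (0, [0, 0], 14), (2, [0, 0], 8), (3, [0, 0], 7), (3, [0], 11), (2, [0], 8), (1, [0], 8), (1, [0, 0], 7), (3, [0], 10), (2, [0], 13), (1, [0, 0], 3), (1, [0], 13), (3, [0, 0], 0), (2, [0, 0], 9), (1, [0, 0], 1), (0, [0], 9), (2, [0, 0], 8), (3, [0], 9), (0, [0, 0], 0), (3, [0, 0], 7), (0, [0], 6), (0, [0, 0], 6), (2,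 [0], 10), (1, [0, 0], 5), (2, [0, 0], 8), (0, [0], 15), (0, [0], 6), (3, [0, 0], 4), (1, [0], 13)] },
    { P := [[6, 2, 3, 6], [6, 3, 8, 0, 2, 6], [6, 3, 7, 0, 3, 4, 6], [2, 6, 2, 7, 2, 4, 6, 3], [2, 6, 2, 8, 0, 2, 4, 6, 3], [3, 8, 1, 3, 6, 2, 7, 3, 4], [3, 7, 3, 6, 2, 7, 0, 3, 0, 4], [3, 8, 2, 6, 4, 2, 8, 0, 3, 0, 4], [3, 7, 2, 6, 0, 3, 7, 0, 3, 0, 4]], K := [[6, 3, 8, 0, 2, 6], [2, 6, 2, 7, 2, 4, 6, 3], [3, 8, 1, 3, 6, 2, 7, 3, 4], [3, 7, 3, 6, 2, 7, 0, 3, 0, 4]], pairs := [(0, [0, 0], 0), (0, [0], 5), (1, [0, 0], 0), (1, [0], 13), (2, [0, 0], 4), (3, [0, 0], 0), (2, [0], 13), (3, [0], 7), (0, [0, 0], 14), (2, [0, 0], 8), (3, [0, 0], 7), (3, [0], 11), (2, [0], 8), (1, [0], 8), (1, [0, 0], 7), (3, [0], 10), (2, [0], 13), (1, [0, 0], 3), (1, [0], 13), (3, [0, 0], 0), (2, [0, 0], 9), (1, [0, 0], 1), (0,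 [0], 9), (2, [0, 0], 8), (3, [0], 9), (0, [0, 0], 0), (3, [0, 0], 7), (0, [0], 6), (0, [0, 0], 6), (2, [0], 10), (1, [0, 0], 5), (2, [0, 0], 8), (0, [0], 15), (0, [0], 6), (3, [0, 0], 4), (1, [0], 13)] },
    { P := [[6, 2, 3, 6], [6, 3, 8, 0, 2, 6], [6, 3, 7, 0, 3, 4, 6], [2, 6, 2, 7, 2, 4, 6, 3], [2, 6, 2, 8, 0, 2, 4, 6, 3], [3, 8, 1, 3, 6, 2, 7, 3, 4], [3, 7, 3, 6, 2, 7, 0, 3, 0, 4], [3, 8, 2, 6, 4, 2, 8, 0, 3, 0, 4], [3, 7, 2, 6, 0, 3, 7, 0, 3, 0, 4]], K := [[6, 3, 8, 0, 2, 6], [2, 6, 2, 7, 2, 4, 6, 3], [3, 8, 1, 3, 6, 2, 7, 3, 4], [3, 7, 3, 6, 2, 7, 0, 3, 0, 4]], pairs := [(0, [0, 0], 0), (0, [0], 5), (1, [0, 0], 0), (1, [0], 13), (2, [0, 0], 4), (3, [0, 0], 0), (2, [0], 13), (3, [0], 7), (0, [0, 0], 14), (2, [0, 0], 8), (3, [0, 0], 7), (3, [0], 11), (2, [0], 8), (1, [0], 8), (1, [0, 0], 7), (3, [0],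 10), (2, [0], 13), (1, [0, 0], 3), (1, [0], 13), (3, [0, 0], 0), (2, [0, 0], 9), (1, [0, 0], 1), (0, [0], 9), (2, [0, 0], 8), (3, [0], 9), (0, [0, 0], 0), (3, [0, 0], 7), (0, [0], 6), (0, [0, 0], 6), (2, [0], 10), (1, [0, 0], 5), (2, [0, 0], 8), (0, [0], 15), (0, [0], 6), (3, [0, 0], 4), (1, [0], 13)] }]
  leaves := [[{ tag := 0, h := [2, 5], exps := [([1, 0], 8)] },
     { tag := 2, h := [], exps := [([0, 1, 0, 1], 9)] },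
     { tag := 0, h := [2, 5], exps := [([0, 1, 1, 0, 1, 0, 1, 1, 0, 0, 1], 10)] },
     { tag := 0, h := [2, 5], exps := [([0, 1, 1, 0, 1, 0, 1, 1, 0, 0, 1], 5)] }],
    [{ tag := 0, h := [2, 6, 3], exps := [([0, 1, 0], 15)] },
     { tag := 1, h := [], exps := [([1, 0, 1], 2)] },
     { tag := 0, h := [2, 5], exps := [([0, 1, 0, 1, 0, 0, 1, 1, 0, 1, 0], 11)] },
     { tag := 0, h := [2, 5], exps := [([1, 0, 1, 1, 0, 0, 1, 0, 1, 0, 0], 5)] }],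
    [{ tag := 0, h := [2, 5], exps := [([1, 0, 1, 1, 0, 0, 1, 0, 1, 1, 0], 8)] },
     { tag := 0, h := [2, 5], exps := [([0, 0, 1, 0, 1, 0, 0, 1, 0, 1, 1], 12)] },
     { tag := 0, h := [2, 6, 3], exps := [([0, 1, 0, 1, 0], 2)] },
     { tag := 0, h := [4, 6, 3, 0], exps := [([0, 0, 1], 2)] }],
    [{ tag := 0, h := [2, 5], exps := [([0, 0, 1, 0, 0, 1], 5)] },
     { tag := 0, h := [2, 5], exps := [([0, 1, 0, 0, 1, 1, 0, 1, 0, 0, 1], 2)] },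
     { tag := 0, h := [2, 4, 6, 1], exps := [([0, 0, 1, 0], 7)] },
     { tag := 0, h := [2, 5], exps := [([0, 0, 1, 0, 1], 15)] }]]
  targets := [[[6, 3, 8, 2]], [[6, 3, 8, 0, 3, 4]]]

end CfsgLib.SuzUnique
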