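import Cfsg.Agent.Lib.SuzUnique.Exist
import Cfsg.Agent.Lib.SuzUnique.TreeData

/-!
The stabiliser of the four-group contains the generators of both alternating sections.
-/

set_option autoImplicit false
set_option maxRecDepth 100000
set_option maxHeartbeats 1000000

namespace CfsgLib.SuzUnique

open CfsgLib.SuzType CfsgLib.SuzThree CfsgLib.Extraspecial CfsgLib.CosetEnum
open CfsgLib.UFourType (gen9 inv9)

/-- the pairs of indices below nine -/
def pairList : List (ℕ × ℕ) :=
  (List.range 9).flatMap fun j => ((List.range 9).filter fun k => Nat.blt j k).map fun k => (j, k)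

/-- the expression of a generator by the quotient of a pair of representatives -/
noncomputable def pairOK (el : List (List ℕ)) (N : SNode) (x : (ℕ × ℕ) × ℕ × List ℕ × ℕ) : Bool :=
  Nat.blt x.2.1 N.K.length &&
    expOK [inv9 (N.P.getD x.1.2 []) ++ N.P.getD x.1.1 []] (N.K.getD x.2.1 []) x.2.2.1 (el.getD x.2.2.2 [])

/-- the checks for a node -/
noncomputable def nodeOK (wa wb wt : List ℕ) (N : SNode) : Bool :=
  Nat.beq N.P.length 9 && Nat.beq N.pairs.length pairList.length &&
    N.P.all (fun u => normOK wa wb wt u) &&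
    (pairList.zip N.pairs).all fun x => pairOK (eList wa wb wt) N x

/-- the checks for a leaf -/
noncomputable def leafOK (el : List (List ℕ)) (M : Lin) (tg : List (List (List ℕ))) (gens : List (List ℕ))
    (L : SLeaf) : Bool :=
  match L.tag with
  | 0 => low L.h && Nat.beq L.exps.length 1 &&
      [M, rotC M, rotC (rotC M)].all (fun N => !(eqL (comp (comp (linW L.h) M) (linW (inv9 L.h))) N)) &&
      L.exps.all fun x => expOK gens L.h x.1 (el.getD x.2 [])
  | t + 1 => Nat.blt t tg.length && Nat.beq L.exps.length (tg.getD t []).length &&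
      ((tg.getD t []).zip L.exps).all fun x => expOK gens x.1 x.2.1 (el.getD x.2.2 [])

/-- the checks for a tree -/
noncomputable def treeOK (wa wb wt : List ℕ) (M : Lin) (T : STree) : Bool :=
  nodeOK wa wb wt T.root && Nat.beq T.subs.length T.root.K.length && Nat.beq T.leaves.length T.root.K.length &&
    (List.range T.root.K.length).all fun j =>
      match T.subs[j]?, T.leaves[j]? with
      | some N, some ls => nodeOK wa wb wt N && Nat.beq ls.length N.K.length &&
          (N.K.zip ls).all fun x => leafOK (eList wa wb wt) M T.targets [T.root.K.getD j [], x.1] x.2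
      | _, _ => false

theorem tree_one : treeOK wa1 wb1 wt1 F1 treeOne = true := by decide +kernel

theorem tree_two : treeOK wa2 wb2 wt2 F1 treeTwo = true := by decide +kernel

theorem targets_one : treeOne.targets = [[[3, 6, 3, 7, 0], wa2, wb2], [[3, 6, 3, 7, 4], wa2, wb2]] := rfl

theorem targets_two : treeTwo.targets = [[[6, 3, 8, 2]], [[6, 3, 8, 0, 3, 4]]] := rfl

variable {G : Type*} [Group G] [Finite G] {z y i p a s d : G} {Q : Subgroup G} {v : G → V6}

local notation "W" => prodW (gen9 i p a s d)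

omit [Finite G] in
theorem getD_fix {K : Subgroup G} {l : List (List ℕ)} (h : ∀ e ∈ l, W e ∈ K) (n : ℕ) : W (l.getD n []) ∈ K := by
  by_cases hn : n < l.length
  · rw [List.getD_eq_getElem _ _ hn]; exact h _ (List.getElem_mem _)
  · rw [List.getD_eq_default _ _ (by omega), prodW_nil]; exact one_mem _

namespace SF

variable (S : SF z Q v y i p a s d) {wa wb wt : List ℕ} {va vb : V6} {T : Lin} {reps : List Lin}
include S

theorem node_fix (hE : eOK wa wb wt va vb T reps = true) (hr : reps.length = 3)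
    (E : ED z Q v y (W wa) (W wb) (W wt) va vb T reps) {v0 : G} (hv : IsV z y (W wa) (W wb) v0)
    {N : SNode} (hN : nodeOK wa wb wt N = true) :
    ∃ c < N.K.length, W (N.K.getD c []) ∈ fixGrp y v0 S.y3 := by
  simp only [nodeOK, Bool.and_eq_true, Nat.beq_eq, List.all_eq_true] at hN
  obtain ⟨⟨⟨h9, hl⟩, hP⟩, hpairs⟩ := hN
  obtain ⟨j, k, hjk, hk, hmem⟩ := S.pigeon hr hE E hv N.P (by omega) hP
  have hj : j < N.P.length := lt_trans hjk hk
  rw [h9] at hk hj
  have hin : (j, k) ∈ pairList := by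
    simp only [pairList, List.mem_flatMap, List.mem_map, List.mem_filter, List.mem_range, Nat.blt_eq]
    exact ⟨j, hj, k, ⟨hk, hjk⟩, rfl⟩
  obtain ⟨n, hn, hnx⟩ := List.getElem_of_mem hin
  have hz : n < (pairList.zip N.pairs).length := by rw [List.length_zip, hl, min_self]; exact hn
  have hx := hpairs _ (List.getElem_mem hz)
  rw [List.getElem_zip, hnx] at hx
  simp only [pairOK, Bool.and_eq_true, Nat.blt_eq] at hx
  obtain ⟨hc, he⟩ := hx
  refine ⟨_, hc, S.exp_fix ?_ (getD_fix (fun e he => S.e_fix hE E hv he) _) he⟩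
  intro g hg
  simp only [List.mem_singleton] at hg
  subst hg
  rw [prodW_append, S.w_inv]
  · exact hmem
  · intro l hl'
    have := hP _ (List.getElem_mem (show k < N.P.length by omega))
    simp only [normOK, Bool.and_eq_true, List.all_eq_true, Nat.blt_eq] at this
    refine this.1 l ?_
    rwa [List.getD_eq_getElem _ _ (show k < N.P.length by omega)] at hl'

theorem tree_fix (hE : eOK wa wb wt va vb T reps = true) (hr : reps.length = 3)
    (E : ED z Q v y (W wa) (W wb) (W wt) va vb T reps) {v0 : G} {M : Lin} (hv : IsV z y (W wa) (W wb) v0)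
    (hA : Act Q v v0 M) {t : STree} (ht : treeOK wa wb wt M t = true) :
    ∃ j < t.targets.length, ∀ g ∈ t.targets.getD j [], W g ∈ fixGrp y v0 S.y3 := by
  simp only [treeOK, Bool.and_eq_true, Nat.beq_eq, List.all_eq_true, List.mem_range] at ht
  obtain ⟨⟨⟨hroot, -⟩, -⟩, hkids⟩ := ht
  obtain ⟨c, hc, hcf⟩ := S.node_fix hE hr E hv hroot
  have hk := hkids c hc
  split at hk
  case h_2 => exact absurd hk (by decide)
  rename_i N ls _ _
  simp only [Bool.and_eq_true, Nat.beq_eq, List.all_eq_true] at hk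
  obtain ⟨⟨hN, hlen⟩, hleaf⟩ := hk
  obtain ⟨c', hc', hcf'⟩ := S.node_fix hE hr E hv hN
  have hz : c' < (N.K.zip ls).length := by rw [List.length_zip, hlen, min_self]; exact hc'
  have hx := hleaf _ (List.getElem_mem hz)
  rw [List.getElem_zip] at hx
  rw [List.getD_eq_getElem _ _ hc'] at hcf'
  set L := ls[c']'(by omega) with hL
  have hgens : ∀ g ∈ [t.root.K.getD c [], N.K[c']], W g ∈ fixGrp y v0 S.y3 := by
    intro g hg
    simp only [List.mem_cons, List.not_mem_nil, or_false] at hg
    rcases hg with rfl | rfl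
    exacts [hcf, hcf']
  unfold leafOK at hx
  split at hx
  · simp only [Bool.and_eq_true, Nat.beq_eq] at hx
    obtain ⟨⟨⟨hlow, hlen1⟩, hbad⟩, hex⟩ := hx
    obtain ⟨x, hxm⟩ := List.exists_mem_of_length_pos (show 0 < L.exps.length by omega)
    exact (S.bad_fix hv.2.2.1 hA hlow hbad
      (S.exp_fix hgens (getD_fix (fun e he => S.e_fix hE E hv he) _) (List.all_eq_true.mp hex x hxm))).elim
  · rename_i j _
    simp only [Bool.and_eq_true, Nat.beq_eq, Nat.blt_eq, List.all_eq_true] at hx
    obtain ⟨⟨hj, hlt⟩, hex⟩ := hx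
    refine ⟨j, hj, fun g hg => ?_⟩
    obtain ⟨n, hn, rfl⟩ := List.getElem_of_mem hg
    have hz' : n < ((t.targets.getD j []).zip L.exps).length := by rw [List.length_zip, hlt, min_self]; exact hn
    have he := hex _ (List.getElem_mem hz')
    rw [List.getElem_zip] at he
    exact S.exp_fix hgens (getD_fix (fun e he => S.e_fix hE E hv he) _) he

/-- The four-group has both elementary groups and both alternating sections in its stabiliser. -/
theorem exists_stab : ∃ v1, ∃ g1 ∈ ([[3, 6, 3, 7, 0], [3, 6, 3, 7, 4]] : List (List ℕ)),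
    ∃ g2 ∈ ([[6, 3, 8, 2], [6, 3, 8, 0, 3, 4]] : List (List ℕ)),
    IsV z y (W wa1) (W wb1) v1 ∧ IsV z y (W wa2) (W wb2) v1 ∧ Act Q v v1 F1 ∧
      W g1 ∈ fixGrp y v1 S.y3 ∧ W g2 ∈ fixGrp y v1 S.y3 := by
  obtain ⟨v1, hv, hA⟩ := S.exists_v1
  obtain ⟨j, hj, hgs⟩ := S.tree_fix e_one rfl S.eD1 hv hA tree_one
  rw [targets_one] at hj hgs
  have key : ∃ g1 ∈ ([[3, 6, 3, 7, 0], [3, 6, 3, 7, 4]] : List (List ℕ)),
      W g1 ∈ fixGrp y v1 S.y3 ∧ W wa2 ∈ fixGrp y v1 S.y3 ∧ W wb2 ∈ fixGrp y v1 S.y3 := by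
    match j, hj with
    | 0, _ => exact ⟨_, by simp, hgs [3, 6, 3, 7, 0] (by simp), hgs wa2 (by simp), hgs wb2 (by simp)⟩
    | 1, _ => exact ⟨_, by simp, hgs [3, 6, 3, 7, 4] (by simp), hgs wa2 (by simp), hgs wb2 (by simp)⟩
    | n + 2, h => exact absurd h (by simp)
  obtain ⟨g1, hg1, hf1, hfa, hfb⟩ := key
  have E2 := S.eD2
  obtain ⟨-, ⟨-, -, -, qa, qb, -⟩, -⟩ := E2.parts
  have hv2 : IsV z y (W wa2) (W wb2) v1 := by
    have ca := fix_invol S.y3 hv hfa ((S.co.sq _ E2.aQ.1).mp (by rw [E2.av]; exact qa))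
    have cb := fix_invol S.y3 hv hfb ((S.co.sq _ E2.bQ.1).mp (by rw [E2.bv]; exact qb))
    obtain ⟨h1, h2, h3, -, -, h6⟩ := hv
    exact ⟨h1, h2, h3, ca.symm, cb.symm, h6⟩
  obtain ⟨j', hj', hgs'⟩ := S.tree_fix e_two rfl E2 hv2 hA tree_two
  rw [targets_two] at hj' hgs'
  match j', hj' with
  | 0, _ => exact ⟨v1, g1, hg1, [6, 3, 8, 2], by simp, hv, hv2, hA, hf1, hgs' _ (by simp)⟩
  | 1, _ => exact ⟨v1, g1, hg1, [6, 3, 8, 0, 3, 4], by simp, hv, hv2, hA, hf1, hgs' _ (by simp)⟩
  | n + 2, h => exact absurd h (by simp)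

end SF

end CfsgLib.SuzUnique
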